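/-
SL_n over a finite field is generated by three conjugate regular unipotent elements (n ≥ 3).
Main result (namespace `Cfsg.Agent.RegUnip`): `exists_three_generators`.
The upper Jordan block U, U * x_{1n}(t) and a lower Jordan block generate: commutators of transvections
turn the coefficients at x_{1n} into a subfield containing a generator of the field.
-/
import Cfsg.Agent.Lib.Transvect.Monomial
import Cfsg.Agent.Lib.NilpotentCount.Basic

set_option autoImplicit false
set_option linter.unusedSectionVars false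

namespace Cfsg.Agent.RegUnip

open Matrix Cfsg.Agent.Transvect
open scoped MatrixGroups

attribute [-simp] app_apply

variable {ι : Type} [Fintype ι] [DecidableEq ι] {F : Type*} [Field F]

/-- Transvections with a common axis multiply by adding centres. -/
theorem tv_add_center {w z : ι → F} {φ : (ι → F) →ₗ[F] F} (hw : φ w = 0) (hz : φ z = 0) :
    tv (w + z) φ = tv w φ * tv z φ := by
  refine gl_ext fun x => ?_
  rw [map_mul, LinearEquiv.mul_apply, tv_apply (by rw [map_add, hw, hz, add_zero]), tv_apply hz, tv_apply hw,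
    map_add, map_smul, hz, smul_eq_mul, mul_zero, add_zero, smul_add]
  abel

/-- Two transvections in a subgroup with one incidence give the product transvection. -/
theorem tv_comm_mem {M : Subgroup (GL ι F)} {v w : ι → F} {φ ψ : (ι → F) →ₗ[F] F}
    (hφ : φ v = 0) (hψ : ψ w = 0) (hφw : φ w = 0) (hv : tv v φ ∈ M) (hw : tv w ψ ∈ M) :
    tv w (ψ v • φ) ∈ M := by
  have h1 : tv w ψ * tv v φ * (tv w ψ)⁻¹ = tv v φ * tv w (ψ v • φ) := by
    rw [mul_inv_eq_iff_eq_mul]
    refine gl_ext fun x => ?_
    simp only [map_mul, LinearEquiv.mul_apply]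
    rw [tv_apply hφ, tv_apply hψ, tv_apply hψ, tv_apply (φ := ψ v • φ) (by simp [hφw]), tv_apply hφ]
    simp only [map_add, map_smul, LinearMap.smul_apply, smul_eq_mul, hφw, hψ, mul_zero, add_zero]
    rw [add_smul, mul_comm (φ x) (ψ v)]
    abel
  have h2 := mul_mem (mul_mem hw hv) (inv_mem hw)
  rw [h1] at h2
  simpa using mul_mem (inv_mem hv) h2

section chain

variable {n : ℕ}

/-- The regular nilpotent upper matrix. -/
def upN (F : Type*) [Field F] (n : ℕ) : Matrix (Fin n) (Fin n) F := (NilpotentCount.chainMat F n)ᵀ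

theorem upN_apply (i j : Fin n) : upN F n i j = if (j : ℕ) = i + 1 then 1 else 0 := rfl

theorem upN_pow_self : upN F n ^ n = 0 := by
  rw [upN, ← Matrix.transpose_pow, NilpotentCount.chainMat_pow_eq_zero, Matrix.transpose_zero]

theorem upN_mulVec (i : Fin n) : upN F n *ᵥ Pi.single i (1 : F) =
    if h : (i : ℕ) = 0 then 0 else Pi.single ⟨i - 1, by omega⟩ 1 := by
  funext k
  rw [Matrix.mulVec_single_one]
  change upN F n k i = _
  rw [upN_apply]
  split_ifs with h1 h2 h2
  · omega
  · rw [show (⟨(i : ℕ) - 1, by omega⟩ : Fin n) = k from Fin.ext (by simp; omega), Pi.single_eq_same]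
  · rfl
  · rw [Pi.single_eq_of_ne (fun e => h1 (by rw [e]; simp; omega))]

theorem upN_pow_mulVec (j : ℕ) : ∀ i : Fin n, (hj : j ≤ (i : ℕ)) →
    (upN F n ^ j) *ᵥ Pi.single i (1 : F) = Pi.single ⟨i - j, by omega⟩ 1 := by
  induction j with
  | zero => intro i _; rw [pow_zero, Matrix.one_mulVec]; rfl
  | succ j ih =>
    intro i hj
    rw [pow_succ, ← Matrix.mulVec_mulVec, upN_mulVec, dif_neg (by omega), ih _ (by simp; omega)]
    congr 2
    simp; omega

theorem upN_pow_ne_zero (hn : 0 < n) : upN F n ^ (n - 1) ≠ 0 := by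
  intro h
  have h1 := upN_pow_mulVec (F := F) (n - 1) (⟨n - 1, by omega⟩ : Fin n) le_rfl
  rw [h, Matrix.zero_mulVec] at h1
  have := congrFun h1 ⟨0, hn⟩
  simp at this

/-- `1 + N` as an element of SL. -/
def upU (F : Type*) [Field F] (n : ℕ) : Matrix.SpecialLinearGroup (Fin n) F :=
  ⟨1 + upN F n, by
    have h : (1 + upN F n).BlockTriangular id := fun i j hij => by
      have hij' : (j : ℕ) < i := hij
      rw [Matrix.add_apply, Matrix.one_apply_ne (fun e => by subst e; omega), upN_apply, if_neg (by omega), add_zero]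
    rw [Matrix.det_of_isUpperTriangular h]
    refine Finset.prod_eq_one fun i _ => ?_
    rw [Matrix.add_apply, Matrix.one_apply_eq, upN_apply, if_neg (by omega), add_zero]⟩

end chain

variable {n : ℕ}

/-- The GL image of `upU`. -/
noncomputable def upG (F : Type*) [Field F] (n : ℕ) : GL (Fin n) F := SpecialLinearGroup.toGL (upU F n)

theorem app_upG_ee (i : Fin n) : app (upG F n) (ee i) =
    ee i + if h : (i : ℕ) = 0 then 0 else ee ⟨i - 1, by omega⟩ := by
  change (1 + upN F n) *ᵥ Pi.single i 1 = _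
  rw [Matrix.add_mulVec, Matrix.one_mulVec, upN_mulVec]

theorem last_upG (hn : 0 < n) (x : Fin n → F) : app (upG F n) x ⟨n - 1, by omega⟩ = x ⟨n - 1, by omega⟩ := by
  change ((1 + upN F n) *ᵥ x) _ = _
  rw [Matrix.add_mulVec, Matrix.one_mulVec, Pi.add_apply, Matrix.mulVec, dotProduct, Finset.sum_eq_zero, add_zero]
  intro j _
  rw [upN_apply, if_neg (by have := j.2; simp; omega), zero_mul]

theorem pen_upG (hn : 2 ≤ n) (x : Fin n → F) :
    app (upG F n) x ⟨n - 2, by omega⟩ = x ⟨n - 2, by omega⟩ + x ⟨n - 1, by omega⟩ := by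
  change ((1 + upN F n) *ᵥ x) _ = _
  rw [Matrix.add_mulVec, Matrix.one_mulVec, Pi.add_apply, Matrix.mulVec, dotProduct, Finset.sum_eq_single ⟨n - 1, by omega⟩]
  · rw [upN_apply, if_pos (by simp; omega), one_mul]
  · intro j _ hj
    rw [upN_apply, if_neg (fun e => hj (Fin.ext (by simp at e ⊢; omega))), zero_mul]
  · exact fun h => absurd (Finset.mem_univ _) h

theorem app_upG_zero (hn : 0 < n) : app (upG F n) (ee ⟨0, hn⟩) = ee ⟨0, hn⟩ := by
  rw [app_upG_ee, dif_pos rfl, add_zero]

theorem exists_three_generators {F : Type*} [Field F] [Finite F] (n : ℕ) (hn : 3 ≤ n) :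
    ∃ g h : Matrix.SpecialLinearGroup (Fin n) F,
      Subgroup.closure ({upU F n, g * upU F n * g⁻¹, h * upU F n * h⁻¹} : Set (Matrix.SpecialLinearGroup (Fin n) F)) = ⊤ := by
  classical
  have := Fintype.ofFinite F
  obtain ⟨γ, hγ⟩ := IsCyclic.exists_generator (α := Fˣ)
  let i0 : Fin n := ⟨0, by omega⟩
  let il : Fin n := ⟨n - 1, by omega⟩
  let ip : Fin n := ⟨n - 2, by omega⟩
  -- the reversing monomial element
  let π : Equiv.Perm (Fin n) := Fin.revPerm
  let ε : Fˣ := Units.map (Int.castRingHom F).toMonoidHom (Equiv.Perm.sign π)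
  let c : Fin n → Fˣ := fun i => if i = i0 then ε else 1
  have hdet : ((pg π * dg c : GL (Fin n) F) : Matrix (Fin n) (Fin n) F).det = 1 := by
    rw [det_pg_dg, Finset.prod_eq_single i0 (fun j _ hj => by simp [c, hj]) (by simp)]
    have : (ε : F) * ε = 1 := by
      rw [← Units.val_mul, ← map_mul, Int.units_mul_self, map_one, Units.val_one]
    simpa [c, ε] using this
  let g : Matrix.SpecialLinearGroup (Fin n) F := ⟨_, hdet⟩
  set G : GL (Fin n) F := pg π * dg c with hG
  have hgG : SpecialLinearGroup.toGL g = G := Units.ext rfl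
  set U := upG F n with hU
  set V : GL (Fin n) F := G * U * G⁻¹ with hV
  let b : Fin n → F := fun k =>
    if h : (k : ℕ) + 1 < n then (c ⟨n - 1 - k - 1, by omega⟩ : F) / (c ⟨n - 1 - k, by omega⟩ : F) else 0
  have hb : ∀ k : Fin n, (k : ℕ) + 1 < n → b k ≠ 0 := fun k h => by
    simp only [b, dif_pos h]
    exact div_ne_zero (Units.ne_zero _) (Units.ne_zero _)
  have hVee : ∀ k : Fin n, app V (ee k) = ee k + if h : (k : ℕ) + 1 < n then b k • ee ⟨k + 1, h⟩ else 0 := by
    intro k
    let i : Fin n := ⟨n - 1 - k, by omega⟩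
    have hik : π i = k := Fin.ext (by simp [π, i, Fin.val_rev]; omega)
    have h1 : app V (app G (ee i)) = app G (app U (ee i)) := by
      simp only [hV, map_mul, LinearEquiv.mul_apply, app_inv_app]
    rw [app_pg_dg_ee, hik, map_smul, app_upG_ee, map_add, app_pg_dg_ee, hik] at h1
    have hc0 : (c i : F) ≠ 0 := Units.ne_zero _
    refine smul_right_injective _ hc0 ?_
    simp only
    rw [h1, smul_add]
    congr 1
    by_cases h : (k : ℕ) + 1 < n
    · rw [dif_neg (by simp [i]; omega), dif_pos h, app_pg_dg_ee, smul_smul]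
      congr 1
      · simp only [b, dif_pos h]
        rw [mul_div_cancel₀ _ hc0]
      · congr 1
        exact Fin.ext (by simp [π, i, Fin.val_rev]; omega)
    · rw [dif_pos (by simp [i]; omega), dif_neg h, map_zero, smul_zero]
  -- row k of V
  have hVrow : ∀ (k : Fin n) (hk : 1 ≤ (k : ℕ)) (x : Fin n → F),
      app V x k = x k + b ⟨k - 1, by omega⟩ * x ⟨k - 1, by omega⟩ := by
    intro k hk x
    have h : ((LinearMap.proj k).comp (app V).toLinearMap : (Fin n → F) →ₗ[F] F) =
        LinearMap.proj k + b ⟨k - 1, by omega⟩ • LinearMap.proj ⟨k - 1, by omega⟩ := by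
      refine dual_ext_ee fun j => ?_
      simp only [LinearMap.comp_apply, LinearEquiv.coe_coe, LinearMap.proj_apply, LinearMap.add_apply,
        LinearMap.smul_apply, smul_eq_mul, hVee, Pi.add_apply, ee]
      congr 1
      by_cases hj : (j : ℕ) + 1 = k
      · rw [dif_pos (by omega), show (⟨(k : ℕ) - 1, by omega⟩ : Fin n) = j from Fin.ext (by simp; omega)]
        rw [Pi.smul_apply, show (⟨(j : ℕ) + 1, by omega⟩ : Fin n) = k from Fin.ext hj]
        simp
      · rw [Pi.single_eq_of_ne (fun e => hj (by rw [← e]; simp; omega)), mul_zero]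
        split_ifs with h'
        · rw [Pi.smul_apply, Pi.single_eq_of_ne (fun e => hj (by rw [e])), smul_zero]
        · rfl
    exact LinearMap.congr_fun h x
  have hVrow0 : ∀ x : Fin n → F, app V x i0 = x i0 := by
    intro x
    have h : ((LinearMap.proj i0).comp (app V).toLinearMap : (Fin n → F) →ₗ[F] F) = LinearMap.proj i0 := by
      refine dual_ext_ee fun j => ?_
      simp only [LinearMap.comp_apply, LinearEquiv.coe_coe, LinearMap.proj_apply, hVee, Pi.add_apply]
      rw [add_eq_left]
      split_ifs with h'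
      · rw [Pi.smul_apply, ee, Pi.single_eq_of_ne (fun e => by simpa [i0] using congrArg Fin.val e), smul_zero]
      · rfl
    exact LinearMap.congr_fun h x
  set φ : (Fin n → F) →ₗ[F] F := LinearMap.proj il with hφdef
  set e : Fin n → F := ee i0 with he
  have hi0l : i0 ≠ il := fun h => by simp [i0, il] at h; omega
  have hφe : φ e = 0 := by simp [hφdef, he, ee, hi0l.symm]
  -- the last coordinate of V⁻¹ e
  set s : F := app V⁻¹ e il with hs
  have hs0 : s ≠ 0 := by
    have key : ∀ (k : ℕ) (hk : k < n), app V⁻¹ e ⟨k, hk⟩ ≠ 0 := by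
      intro k
      induction k with
      | zero =>
        intro hk h0
        have := hVrow0 (app V⁻¹ e)
        rw [app_app_inv] at this
        rw [show (⟨0, hk⟩ : Fin n) = i0 from rfl] at h0
        rw [h0] at this
        simp [he, ee] at this
      | succ k ih =>
        intro hk h0
        have := hVrow ⟨k + 1, hk⟩ (by simp) (app V⁻¹ e)
        rw [app_app_inv, h0, zero_add, he, ee, Pi.single_eq_of_ne (fun e' => by simpa [i0] using congrArg Fin.val e')] at this
        rcases mul_eq_zero.1 this.symm with h | h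
        · exact hb _ (by simp; omega) h
        · exact ih (by omega) (by simpa using h)
    exact key _ _
  let i1 : Fin n := ⟨1, by omega⟩
  have hw : app V e = e + b i0 • ee i1 := by rw [he, hVee, dif_pos (by simp [i0]; omega)]
  set cc : F := s * b i0 with hcc
  have hcc0 : cc ≠ 0 := mul_ne_zero hs0 (hb i0 (by simp [i0]; omega))
  set t : F := (γ : F) / cc with ht
  set T : GL (Fin n) F := tv e (t • φ) with hT
  -- the third conjugate
  set ψp : (Fin n → F) →ₗ[F] F := t • LinearMap.proj ip with hψp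
  have hip : ip ≠ i0 := fun h => by simp [i0, ip] at h; omega
  have hψe : ψp e = 0 := by simp [hψp, he, ee, hip]
  have hh : tv e ψp * U = U * T * tv e ψp := by
    refine gl_ext fun x => ?_
    have hUe : app U e = e := app_upG_zero _
    simp only [map_mul, LinearEquiv.mul_apply]
    rw [tv_apply hψe, tv_apply hψe, hT, tv_apply (φ := t • φ) (by simp [hφe])]
    simp only [map_add, map_smul, hUe]
    simp only [hψp, hφdef, LinearMap.smul_apply, LinearMap.proj_apply, smul_eq_mul, hU]
    rw [pen_upG (by omega) x]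
    simp [he, ee, hi0l.symm, il, ip]
    rw [mul_add, add_smul, add_assoc]
  let h : Matrix.SpecialLinearGroup (Fin n) F := ⟨(tv e ψp : GL (Fin n) F), mem_sl_iff.1 (tv_mem_sl e ψp)⟩
  refine ⟨g, h, ?_⟩
  set H := Subgroup.closure ({upU F n, g * upU F n * g⁻¹, h * upU F n * h⁻¹} : Set (Matrix.SpecialLinearGroup (Fin n) F))
  let M : Subgroup (GL (Fin n) F) := H.map SpecialLinearGroup.toGL
  have hhh : SpecialLinearGroup.toGL h = tv e ψp := Units.ext rfl
  have hUM : U ∈ M := ⟨upU F n, Subgroup.subset_closure (by simp), rfl⟩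
  have hVM : V ∈ M := ⟨g * upU F n * g⁻¹, Subgroup.subset_closure (by simp), by
    rw [map_mul, map_mul, map_inv, hgG]; rfl⟩
  have hTM : T ∈ M := by
    have : U * T ∈ M := ⟨h * upU F n * h⁻¹, Subgroup.subset_closure (by simp), by
      rw [map_mul, map_mul, map_inv, hhh]
      exact (mul_inv_eq_iff_eq_mul).2 hh⟩
    simpa using mul_mem (inv_mem hUM) this
  -- the coefficients form a ring
  have hUφ : ∀ (a : F), (a • φ) ∘ₗ (app U⁻¹).toLinearMap = a • φ := by
    intro a
    refine LinearMap.ext fun x => ?_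
    simp only [LinearMap.comp_apply, LinearEquiv.coe_coe, LinearMap.smul_apply, hφdef, LinearMap.proj_apply]
    congr 1
    have := last_upG (F := F) (by omega : 0 < n) (app U⁻¹ x)
    rw [← hU, app_app_inv] at this
    exact this.symm
  have add_mem_coef : ∀ a a' : F, tv e (a • φ) ∈ M → tv e (a' • φ) ∈ M → tv e ((a + a') • φ) ∈ M := by
    intro a a' h1 h2
    rw [add_smul, tv_add (by simp [hφe]) (by simp [hφe])]
    exact mul_mem h1 h2
  have mul_mem_coef : ∀ a a' : F, tv e (a • φ) ∈ M → tv e (a' • φ) ∈ M → tv e ((a * a' * cc) • φ) ∈ M := by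
    intro a a' h1 h2
    have h3 := mul_mem (mul_mem hVM h2) (inv_mem hVM)
    rw [tv_conj (by simp [hφe])] at h3
    have hψw : ((a' • φ) ∘ₗ (app V⁻¹).toLinearMap) (app V e) = 0 := by
      simp only [LinearMap.comp_apply, LinearEquiv.coe_coe, app_inv_app, LinearMap.smul_apply, hφe, smul_zero]
    have hφV : φ (app V e) = 0 := by
      have : il ≠ i1 := fun h => by simp [il, i1] at h; omega
      rw [hw]
      simp [hφdef, he, ee, hi0l.symm, this]
    have hφw : (a • φ) (app V e) = 0 := by rw [LinearMap.smul_apply, hφV, smul_zero]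
    have h4 := tv_comm_mem (v := e) (w := app V e) (by simp [hφe]) hψw hφw h1 h3
    rw [LinearMap.comp_apply, LinearEquiv.coe_coe, LinearMap.smul_apply, smul_eq_mul,
      show φ (app V⁻¹ e) = s from rfl, smul_smul] at h4
    set d : F := a' * s * a with hd
    have hdw : (d • φ) (app V e) = 0 := by rw [LinearMap.smul_apply, hφV, smul_zero]
    have h6 := mul_mem (mul_mem hUM h4) (inv_mem hUM)
    rw [tv_conj hdw, hUφ] at h6
    have hd1 : (d • φ) (b i0 • e) = 0 := by simp [hφe]
    have hUw : app U (app V e) = app V e + b i0 • e := by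
      rw [hw, map_add, map_smul, app_upG_zero, app_upG_ee, dif_neg (by simp [i1])]
      rw [smul_add, ← add_assoc]
      rfl
    have hprod : tv (app U (app V e)) (d • φ) = tv (app V e) (d • φ) * tv (b i0 • e) (d • φ) := by
      rw [hUw]
      exact tv_add_center hdw hd1
    rw [hprod] at h6
    have h7 := mul_mem (inv_mem h4) h6
    rw [inv_mul_cancel_left, tv_smul (by simp [hφe]), smul_smul] at h7
    rwa [show b i0 * d = a * a' * cc by rw [hd, hcc]; ring] at h7
  have hall : ∀ a : F, tv e (a • φ) ∈ M := by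
    intro a
    have hp : ∀ k : ℕ, tv e ((((γ : F) ^ (k + 1)) / cc) • φ) ∈ M := by
      intro k
      induction k with
      | zero => rw [zero_add, pow_one]; exact hTM
      | succ k ih =>
        have := mul_mem_coef _ _ ih (show tv e (((γ : F) / cc) • φ) ∈ M from hTM)
        rwa [show (γ : F) ^ (k + 1) / cc * ((γ : F) / cc) * cc = (γ : F) ^ (k + 1 + 1) / cc by
          field_simp; ring] at this
    rcases eq_or_ne a 0 with rfl | ha
    · rw [zero_smul, tv_zero]; exact one_mem _
    obtain ⟨k, hk⟩ := mem_powers_iff_mem_zpowers.2 (hγ (Units.mk0 (a * cc) (mul_ne_zero ha hcc0)))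
    have hk' : (γ : F) ^ (k + orderOf γ) = a * cc := by
      have : γ ^ (k + orderOf γ) = Units.mk0 (a * cc) (mul_ne_zero ha hcc0) := by
        rw [pow_add, pow_orderOf_eq_one, mul_one]; exact hk
      rw [← Units.val_pow_eq_pow_val, this, Units.val_mk0]
    have h1 := hp (k + orderOf γ - 1)
    rw [Nat.sub_add_cancel (by have := orderOf_pos γ; omega), hk', mul_div_cancel_right₀ _ hcc0] at h1
    exact h1
  -- all axes at e
  have hax : φ ∈ axes M e := ⟨hφe, hall⟩
  have hstep : ∀ k : Fin n, 2 ≤ (k : ℕ) → LinearMap.proj k ∈ axes M e →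
      (LinearMap.proj ⟨k - 1, by omega⟩ : (Fin n → F) →ₗ[F] F) ∈ axes M e := by
    intro k hk hP
    have h1 : ((LinearMap.proj k : (Fin n → F) →ₗ[F] F).comp (app V).toLinearMap) =
        LinearMap.proj k + b ⟨k - 1, by omega⟩ • LinearMap.proj ⟨k - 1, by omega⟩ :=
      LinearMap.ext fun x => hVrow k (by omega) x
    have hP' := axes_conj (inv_mem hVM) hP
    rw [inv_inv, h1] at hP'
    set χ := (LinearMap.proj k : (Fin n → F) →ₗ[F] F) + b ⟨k - 1, by omega⟩ • LinearMap.proj ⟨k - 1, by omega⟩
    have hχe : χ e = 0 := by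
      have h2 : k ≠ i0 := fun h => by rw [h] at hk; simp [i0] at hk
      have h3 : (⟨(k : ℕ) - 1, by omega⟩ : Fin n) ≠ i0 := fun h => by simp [i0] at h; omega
      simp [χ, he, ee, h2, h3]
    have h4 : χ ∈ axes M e := ⟨hχe, fun a => by
      have := tv_comm_mem (M := M) (v := app V⁻¹ e) (w := e) (φ := (a / s) • χ) (ψ := (1 : F) • φ)
        (by rw [LinearMap.smul_apply, hP'.1, smul_zero]) (by simp [hφe]) (by simp [hχe]) (hP'.2 _) (hax.2 1)
      rwa [one_smul, show φ (app V⁻¹ e) = s from rfl, smul_smul, mul_div_cancel₀ _ hs0] at this⟩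
    have h5 := Submodule.smul_mem _ (b ⟨k - 1, by omega⟩)⁻¹ (Submodule.sub_mem _ h4 hP)
    simpa [χ, smul_smul, inv_mul_cancel₀ (hb ⟨(k : ℕ) - 1, by omega⟩ (by simp; omega))] using h5
  have hproj : ∀ (j : ℕ), j + 2 ≤ n → (LinearMap.proj ⟨n - 1 - j, by omega⟩ : (Fin n → F) →ₗ[F] F) ∈ axes M e := by
    intro j
    induction j with
    | zero => intro _; exact hax
    | succ j ih =>
      intro hj
      have := hstep ⟨n - 1 - j, by omega⟩ (by simp; omega) (ih (by omega))
      rwa [show (⟨n - 1 - (j + 1), by omega⟩ : Fin n) = ⟨((⟨n - 1 - j, by omega⟩ : Fin n) : ℕ) - 1, by simp; omega⟩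
        from Fin.ext (by simp; omega)]
  have hfull : IsFull M e := by
    intro χ hχ
    have hχ' : χ = ∑ k : Fin n, χ (ee k) • LinearMap.proj k := dual_ext_ee fun j => by
      simp [LinearMap.sum_apply, Pi.single_apply]
    rw [hχ']
    refine Submodule.sum_mem _ fun k _ => ?_
    by_cases hk : k = i0
    · rw [hk, show χ (ee i0) = 0 from hχ, zero_smul]; exact Submodule.zero_mem _
    · refine Submodule.smul_mem _ _ ?_
      have hk' : (k : ℕ) ≠ 0 := fun h => hk (Fin.ext h)
      have := hproj (n - 1 - k) (by omega)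
      rwa [show (⟨n - 1 - (n - 1 - (k : ℕ)), by omega⟩ : Fin n) = k from Fin.ext (by simp; omega)] at this
  have hcoord : ∀ (k : ℕ) (hk : k < n), ee (F := F) ⟨k, hk⟩ ∈ fullSub M := by
    intro k
    induction k with
    | zero => intro hk; exact Or.inr hfull
    | succ k ih =>
      intro hk
      have h1 := ih (by omega)
      have h2 : app V (ee ⟨k, by omega⟩) ∈ fullSub M := by
        rcases h1 with h1 | h1
        · exact Or.inl (by rw [h1, map_zero])
        · exact Or.inr (h1.conj hVM)
      rw [hVee, dif_pos hk] at h2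
      have h3 := Submodule.smul_mem _ (b ⟨k, by omega⟩)⁻¹ (Submodule.sub_mem _ h2 h1)
      simpa [smul_smul, inv_mul_cancel₀ (hb ⟨k, by omega⟩ hk)] using h3
  have htop : fullSub M = ⊤ := by
    rw [eq_top_iff]
    intro x _
    rw [pi_eq_sum_univ' x]
    exact Submodule.sum_mem _ fun k _ => Submodule.smul_mem _ _ (hcoord k k.2)
  rw [eq_top_iff]
  intro x _
  obtain ⟨y, hy, hyx⟩ := sl_le_of_fullSub M htop (show SpecialLinearGroup.toGL x ∈ Cfsg.Geo.specialLinear (Fin n) F from mem_sl_iff.2 x.2)
  rwa [← SpecialLinearGroup.toGL_injective hyx]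

end Cfsg.Agent.RegUnip
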