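/-
A subgroup of GL_n containing the upper Jordan block and transvections with first-coordinate axis.
Main results (namespace `Cfsg.Agent.RegUnip.Pair`): `Coef`, `coef_comm`, `coef_zero_step`, `sl_le_of_coef`,
`top_of_normal`, `sf_one`, `sf_two`, `sf_three`, `sf_prime_pow`.
-/
import Cfsg.Agent.Lib.RegUnip.SLn
import Cfsg.Agent.Lib.Linear.SLn

set_option autoImplicit false
set_option linter.unusedSectionVars false

namespace Cfsg.Agent.RegUnip.Pair

open Matrix Cfsg.Agent.Transvect
open scoped MatrixGroups commutatorElement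

attribute [-simp] app_apply

variable {F : Type*} [Field F] {n : ℕ} [NeZero n]

variable (F n) in
/-- The first coordinate. -/
def p0 : (Fin n → F) →ₗ[F] F := LinearMap.proj (0 : Fin n)

variable (F n) in
/-- The last basis vector. -/
def lastV : Fin n → F := ee (⟨n - 1, Nat.sub_lt (Nat.pos_of_ne_zero (NeZero.ne n)) one_pos⟩ : Fin n)

variable (F n) in
/-- The centres `U^m e`. -/
noncomputable def av (m : ℕ) : Fin n → F := app (upG F n ^ m) (lastV F n)

variable (F n) in
/-- The axes `φ ∘ U^(-j)`. -/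
noncomputable def psi (j : ℕ) : (Fin n → F) →ₗ[F] F := (p0 F n).comp (app ((upG F n)⁻¹ ^ j)).toLinearMap

variable (F n) in
/-- The values `φ (U^(-j) e)`. -/
noncomputable def sf (j : ℕ) : F := psi F n j (lastV F n)

theorem av_zero : av F n 0 = lastV F n := by
  rw [av, pow_zero, map_one]; rfl

theorem av_succ (m : ℕ) : av F n (m + 1) = app (upG F n) (av F n m) := by
  rw [av, av, pow_succ', map_mul, LinearEquiv.mul_apply]

theorem psi_zero : psi F n 0 = p0 F n := by
  refine LinearMap.ext fun x => ?_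
  rw [psi, pow_zero, map_one]; rfl

theorem psi_av (j k : ℕ) (h : k ≤ j) : psi F n j (av F n k) = sf F n (j - k) := by
  obtain ⟨r, rfl⟩ := Nat.exists_eq_add_of_le h
  rw [Nat.add_sub_cancel_left, psi, sf, psi, LinearMap.comp_apply, LinearMap.comp_apply, LinearEquiv.coe_coe,
    LinearEquiv.coe_coe, av, ← LinearEquiv.mul_apply, ← map_mul]
  congr 3
  rw [add_comm, pow_add, mul_assoc, inv_pow (upG F n) k, inv_mul_cancel, mul_one]

theorem psi_av_add (j k : ℕ) : psi F n j (av F n (j + k)) = p0 F n (av F n k) := by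
  rw [psi, LinearMap.comp_apply, LinearEquiv.coe_coe, av, av, ← LinearEquiv.mul_apply, ← map_mul]
  congr 3
  rw [pow_add, ← mul_assoc, inv_pow, inv_mul_cancel, one_mul]

theorem upG_coord (x : Fin n → F) (i : Fin n) :
    app (upG F n) x i = x i + if h : (i : ℕ) + 1 < n then x ⟨i + 1, h⟩ else 0 := by
  change ((1 + upN F n) *ᵥ x) i = _
  rw [Matrix.add_mulVec, Matrix.one_mulVec, Pi.add_apply, Matrix.mulVec, dotProduct]
  congr 1
  split_ifs with h
  · rw [Finset.sum_eq_single (⟨(i : ℕ) + 1, h⟩ : Fin n)]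
    · rw [upN_apply, if_pos rfl, one_mul]
    · intro b _ hb
      rw [upN_apply, if_neg (fun e => hb (Fin.ext e)), zero_mul]
    · exact fun h' => absurd (Finset.mem_univ _) h'
  · refine Finset.sum_eq_zero fun b _ => ?_
    rw [upN_apply, if_neg, zero_mul]
    intro e
    have := b.2
    omega

theorem av_support (m : ℕ) : ∀ i : Fin n, ((i : ℕ) + m + 1 < n → av F n m i = 0) ∧
    ((i : ℕ) + m + 1 = n → av F n m i = 1) := by
  induction m with
  | zero =>
    intro i
    rw [av_zero, lastV]
    refine ⟨fun h => Pi.single_eq_of_ne (fun e => by rw [e] at h; simp at h; omega) _, fun h => ?_⟩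
    rw [show (⟨n - 1, Nat.sub_lt (Nat.pos_of_ne_zero (NeZero.ne n)) one_pos⟩ : Fin n) = i from Fin.ext (by simp; omega)]
    simp [ee]
  | succ m ih =>
    intro i
    constructor
    · intro h
      rw [av_succ, upG_coord, dif_pos (by omega), (ih i).1 (by omega), (ih ⟨i + 1, _⟩).1 (by simp; omega), add_zero]
    · intro h
      rw [av_succ, upG_coord, dif_pos (by omega), (ih i).1 (by omega), (ih ⟨i + 1, _⟩).2 (by simp; omega), zero_add]

theorem p0_av {m : ℕ} (h : m + 2 ≤ n) : p0 F n (av F n m) = 0 :=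
  (av_support m (0 : Fin n)).1 (by simp; omega)

theorem p0_av_last : p0 F n (av F n (n - 1)) = 1 :=
  (av_support (n - 1) (0 : Fin n)).2 (by have := NeZero.ne n; simp; omega)

theorem p0_lastV (hn : 2 ≤ n) : p0 F n (lastV F n) = 0 := av_zero (F := F) (n := n) ▸ p0_av (m := 0) hn

/-- Vectors carried to `e` by powers of `U`. -/
theorem sf_eq {v : Fin n → F} {j : ℕ} (h : app (upG F n ^ j) v = lastV F n) : sf F n j = v 0 := by
  rw [sf, psi, LinearMap.comp_apply, LinearEquiv.coe_coe, ← h, ← LinearEquiv.mul_apply, ← map_mul, inv_pow,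
    inv_mul_cancel, map_one]
  rfl

variable (F n) in
/-- `U⁻ʲ e` for small `j`. -/
def wv (j : ℕ) : Fin n → F := fun i => (-1) ^ (n - 1 - (i : ℕ)) * (Nat.choose (n - 1 - i + j - 1) (j - 1) : F)

theorem wv_step (j : ℕ) (hj : 1 ≤ j) : app (upG F n) (wv F n (j + 1)) = wv F n j := by
  funext i
  rw [upG_coord]
  simp only [wv, Nat.add_sub_cancel]
  obtain ⟨j, rfl⟩ : ∃ k, j = k + 1 := ⟨j - 1, by omega⟩
  simp only [Nat.add_sub_cancel]
  have hi := i.2
  by_cases h : (i : ℕ) + 1 < n
  · rw [dif_pos h]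
    obtain ⟨d, hd⟩ : ∃ d, n - 1 - (i : ℕ) = d + 1 := ⟨n - 2 - i, by omega⟩
    rw [hd, show n - 1 - ((i : ℕ) + 1) = d by omega, show d + 1 + (j + 1 + 1) - 1 = (d + j + 1) + 1 by omega,
      show d + 1 + (j + 1) - 1 = d + j + 1 by omega, show d + (j + 1 + 1) - 1 = d + j + 1 by omega,
      Nat.choose_succ_succ']
    push_cast
    ring
  · rw [dif_neg h, show n - 1 - (i : ℕ) = 0 by omega]
    simp [Nat.choose_self]

theorem wv_one : app (upG F n) (wv F n 1) = lastV F n := by
  funext i
  rw [upG_coord, lastV]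
  simp only [wv, Nat.add_sub_cancel, Nat.sub_self, Nat.choose_zero_right, Nat.cast_one, mul_one]
  have hi := i.2
  by_cases h : (i : ℕ) + 1 < n
  · rw [dif_pos h, show n - 1 - (i : ℕ) = n - 1 - ((i : ℕ) + 1) + 1 by omega, pow_succ,
      ee, Pi.single_eq_of_ne (fun e => by rw [e] at h; simp at h; omega)]
    ring
  · rw [dif_neg h, show n - 1 - (i : ℕ) = 0 by omega, pow_zero, add_zero,
      show (⟨n - 1, Nat.sub_lt (Nat.pos_of_ne_zero (NeZero.ne n)) one_pos⟩ : Fin n) = i from Fin.ext (by simp; omega)]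
    simp [ee]

theorem wv_pow (j : ℕ) : app (upG F n ^ (j + 1)) (wv F n (j + 1)) = lastV F n := by
  induction j with
  | zero => rw [zero_add, pow_one]; exact wv_one
  | succ j ih => rw [pow_succ, map_mul, LinearEquiv.mul_apply, wv_step (j + 1) (by omega), ih]

theorem sf_wv (j : ℕ) : sf F n (j + 1) = (-1) ^ (n - 1) * (Nat.choose (n - 1 + j) j : F) := by
  rw [sf_eq (wv_pow j)]
  simp [wv]

theorem sf_one : sf F n 1 = (-1) ^ (n - 1) := by
  rw [show (1 : ℕ) = 0 + 1 from rfl, sf_wv]; simp

theorem sf_two : sf F n 2 = (-1) ^ (n - 1) * (n : F) := by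
  rw [show (2 : ℕ) = 1 + 1 from rfl, sf_wv, Nat.choose_one_right,
    Nat.sub_add_cancel (Nat.pos_of_ne_zero (NeZero.ne n))]

theorem sf_three : sf F n 3 = (-1) ^ (n - 1) * (Nat.choose (n + 1) 2 : F) := by
  have := NeZero.ne n
  rw [show (3 : ℕ) = 2 + 1 from rfl, sf_wv, show n - 1 + (1 + 1) = n + 1 by omega]

theorem sf_one_sq : sf F n 1 * sf F n 1 = 1 := by
  rw [sf_one, ← pow_add, ← two_mul, pow_mul, neg_one_sq, one_pow]

theorem sf_one_ne : sf F n 1 ≠ 0 := left_ne_zero_of_mul_eq_one sf_one_sq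

theorem upN_pow_coord (L : ℕ) : ∀ (x : Fin n → F) (i : Fin n),
    (upN F n ^ L *ᵥ x) i = if h : (i : ℕ) + L < n then x ⟨i + L, h⟩ else 0 := by
  induction L with
  | zero => intro x i; rw [pow_zero, Matrix.one_mulVec, dif_pos (by simp)]; simp
  | succ L ih =>
    intro x i
    rw [pow_succ, ← Matrix.mulVec_mulVec, ih]
    have hN : ∀ k : Fin n, (upN F n *ᵥ x) k = if h : (k : ℕ) + 1 < n then x ⟨k + 1, h⟩ else 0 := fun k => by
      have := upG_coord (F := F) x k
      change ((1 + upN F n) *ᵥ x) k = _ at this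
      rw [Matrix.add_mulVec, Matrix.one_mulVec, Pi.add_apply, add_right_inj] at this
      exact this
    by_cases h : (i : ℕ) + L < n
    · rw [dif_pos h, hN]
      by_cases h' : (i : ℕ) + L + 1 < n
      · rw [dif_pos h', dif_pos (by omega)]; rfl
      · rw [dif_neg h', dif_neg (by omega)]
    · rw [dif_neg h, dif_neg (by omega)]

/-- For `L` a power of the characteristic, `φ (U^-(L+1) e) = ±n/L`. -/
theorem sf_prime_pow (p : ℕ) [Fact p.Prime] [CharP F p] {v m : ℕ} (hn : n = p ^ v * m) :
    sf F n (p ^ v + 1) = (-1) ^ (n - 1) * (m : F) := by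
  set L := p ^ v with hL
  have hL0 : 0 < L := pow_pos (Fact.out : p.Prime).pos v
  have hL1 : (-1 : F) ^ L = -1 := by
    rw [hL]
    rcases (Fact.out : p.Prime).eq_two_or_odd' with h2 | ho
    · subst h2
      rw [CharTwo.neg_eq, one_pow]
    · exact (ho.pow).neg_one_pow
  let w : Fin n → F := fun i => (-1) ^ (n - 1 - (i : ℕ)) * (((n - 1 - i) / L + 1 : ℕ) : F)
  have key : app (upG F n ^ L) w = wv F n 1 := by
    haveI : CharP (Matrix (Fin n) (Fin n) F) p := charP_of_injective_ringHom
      (f := Matrix.scalar (Fin n)) (fun a b h => by simpa using congrFun (congrFun h 0) 0) p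
    have hm : ((upG F n ^ L : GL (Fin n) F) : Matrix (Fin n) (Fin n) F) = 1 + upN F n ^ L := by
      rw [Units.val_pow_eq_pow_val, show ((upG F n : GL (Fin n) F) : Matrix (Fin n) (Fin n) F) = 1 + upN F n from rfl,
        hL, add_pow_char_pow_of_commute p v (Commute.one_left (upN F n)), one_pow]
    funext i
    rw [app_apply, hm, Matrix.add_mulVec, Matrix.one_mulVec, Pi.add_apply, upN_pow_coord]
    simp only [w, wv, Nat.add_sub_cancel, Nat.sub_self, Nat.choose_zero_right, Nat.cast_one, mul_one]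
    have hi := i.2
    by_cases h : (i : ℕ) + L < n
    · rw [dif_pos h]
      obtain ⟨d, hd⟩ : ∃ d, n - 1 - (i : ℕ) = d + L := ⟨n - 1 - i - L, by omega⟩
      rw [hd, show n - 1 - ((i : ℕ) + L) = d by omega, pow_add, hL1, Nat.add_div_right _ hL0]
      push_cast
      ring
    · rw [dif_neg h, Nat.div_eq_of_lt (by omega)]
      simp
  have hw : app (upG F n ^ (L + 1)) w = lastV F n := by
    rw [pow_succ', map_mul, LinearEquiv.mul_apply, key, wv_one]
  rw [sf_eq hw]
  have hdiv : (n - 1) / L + 1 = m := by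
    rcases m with _ | m
    · exact absurd (by rw [hn, mul_zero]) (NeZero.ne n)
    · rw [show n - 1 = (L - 1) + L * m by rw [hn, Nat.mul_succ]; omega, Nat.add_mul_div_left _ _ hL0,
        Nat.div_eq_of_lt (by omega), zero_add]
  simp only [w]
  rw [show ((0 : Fin n) : ℕ) = 0 from rfl, Nat.sub_zero, hdiv]

/-! ### Coefficient sets -/

variable (N : Subgroup (GL (Fin n) F))

/-- `d` is a coefficient at the centre `U^m e` with first coordinate axis. -/
def Coef (m : ℕ) (d : F) : Prop := tv (av F n m) (d • p0 F n) ∈ N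

variable {N}

theorem coef_add {m : ℕ} (hm : m + 2 ≤ n) {a b : F} (ha : Coef N m a) (hb : Coef N m b) : Coef N m (a + b) := by
  rw [Coef, add_smul, tv_add (by simp [p0_av hm]) (by simp [p0_av hm])]
  exact mul_mem ha hb

theorem coef_zero_mem (m : ℕ) : Coef N m 0 := by
  rw [Coef, zero_smul, tv_zero]; exact one_mem _

theorem coef_neg {m : ℕ} (hm : m + 2 ≤ n) {a : F} (ha : Coef N m a) : Coef N m (-a) := by
  have e : (-a) • p0 F n = -(a • p0 F n) := by ext; simp
  rw [Coef, e, ← tv_inv (by simp [p0_av hm])]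
  exact inv_mem ha

/-- Transporting a coefficient by a power of `U`. -/
theorem coef_transport (hU : upG F n ∈ N) {m : ℕ} (hm : m + 2 ≤ n) {d : F} (h : Coef N m d) (j : ℕ) :
    tv (av F n (j + m)) (d • psi F n j) ∈ N := by
  have hg := pow_mem hU j
  have h1 := mul_mem (mul_mem hg h) (inv_mem hg)
  rw [tv_conj (by simp [p0_av hm])] at h1
  convert h1 using 2
  · rw [av, av, ← LinearEquiv.mul_apply, ← map_mul, pow_add]
  · rw [psi, LinearMap.smul_comp, inv_pow]

/-- The commutator rule. -/
theorem coef_comm (hU : upG F n ∈ N) {k l r : ℕ} (hr : l + k + r + 2 ≤ n) {d d' : F} (hk : Coef N k d)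
    (hl : Coef N l d') : Coef N (l + k + r) (d' * sf F n r * d) := by
  have h1 := coef_transport hU (m := l) (by omega) hl (k + r)
  rw [show k + r + l = l + k + r by omega] at h1
  have hw : psi F n (k + r) (av F n (l + k + r)) = 0 := by
    rw [show l + k + r = (k + r) + l by omega, psi_av_add, p0_av (by omega)]
  have := tv_comm_mem (v := av F n k) (w := av F n (l + k + r)) (φ := d • p0 F n) (ψ := d' • psi F n (k + r))
    (by simp [p0_av (F := F) (show k + 2 ≤ n by omega)]) (by simp [hw]) (by simp [p0_av (F := F) hr]) hk h1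
  rw [LinearMap.smul_apply, psi_av _ _ (by omega), Nat.add_sub_cancel_left, smul_smul, smul_eq_mul] at this
  exact this

/-- The step back to the centre `e`. -/
theorem coef_zero_step (hU : upG F n ∈ N) (hn : 3 ≤ n) {d d' : F} (hk : Coef N (n - 2) d) (hl : Coef N 1 d') :
    Coef N 0 (d' * d) := by
  have h1 := mul_mem (mul_mem (inv_mem hU) hl) hU
  have e : tv (av F n 0) (d' • (p0 F n).comp (app (upG F n)).toLinearMap) ∈ N := by
    have hc := tv_conj (v := av F n 1) (φ := d' • p0 F n) (by simp [p0_av (F := F) (show 1 + 2 ≤ n by omega)]) (upG F n)⁻¹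
    rw [inv_inv] at hc
    rw [hc, av_succ, app_inv_app, LinearMap.smul_comp] at h1
    exact h1
  have hw : p0 F n (app (upG F n) (av F n 0)) = 0 := by rw [← av_succ]; exact p0_av (by omega)
  have := tv_comm_mem (v := av F n (n - 2)) (w := av F n 0) (φ := d • p0 F n)
    (ψ := d' • (p0 F n).comp (app (upG F n)).toLinearMap) (by simp [p0_av (F := F) (show n - 2 + 2 ≤ n by omega)])
    (by simp [hw]) (by simp [p0_av (F := F) (show 0 + 2 ≤ n by omega)]) hk e
  rw [LinearMap.smul_apply, LinearMap.comp_apply, LinearEquiv.coe_coe, ← av_succ, show n - 2 + 1 = n - 1 by omega,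
    p0_av_last, smul_eq_mul, mul_one, smul_smul] at this
  exact this

/-- All scalars at the centre `e` give everything. -/
theorem sl_le_of_coef [Finite F] (hU : upG F n ∈ N) (hn : 3 ≤ n) (h0 : ∀ d, Coef N 0 d) :
    Cfsg.Geo.specialLinear (Fin n) F ≤ N := by
  have hall : ∀ m, m + 2 ≤ n → ∀ d, Coef N m d := by
    intro m
    induction m with
    | zero => intro _; exact h0
    | succ m ih =>
      intro hm d
      have := coef_comm hU (k := 0) (l := m) (r := 1) (by omega) (h0 1) (ih (by omega) (d / sf F n 1))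
      rwa [div_mul_cancel₀ _ sf_one_ne, mul_one, show m + 0 + 1 = m + 1 by omega] at this
  set e := lastV F n
  have hax : ∀ m (hm : m + 2 ≤ n), (p0 F n).comp (app (upG F n ^ m)).toLinearMap ∈ axes N e := by
    intro m hm
    refine ⟨by simp only [LinearMap.comp_apply, LinearEquiv.coe_coe]; exact p0_av hm, fun c => ?_⟩
    have hg := pow_mem hU m
    have h1 := mul_mem (mul_mem (inv_mem hg) (hall m hm c)) hg
    have hc := tv_conj (v := av F n m) (φ := c • p0 F n) (by simp [p0_av (F := F) hm]) (upG F n ^ m)⁻¹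
    rw [inv_inv] at hc
    rw [hc, LinearMap.smul_comp, av, app_inv_app] at h1
    exact h1
  have hproj : ∀ (m i : ℕ) (hm : m < n), i + m + 2 ≤ n →
      (LinearMap.proj ⟨m, hm⟩ : (Fin n → F) →ₗ[F] F).comp (app (upG F n ^ i)).toLinearMap ∈ axes N e := by
    intro m
    induction m with
    | zero => intro i hm hi; exact hax i (by omega)
    | succ m ih =>
      intro i hm hi
      have := Submodule.sub_mem _ (ih (i + 1) (by omega) (by omega)) (ih i (by omega) (by omega))
      convert this using 1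
      refine LinearMap.ext fun x => ?_
      simp only [LinearMap.sub_apply, LinearMap.comp_apply, LinearEquiv.coe_coe, LinearMap.proj_apply]
      rw [pow_succ', map_mul, LinearEquiv.mul_apply, upG_coord, dif_pos (by simpa using hm), add_sub_cancel_left]
  have hfull : IsFull N e := by
    intro χ hχ
    have hχ' : χ = ∑ k : Fin n, χ (ee k) • LinearMap.proj k := dual_ext_ee fun j => by
      simp [LinearMap.sum_apply, Pi.single_apply]
    rw [hχ']
    refine Submodule.sum_mem _ fun k _ => ?_
    by_cases hk : (k : ℕ) + 1 = n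
    · rw [show χ (ee k) = 0 by rw [show k = (⟨n - 1, _⟩ : Fin n) from Fin.ext (by simp; omega)]; exact hχ, zero_smul]
      exact Submodule.zero_mem _
    · refine Submodule.smul_mem _ _ ?_
      have := hproj k 0 k.2 (by have := k.2; omega)
      rwa [pow_zero, map_one] at this
  have hco : ∀ (d : ℕ) (hd : d < n), ee (F := F) (⟨n - 1 - d, by omega⟩ : Fin n) ∈ fullSub N := by
    intro d
    induction d with
    | zero => intro _; exact Or.inr hfull
    | succ d ih =>
      intro hd
      have h1 := ih (by omega)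
      have h2 : app (upG F n) (ee ⟨n - 1 - d, by omega⟩) ∈ fullSub N := by
        rcases h1 with h | h
        · exact Or.inl (by rw [h, map_zero])
        · exact Or.inr (h.conj hU)
      rw [app_upG_ee, dif_neg (by simp; omega)] at h2
      have h3 := Submodule.sub_mem _ h2 h1
      rw [add_sub_cancel_left] at h3
      convert h3 using 3
      simp only
      omega
  refine sl_le_of_fullSub N ?_
  rw [eq_top_iff]
  intro x _
  rw [pi_eq_sum_univ' x]
  refine Submodule.sum_mem _ fun k _ => Submodule.smul_mem _ _ ?_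
  have := hco (n - 1 - k) (by have := k.2; omega)
  rwa [show (⟨n - 1 - (n - 1 - (k : ℕ)), by omega⟩ : Fin n) = k from Fin.ext (by have := k.2; simp; omega)] at this

/-- A normal subgroup of `SL_n` containing the Jordan block is everything. -/
theorem top_of_normal [Finite F] (hn : 3 ≤ n) (M : Subgroup (SpecialLinearGroup (Fin n) F)) [M.Normal]
    (hU : upU F n ∈ M) : M = ⊤ := by
  classical
  haveI := Fintype.ofFinite F
  haveI : IsSimpleGroup (ProjectiveSpecialLinearGroup (Fin n) F) := Linear.isSimpleGroup_psl (by simpa using hn)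
  let π : SpecialLinearGroup (Fin n) F →* ProjectiveSpecialLinearGroup (Fin n) F :=
    QuotientGroup.mk' (Subgroup.center (SpecialLinearGroup (Fin n) F))
  have hsurj : Function.Surjective π := QuotientGroup.mk'_surjective _
  haveI : (M.map π).Normal := Subgroup.Normal.map inferInstance π hsurj
  rcases Subgroup.Normal.eq_bot_or_eq_top (inferInstance : (M.map π).Normal) with h | h
  · exfalso
    have h1 : π (upU F n) = 1 := by
      have : π (upU F n) ∈ M.map π := ⟨_, hU, rfl⟩
      rwa [h, Subgroup.mem_bot] at this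
    have hc := (QuotientGroup.eq_one_iff _).1 h1
    obtain ⟨r, -, hr⟩ := Matrix.SpecialLinearGroup.mem_center_iff.1 hc
    have := congrFun (congrFun hr (⟨0, by omega⟩ : Fin n)) (⟨1, by omega⟩ : Fin n)
    simp [upU, upN_apply, Matrix.scalar_apply] at this
  · have hcomm : commutator (SpecialLinearGroup (Fin n) F) ≤ M := by
      rw [commutator_def, Subgroup.commutator_le]
      intro a _ b _
      obtain ⟨a', ha', hae⟩ : π a ∈ M.map π := h ▸ Subgroup.mem_top _
      obtain ⟨b', hb', hbe⟩ : π b ∈ M.map π := h ▸ Subgroup.mem_top _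
      have hza : a'⁻¹ * a ∈ Subgroup.center (SpecialLinearGroup (Fin n) F) := (QuotientGroup.eq).1 hae
      have hzb : b'⁻¹ * b ∈ Subgroup.center (SpecialLinearGroup (Fin n) F) := (QuotientGroup.eq).1 hbe
      obtain ⟨x, hx, rfl⟩ : ∃ x ∈ Subgroup.center (SpecialLinearGroup (Fin n) F), a = a' * x :=
        ⟨_, hza, (mul_inv_cancel_left a' a).symm⟩
      obtain ⟨y, hy, rfl⟩ : ∃ y ∈ Subgroup.center (SpecialLinearGroup (Fin n) F), b = b' * y :=
        ⟨_, hzb, (mul_inv_cancel_left b' b).symm⟩
      have e : ⁅a' * x, b' * y⁆ = ⁅a', b'⁆ := by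
        simp only [commutatorElement_def, _root_.mul_inv_rev]
        have cx := Subgroup.mem_center_iff.1 hx
        have cy := Subgroup.mem_center_iff.1 hy
        calc a' * x * (b' * y) * (x⁻¹ * a'⁻¹) * (y⁻¹ * b'⁻¹)
            = a' * (b' * y * x) * x⁻¹ * a'⁻¹ * y⁻¹ * b'⁻¹ := by rw [cx (b' * y)]; group
          _ = a' * b' * (y * a'⁻¹) * y⁻¹ * b'⁻¹ := by group
          _ = a' * b' * a'⁻¹ * b'⁻¹ := by rw [← cy a'⁻¹]; group
      rw [e]
      exact mul_mem (mul_mem (mul_mem ha' hb') (inv_mem ha')) (inv_mem hb')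
    rw [Linear.commutator_sl_eq_top (.inl (by simpa using hn))] at hcomm
    exact top_le_iff.1 hcomm

end Cfsg.Agent.RegUnip.Pair
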