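/-
A regular unipotent element `U` of Sp_2n (n = l+1) as a product of root elements, with its conjugate `V` by `J`.
Main results (namespace `Cfsg.Agent.RegUnip`): the chain `U`, `V` orbit of `P 0` and the regularity of `U`.
-/
import Cfsg.Agent.Lib.Transvect.Symp

set_option autoImplicit false
set_option linter.unusedSectionVars false

namespace Cfsg.Agent.RegUnip.Sp

open Matrix Cfsg.Agent.Transvect
open scoped MatrixGroups

attribute [-simp] app_apply

variable {F : Type*} [Field F] {n : ℕ}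

/-- The symplectic form. -/
abbrev fm (x y : Fin n ⊕ Fin n → F) : F := Cfsg.sympForm n F x y

theorem fm_add_left (x y v : Fin n ⊕ Fin n → F) : fm (x + y) v = fm x v + fm y v :=
  (sympForm_isSymplectic n).bilinear.add_left x y v

theorem fm_add_right (v x y : Fin n ⊕ Fin n → F) : fm v (x + y) = fm v x + fm v y :=
  (sympForm_isSymplectic n).bilinear.add_right v x y

theorem fm_smul_left (c : F) (x v : Fin n ⊕ Fin n → F) : fm (c • x) v = c * fm x v :=
  (sympForm_isSymplectic n).bilinear.smul_left c x v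

theorem fm_smul_right (c : F) (v x : Fin n ⊕ Fin n → F) : fm v (c • x) = c * fm v x :=
  (sympForm_isSymplectic n).bilinear.smul_right c v x

theorem fm_skew (v w : Fin n ⊕ Fin n → F) : fm v w = -fm w v := (sympForm_isSymplectic n).skew v w

theorem fm_self (v : Fin n ⊕ Fin n → F) : fm v v = 0 := (sympForm_isSymplectic n).alternating v

theorem fm_zero_left (v : Fin n ⊕ Fin n → F) : fm 0 v = 0 := by
  rw [← zero_smul F v, fm_smul_left, zero_mul]

theorem fm_zero_right (v : Fin n ⊕ Fin n → F) : fm v 0 = 0 := by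
  rw [← zero_smul F v, fm_smul_right, zero_mul]

theorem fm_neg_left (x v : Fin n ⊕ Fin n → F) : fm (-x) v = -fm x v := by
  rw [← neg_one_smul F x, fm_smul_left, neg_one_mul]

theorem fm_neg_right (x v : Fin n ⊕ Fin n → F) : fm x (-v) = -fm x v := by
  rw [← neg_one_smul F v, fm_smul_right, neg_one_mul]

theorem fm_sub_left (x y v : Fin n ⊕ Fin n → F) : fm (x - y) v = fm x v - fm y v := by
  rw [sub_eq_add_neg, fm_add_left, fm_neg_left, sub_eq_add_neg]

theorem fm_sub_right (v x y : Fin n ⊕ Fin n → F) : fm v (x - y) = fm v x - fm v y := by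
  rw [sub_eq_add_neg, fm_add_right, fm_neg_right, sub_eq_add_neg]

variable (F n) in
/-- The first half of the standard basis (zero out of range). -/
def P (i : ℕ) : Fin n ⊕ Fin n → F := if h : i < n then Pi.single (Sum.inl ⟨i, h⟩) 1 else 0

variable (F n) in
/-- The second half of the standard basis (zero out of range). -/
def R (i : ℕ) : Fin n ⊕ Fin n → F := if h : i < n then Pi.single (Sum.inr ⟨i, h⟩) 1 else 0

theorem fm_P (i : ℕ) (h : i < n) (v : Fin n ⊕ Fin n → F) : fm (P F n i) v = -v (Sum.inr ⟨i, h⟩) := by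
  simp [fm, Cfsg.sympForm, P, h, Matrix.J, Matrix.mulVec, dotProduct, Matrix.fromBlocks, Matrix.one_apply, Pi.single_apply]

theorem fm_R (i : ℕ) (h : i < n) (v : Fin n ⊕ Fin n → F) : fm (R F n i) v = v (Sum.inl ⟨i, h⟩) := by
  simp [fm, Cfsg.sympForm, R, h, Matrix.J, Matrix.mulVec, dotProduct, Matrix.fromBlocks, Matrix.one_apply, Pi.single_apply]

theorem fPP (i j : ℕ) : fm (P F n i) (P F n j) = 0 := by
  by_cases h : i < n
  · rw [fm_P i h]
    by_cases h' : j < n <;> simp [P, h']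
  · rw [P, dif_neg h, fm_zero_left]

theorem fRR (i j : ℕ) : fm (R F n i) (R F n j) = 0 := by
  by_cases h : i < n
  · rw [fm_R i h]
    by_cases h' : j < n <;> simp [R, h']
  · rw [R, dif_neg h, fm_zero_left]

theorem fRP (i j : ℕ) : fm (R F n i) (P F n j) = if i = j ∧ i < n then 1 else 0 := by
  by_cases h : i < n
  · rw [fm_R i h]
    by_cases h' : j < n
    · simp [P, h', Pi.single_apply, h, Fin.ext_iff]
    · rw [P, dif_neg h', if_neg (fun ⟨e1, e2⟩ => h' (e1 ▸ e2))]; rfl
  · rw [R, dif_neg h, fm_zero_left, if_neg (fun e => h e.2)]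

theorem fPR (i j : ℕ) : fm (P F n i) (R F n j) = if i = j ∧ i < n then -1 else 0 := by
  rw [fm_skew, fRP]
  by_cases h : i = j ∧ i < n
  · rw [if_pos h, if_pos ⟨h.1.symm, by omega⟩]
  · rw [if_neg h, if_neg (fun e => h ⟨e.1.symm, by omega⟩), neg_zero]

/-- The symplectic transvection. -/
noncomputable abbrev stp (v : Fin n ⊕ Fin n → F) (c : F) : GL (Fin n ⊕ Fin n) F :=
  st (sympForm_isSymplectic n) v c

theorem stp_apply (v : Fin n ⊕ Fin n → F) (c : F) (x : Fin n ⊕ Fin n → F) :
    app (stp v c) x = x + (c * fm x v) • v := st_apply _ v c x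

theorem stp_fix {v x : Fin n ⊕ Fin n → F} (h : fm x v = 0) (c : F) : app (stp v c) x = x := by
  rw [stp_apply, h, mul_zero, zero_smul, add_zero]

theorem stp_mem (v : Fin n ⊕ Fin n → F) (c : F) : stp v c ∈ Cfsg.spGL n F :=
  mem_spGL_iff.2 (st_isIsom _ v c)

theorem stp_mul (v : Fin n ⊕ Fin n → F) (a b : F) : stp v a * stp v b = stp v (a + b) :=
  gl_ext fun x => by
    rw [map_mul, LinearEquiv.mul_apply, stp_apply, stp_apply, stp_apply, fm_add_left, fm_smul_left, fm_self]
    module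

theorem stp_zero (v : Fin n ⊕ Fin n → F) : stp v 0 = 1 :=
  gl_ext fun x => by rw [stp_apply, map_one]; simp

theorem stp_inv (v : Fin n ⊕ Fin n → F) (a : F) : (stp v a)⁻¹ = stp v (-a) :=
  inv_eq_of_mul_eq_one_right (by rw [stp_mul, add_neg_cancel, stp_zero])

theorem stp_conj {g : GL (Fin n ⊕ Fin n) F} (hg : g ∈ Cfsg.spGL n F) (v : Fin n ⊕ Fin n → F) (c : F) :
    g * stp v c * g⁻¹ = stp (app g v) c := st_conj _ (mem_spGL_iff.1 hg) v c

theorem stp_comm_of_fix {g : GL (Fin n ⊕ Fin n) F} (hg : g ∈ Cfsg.spGL n F) {v : Fin n ⊕ Fin n → F}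
    (hv : app g v = v) (c : F) : g * stp v c = stp v c * g := by
  rw [← mul_inv_eq_iff_eq_mul, stp_conj hg, hv]

theorem stp_smul (v : Fin n ⊕ Fin n → F) (a c : F) : stp (a • v) c = stp v (c * a * a) :=
  gl_ext fun x => by rw [stp_apply, stp_apply, fm_smul_right]; module

/-- The short root element `x ↦ x + a (f(x,u) v + f(x,v) u)`. -/
noncomputable def xp (u v : Fin n ⊕ Fin n → F) (a : F) : GL (Fin n ⊕ Fin n) F :=
  stp (u + v) a * stp u (-a) * stp v (-a)

theorem xp_mem (u v : Fin n ⊕ Fin n → F) (a : F) : xp u v a ∈ Cfsg.spGL n F :=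
  mul_mem (mul_mem (stp_mem _ _) (stp_mem _ _)) (stp_mem _ _)

theorem xp_apply {u v : Fin n ⊕ Fin n → F} (h : fm u v = 0) (a : F) (x : Fin n ⊕ Fin n → F) :
    app (xp u v a) x = x + a • (fm x u • v + fm x v • u) := by
  have h' : fm v u = 0 := by rw [fm_skew, h, neg_zero]
  rw [xp, map_mul, map_mul, LinearEquiv.mul_apply, LinearEquiv.mul_apply, stp_apply, stp_apply, stp_apply]
  simp only [fm_add_left, fm_add_right, fm_smul_left, fm_self, h, h']
  module

theorem xp_conj {g : GL (Fin n ⊕ Fin n) F} (hg : g ∈ Cfsg.spGL n F) (u v : Fin n ⊕ Fin n → F) (a : F) :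
    g * xp u v a * g⁻¹ = xp (app g u) (app g v) a := by
  rw [xp, xp, ← map_add (app g), ← stp_conj hg, ← stp_conj hg, ← stp_conj hg]
  group

/-- A long root element as product. -/
theorem stp_add_smul {r p : Fin n ⊕ Fin n → F} (h : fm r p = 0) (a t : F) :
    stp (r + a • p) t * stp r (-t) = stp p (a * a * t) * xp r p (a * t) := by
  have h' : fm p r = 0 := by rw [fm_skew, h, neg_zero]
  refine gl_ext fun x => ?_
  rw [map_mul, map_mul, LinearEquiv.mul_apply, LinearEquiv.mul_apply, stp_apply, stp_apply, stp_apply, xp_apply h]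
  simp only [fm_add_left, fm_add_right, fm_smul_left, fm_smul_right, fm_self, h, h']
  module

/-! ### The regular element -/

variable (F n) in
/-- A simple short root element. -/
noncomputable def Li (i : ℕ) : GL (Fin n ⊕ Fin n) F := xp (R F n (i + 1)) (P F n i) (-1)

theorem Li_apply (i : ℕ) (x : Fin n ⊕ Fin n → F) :
    app (Li F n i) x = x - (fm x (R F n (i + 1)) • P F n i + fm x (P F n i) • R F n (i + 1)) := by
  rw [Li, xp_apply (by rw [fRP, if_neg]; omega)]
  module

theorem Li_P_ne {i j : ℕ} (h : j ≠ i + 1) : app (Li F n i) (P F n j) = P F n j := by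
  rw [Li_apply, fPP, fPR, if_neg (fun e => h e.1)]; module

theorem Li_P_succ {i : ℕ} (h : i + 1 < n) : app (Li F n i) (P F n (i + 1)) = P F n (i + 1) + P F n i := by
  rw [Li_apply, fPP, fPR, if_pos ⟨rfl, h⟩]; module

theorem Li_R_ne {i j : ℕ} (h : j ≠ i) : app (Li F n i) (R F n j) = R F n j := by
  rw [Li_apply, fRR, fRP, if_neg (fun e => h e.1)]; module

theorem Li_R_self {i : ℕ} (h : i < n) : app (Li F n i) (R F n i) = R F n i - R F n (i + 1) := by
  rw [Li_apply, fRR, fRP, if_pos ⟨rfl, h⟩]; module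

variable (F n) in
/-- The product of the simple short root elements. -/
noncomputable def LP : ℕ → GL (Fin n ⊕ Fin n) F
  | 0 => 1
  | k + 1 => Li F n k * LP k

theorem LP_zero : LP F n 0 = 1 := rfl

theorem LP_succ (k : ℕ) : LP F n (k + 1) = Li F n k * LP F n k := rfl

theorem LP_mem (k : ℕ) : LP F n k ∈ Cfsg.spGL n F := by
  induction k with
  | zero => exact one_mem _
  | succ k ih => rw [LP_succ]; exact mul_mem (xp_mem _ _ _) ih

theorem LP_P_zero (k : ℕ) : app (LP F n k) (P F n 0) = P F n 0 := by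
  induction k with
  | zero => rw [LP_zero, map_one]; rfl
  | succ k ih => rw [LP_succ, map_mul, LinearEquiv.mul_apply, ih, Li_P_ne (by omega)]

theorem LP_P (k : ℕ) : ∀ j, j + 1 < n → app (LP F n k) (P F n (j + 1)) =
    if j < k then P F n (j + 1) + P F n j else P F n (j + 1) := by
  induction k with
  | zero => intro j _; rw [LP_zero, map_one, if_neg (by omega)]; rfl
  | succ k ih =>
    intro j hj
    rw [LP_succ, map_mul, LinearEquiv.mul_apply, ih j hj]
    rcases lt_trichotomy j k with h | rfl | h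
    · rw [if_pos h, if_pos (by omega), map_add, Li_P_ne (by omega), Li_P_ne (by omega)]
    · rw [if_neg (lt_irrefl j), if_pos (by omega), Li_P_succ hj]
    · rw [if_neg (by omega), if_neg (by omega), Li_P_ne (by omega)]

theorem LP_R_ge (k : ℕ) : ∀ j, k ≤ j → app (LP F n k) (R F n j) = R F n j := by
  induction k with
  | zero => intro j _; rw [LP_zero, map_one]; rfl
  | succ k ih => intro j hj; rw [LP_succ, map_mul, LinearEquiv.mul_apply, ih j (by omega), Li_R_ne (by omega)]

theorem LP_R_pair (k : ℕ) : ∀ j, j < k → j < n → app (LP F n k) (R F n j + R F n (j + 1)) = R F n j := by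
  induction k with
  | zero => intro j h; omega
  | succ k ih =>
    intro j hj hjn
    rw [LP_succ, map_mul, LinearEquiv.mul_apply]
    rcases Nat.lt_succ_iff_lt_or_eq.1 hj with h | rfl
    · rw [ih j h hjn, Li_R_ne (by omega)]
    · rw [map_add, LP_R_ge _ _ le_rfl, LP_R_ge _ _ (by omega), map_add, Li_R_self hjn, Li_R_ne (by omega)]
      module

variable {l : ℕ}

variable (F l) in
/-- The regular unipotent element of Sp_2(l+1). -/
noncomputable def U : GL (Fin (l + 1) ⊕ Fin (l + 1)) F := stp (P F (l + 1) l) 1 * LP F (l + 1) l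

theorem U_mem : U F l ∈ Cfsg.spGL (l + 1) F := mul_mem (stp_mem _ _) (LP_mem _)

theorem U_P_zero : app (U F l) (P F (l + 1) 0) = P F (l + 1) 0 := by
  rw [U, map_mul, LinearEquiv.mul_apply, LP_P_zero, stp_fix (fPP _ _)]

theorem U_P (j : ℕ) (hj : j < l) : app (U F l) (P F (l + 1) (j + 1)) = P F (l + 1) (j + 1) + P F (l + 1) j := by
  rw [U, map_mul, LinearEquiv.mul_apply, LP_P l j (by omega), if_pos hj, stp_fix (by rw [fm_add_left, fPP, fPP, add_zero])]

theorem U_R_pair (j : ℕ) (hj : j < l) : app (U F l) (R F (l + 1) j + R F (l + 1) (j + 1)) = R F (l + 1) j := by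
  rw [U, map_mul, LinearEquiv.mul_apply, LP_R_pair l j hj (by omega), stp_fix (by rw [fRP, if_neg]; omega)]

theorem U_R_last : app (U F l) (R F (l + 1) l) = R F (l + 1) l + P F (l + 1) l := by
  rw [U, map_mul, LinearEquiv.mul_apply, LP_R_ge l l le_rfl, stp_apply, fRP, if_pos ⟨rfl, by omega⟩]
  module

variable (F n) in
/-- The element `J`. -/
def J : GL (Fin n ⊕ Fin n) F :=
  ⟨Matrix.J (Fin n) F, -Matrix.J (Fin n) F, by rw [Matrix.mul_neg, Matrix.J_squared, neg_neg],
    by rw [Matrix.neg_mul, Matrix.J_squared, neg_neg]⟩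

theorem J_apply (x : Fin n ⊕ Fin n → F) : app (J F n) x = Matrix.J (Fin n) F *ᵥ x := app_apply _ _

theorem J_mem : J F n ∈ Cfsg.spGL n F := by
  refine mem_spGL_iff.2 fun x y => ?_
  rw [J_apply, J_apply]
  simp only [Cfsg.sympForm]
  rw [Matrix.mulVec_mulVec, Matrix.J_squared, Matrix.neg_mulVec, Matrix.one_mulVec, dotProduct_neg, dotProduct_comm,
    Matrix.dotProduct_mulVec, ← Matrix.mulVec_transpose, Matrix.J_transpose, Matrix.neg_mulVec, neg_dotProduct,
    dotProduct_comm (Matrix.J (Fin n) F *ᵥ y) x]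
  ring_nf

theorem J_P (i : ℕ) : app (J F n) (P F n i) = R F n i := by
  rw [J_apply, P, R]
  split_ifs with h
  · funext a; rcases a with a | a <;> simp [Matrix.J, Matrix.fromBlocks, Matrix.one_apply, Pi.single_apply]
  · exact Matrix.mulVec_zero _

theorem J_R (i : ℕ) : app (J F n) (R F n i) = -P F n i := by
  rw [J_apply, P, R]
  split_ifs with h
  · funext a; rcases a with a | a <;> simp [Matrix.J, Matrix.fromBlocks, Matrix.one_apply, Pi.single_apply] <;>
      split_ifs <;> simp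
  · rw [Matrix.mulVec_zero, neg_zero]

variable (F l) in
/-- The conjugate of `U` by `J`. -/
noncomputable def V : GL (Fin (l + 1) ⊕ Fin (l + 1)) F := J F (l + 1) * U F l * (J F (l + 1))⁻¹

theorem V_mem : V F l ∈ Cfsg.spGL (l + 1) F := mul_mem (mul_mem J_mem U_mem) (inv_mem J_mem)

theorem V_J (x : Fin (l + 1) ⊕ Fin (l + 1) → F) :
    app (V F l) (app (J F (l + 1)) x) = app (J F (l + 1)) (app (U F l) x) := by
  rw [V, map_mul, map_mul, LinearEquiv.mul_apply, LinearEquiv.mul_apply, app_inv_app]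

theorem V_R_zero : app (V F l) (R F (l + 1) 0) = R F (l + 1) 0 := by
  rw [← J_P, V_J, U_P_zero]

theorem V_R (j : ℕ) (hj : j < l) : app (V F l) (R F (l + 1) (j + 1)) = R F (l + 1) (j + 1) + R F (l + 1) j := by
  rw [← J_P, V_J, U_P j hj, map_add, J_P, J_P]

theorem V_P_pair (j : ℕ) (hj : j < l) : app (V F l) (P F (l + 1) j + P F (l + 1) (j + 1)) = P F (l + 1) j := by
  have h : app (J F (l + 1)) (-(R F (l + 1) j + R F (l + 1) (j + 1))) = P F (l + 1) j + P F (l + 1) (j + 1) := by
    rw [map_neg, map_add, J_R, J_R]; abel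
  rw [← h, V_J, map_neg, U_R_pair j hj, map_neg, J_R, neg_neg]

variable (F l) in
/-- `w k` is the preimage of `P k` under `U`. -/
def w : ℕ → (Fin (l + 1) ⊕ Fin (l + 1) → F)
  | 0 => P F (l + 1) 0
  | k + 1 => P F (l + 1) (k + 1) - w k

theorem w_zero : w F l 0 = P F (l + 1) 0 := rfl

theorem w_succ (k : ℕ) : w F l (k + 1) = P F (l + 1) (k + 1) - w F l k := rfl

theorem U_w (k : ℕ) (hk : k ≤ l) : app (U F l) (w F l k) = P F (l + 1) k := by
  induction k with
  | zero => rw [w_zero, U_P_zero]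
  | succ k ih => rw [w_succ, map_sub, ih (by omega), U_P k (by omega), add_sub_cancel_right]

theorem U_chain (k : ℕ) (hk : k < l) :
    app (U F l) ((-1 : F) ^ k • R F (l + 1) 0 + R F (l + 1) (k + 1)) = app (J F (l + 1)) (w F l k) := by
  induction k with
  | zero => rw [pow_zero, one_smul, w_zero, J_P, U_R_pair 0 hk]
  | succ k ih =>
    have h : (-1 : F) ^ (k + 1) • R F (l + 1) 0 + R F (l + 1) (k + 1 + 1) =
        (R F (l + 1) (k + 1) + R F (l + 1) (k + 1 + 1)) - ((-1 : F) ^ k • R F (l + 1) 0 + R F (l + 1) (k + 1)) := by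
      rw [pow_succ]; module
    rw [h, map_sub, ih (by omega), U_R_pair _ hk, w_succ, map_sub, J_P]

theorem bridge (hl : 1 ≤ l) : app (V F l) (app (U F l) ((-1 : F) ^ l • R F (l + 1) 0)) = P F (l + 1) l := by
  obtain ⟨k, rfl⟩ : ∃ k, l = k + 1 := ⟨l - 1, by omega⟩
  have h : (-1 : F) ^ (k + 1) • R F (k + 1 + 1) 0 =
      R F (k + 1 + 1) (k + 1) - ((-1 : F) ^ k • R F (k + 1 + 1) 0 + R F (k + 1 + 1) (k + 1)) := by
    rw [pow_succ]; module
  rw [h, map_sub, U_chain k (by omega), U_R_last, map_sub, map_add]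
  have hw : app (V F (k + 1)) (app (J F (k + 1 + 1)) (w F (k + 1) (k + 1))) = R F (k + 1 + 1) (k + 1) := by
    rw [V_J, U_w _ le_rfl, J_P]
  have hP : app (V F (k + 1)) (P F (k + 1 + 1) (k + 1)) = P F (k + 1 + 1) (k + 1) - R F (k + 1 + 1) (k + 1) := by
    have h1 : app (J F (k + 1 + 1)) (-R F (k + 1 + 1) (k + 1)) = P F (k + 1 + 1) (k + 1) := by rw [map_neg, J_R, neg_neg]
    rw [← h1, V_J, map_neg, U_R_last, map_neg, map_neg, map_add, J_P, J_R]; module
  rw [w_succ, map_sub, J_P, map_sub] at hw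
  rw [sub_eq_iff_eq_add] at hw
  rw [hP, hw]; abel

/-! ### Regularity -/

variable (F l) in
/-- The basis in chain order. -/
def e (k : ℕ) : Fin (l + 1) ⊕ Fin (l + 1) → F :=
  if k ≤ l then P F (l + 1) k else R F (l + 1) (2 * l + 1 - k)

theorem U_step (m : ℕ) (hm : m + 1 < 2 * (l + 1)) :
    app (U F l) (e F l (m + 1)) = e F l (m + 1) + (if m ≤ l then e F l m else -(app (U F l) (e F l m))) := by
  rcases lt_trichotomy m l with h | rfl | h
  · rw [if_pos h.le, e, if_pos (by omega), e, if_pos h.le, U_P m h]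
  · rw [if_pos le_rfl, e, if_neg (by omega), e, if_pos le_rfl, show 2 * m + 1 - (m + 1) = m by omega, U_R_last]
  · have hp := U_R_pair (F := F) (2 * l + 1 - (m + 1)) (by omega : 2 * l + 1 - (m + 1) < l)
    rw [show 2 * l + 1 - (m + 1) + 1 = 2 * l + 1 - m by omega, map_add] at hp
    rw [if_neg (by omega), e, if_neg (by omega), e, if_neg (by omega)]
    rw [← sub_eq_add_neg, eq_sub_iff_add_eq, hp]

theorem N_pow (m : ℕ) (hm : m < 2 * (l + 1)) :
    (∃ c : F, c ≠ 0 ∧ ((U F l).val - 1) ^ m *ᵥ e F l m = c • e F l 0) ∧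
    ((U F l).val - 1) ^ (m + 1) *ᵥ e F l m = 0 := by
  set N := (U F l).val - 1 with hN
  have hNU : ∀ x, N *ᵥ x = app (U F l) x - x := fun x => by
    rw [hN, Matrix.sub_mulVec, Matrix.one_mulVec, app_apply]
  induction m with
  | zero =>
    refine ⟨⟨1, one_ne_zero, by rw [pow_zero, Matrix.one_mulVec, one_smul]⟩, ?_⟩
    rw [zero_add, pow_one, hNU, e, if_pos (Nat.zero_le _), U_P_zero, sub_self]
  | succ m ih =>
    obtain ⟨⟨c, hc, h1⟩, h2⟩ := ih (by omega)
    have h3 := U_step (F := F) m hm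
    by_cases hml : m ≤ l
    · rw [if_pos hml] at h3
      have h4 : N *ᵥ e F l (m + 1) = e F l m := by rw [hNU, h3, add_sub_cancel_left]
      refine ⟨⟨c, hc, ?_⟩, ?_⟩
      · rw [pow_succ, ← Matrix.mulVec_mulVec, h4, h1]
      · rw [pow_succ, ← Matrix.mulVec_mulVec, h4, h2]
    · rw [if_neg hml] at h3
      have h4 : N *ᵥ e F l (m + 1) = -(N *ᵥ e F l m) - e F l m := by rw [hNU, h3, hNU]; abel
      refine ⟨⟨-c, neg_ne_zero.2 hc, ?_⟩, ?_⟩
      · rw [pow_succ, ← Matrix.mulVec_mulVec, h4, Matrix.mulVec_sub, Matrix.mulVec_neg, Matrix.mulVec_mulVec,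
          ← pow_succ, h2, h1, neg_zero, zero_sub, neg_smul]
      · have h5 : N ^ (m + 1 + 1) *ᵥ e F l m = 0 := by
          rw [pow_succ' _ (m + 1), ← Matrix.mulVec_mulVec, h2, Matrix.mulVec_zero]
        rw [pow_succ, ← Matrix.mulVec_mulVec, h4, Matrix.mulVec_sub, Matrix.mulVec_neg, Matrix.mulVec_mulVec,
          ← pow_succ, h5, h2, neg_zero, sub_zero]

theorem U_regular :
    IsNilpotent ((U F l).val - 1) ∧
    ((U F l).val - 1) ^ (2 * (l + 1) - 1) ≠ 0 := by
  set N := (U F l).val - 1 with hN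
  constructor
  · refine ⟨2 * (l + 1), Matrix.ext_of_mulVec_single fun i => ?_⟩
    rw [Matrix.zero_mulVec]
    obtain ⟨m, hm, hem⟩ : ∃ m, m < 2 * (l + 1) ∧ e F l m = Pi.single i 1 := by
      rcases i with i | i
      · exact ⟨i, by omega, by rw [e, if_pos (by omega), P, dif_pos i.2]⟩
      · refine ⟨2 * l + 1 - i, by omega, ?_⟩
        rw [e, if_neg (by omega), R, dif_pos (by omega)]
        congr 2
        exact Fin.ext (by simp; omega)
    rw [← hem, show 2 * (l + 1) = (2 * (l + 1) - (m + 1)) + (m + 1) by omega, pow_add, ← Matrix.mulVec_mulVec,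
      (N_pow m hm).2, Matrix.mulVec_zero]
  · intro h
    obtain ⟨⟨c, hc, h1⟩, -⟩ := N_pow (F := F) (2 * (l + 1) - 1) (by omega : 2 * (l + 1) - 1 < 2 * (l + 1))
    rw [h, Matrix.zero_mulVec] at h1
    have := congrFun h1.symm (Sum.inl ⟨0, by omega⟩)
    simp [e, P] at this
    exact hc this

end Cfsg.Agent.RegUnip.Sp
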