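/-
Generation of Sp_2n by the regular unipotent `U`, its conjugate `V` and one root element.
Main results (namespace `Cfsg.Agent.RegUnip.Sp`): `spGL_le_of_full`, `full_of_root`.
-/
import Cfsg.Agent.Lib.RegUnip.SpBase
import Cfsg.Agent.Lib.Linear.SpUnipotent

set_option autoImplicit false
set_option linter.unusedSectionVars false

namespace Cfsg.Agent.RegUnip.Sp

open Matrix Cfsg.Agent.Transvect
open scoped MatrixGroups

attribute [-simp] app_apply

variable {F : Type*} [Field F] {l : ℕ}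

local notation "𝐕" => (Fin (l + 1) ⊕ Fin (l + 1) → F)
local notation "𝐆" => GL (Fin (l + 1) ⊕ Fin (l + 1)) F
local notation "𝐏" => P F (l + 1)
local notation "𝐑" => R F (l + 1)

variable {M : Subgroup (GL (Fin (l + 1) ⊕ Fin (l + 1)) F)}

theorem conj_iff (hMsp : M ≤ Cfsg.spGL (l + 1) F) {g : 𝐆} (hg : g ∈ M) (v : 𝐕) (c : F) :
    stp (app g v) c ∈ M ↔ stp v c ∈ M := by
  rw [← stp_conj (hMsp hg)]
  constructor
  · intro h
    have := mul_mem (mul_mem (inv_mem hg) h) hg
    rwa [show g⁻¹ * (g * stp v c * g⁻¹) * g = stp v c by group] at this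
  · intro h
    exact mul_mem (mul_mem hg h) (inv_mem hg)

/-- The standard centres are one orbit. -/
theorem centres_chain (hl : 1 ≤ l) (hMsp : M ≤ Cfsg.spGL (l + 1) F) (hU : U F l ∈ M) (hV : V F l ∈ M) {c : F}
    (h0 : stp (𝐏 0) c ∈ M) :
    (∀ j ≤ l, stp (𝐏 j) c ∈ M) ∧ (∀ j < l, stp (𝐏 j + 𝐏 (j + 1)) c ∈ M) ∧ (∀ j ≤ l, stp (𝐑 j) c ∈ M) := by
  have hP : ∀ j ≤ l, stp (𝐏 j) c ∈ M := by
    intro j
    induction j with
    | zero => intro _; exact h0
    | succ j ih =>
      intro hj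
      have e1 : app (V F l * U F l) (𝐏 (j + 1)) = 𝐏 j := by
        rw [map_mul, LinearEquiv.mul_apply, U_P j hj, add_comm (𝐏 (j + 1)), V_P_pair j hj]
      exact (conj_iff hMsp (mul_mem hV hU) _ c).1 (by rw [e1]; exact ih (by omega))
  refine ⟨hP, fun j hj => (conj_iff hMsp hV _ c).1 (by rw [V_P_pair j hj]; exact hP j hj.le), ?_⟩
  have hR0 : stp (𝐑 0) c ∈ M := by
    have h1 : stp ((-1 : F) ^ l • 𝐑 0) c ∈ M := by
      refine (conj_iff hMsp (mul_mem hV hU) _ c).1 ?_
      rw [map_mul, LinearEquiv.mul_apply, bridge hl]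
      exact hP l le_rfl
    rwa [stp_smul, mul_assoc, ← mul_pow, neg_one_mul, neg_neg, one_pow, mul_one] at h1
  intro j
  induction j with
  | zero => intro _; exact hR0
  | succ j ih =>
    intro hj
    have e1 : app (U F l * V F l) (𝐑 (j + 1)) = 𝐑 j := by
      rw [map_mul, LinearEquiv.mul_apply, V_R j hj, add_comm (𝐑 (j + 1)), U_R_pair j hj]
    exact (conj_iff hMsp (mul_mem hU hV) _ c).1 (by rw [e1]; exact ih (by omega))

/-- Supported in the first `k + 1` planes. -/
def Sup (k : ℕ) (v : 𝐕) : Prop := ∀ j : Fin (l + 1), k < (j : ℕ) → v (Sum.inl j) = 0 ∧ v (Sum.inr j) = 0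

theorem P_apply (i : ℕ) (h : i < l + 1) (a : Fin (l + 1) ⊕ Fin (l + 1)) :
    𝐏 i a = if a = Sum.inl ⟨i, h⟩ then 1 else 0 := by
  rw [P, dif_pos h, Pi.single_apply]

theorem R_apply (i : ℕ) (h : i < l + 1) (a : Fin (l + 1) ⊕ Fin (l + 1)) :
    𝐑 i a = if a = Sum.inr ⟨i, h⟩ then 1 else 0 := by
  rw [R, dif_pos h, Pi.single_apply]

/-- Full centres at the standard vectors give the whole group. -/
theorem spGL_le_of_std
    (hP : ∀ j ≤ l, 𝐏 j ∈ centres (sympForm_isSymplectic (l + 1)) M)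
    (hPP : ∀ j < l, 𝐏 j + 𝐏 (j + 1) ∈ centres (sympForm_isSymplectic (l + 1)) M)
    (hR : ∀ j ≤ l, 𝐑 j ∈ centres (sympForm_isSymplectic (l + 1)) M) : Cfsg.spGL (l + 1) F ≤ M := by
  classical
  set hf := sympForm_isSymplectic (F := F) (l + 1)
  set C := centres hf M with hC
  have plane : ∀ j ≤ l, ∀ a b : F, a • 𝐏 j + b • 𝐑 j ∈ C := by
    intro j hj a b
    rcases eq_or_ne a 0 with rfl | ha
    · rw [zero_smul, zero_add]; exact centres_smul hf (hR j hj) b
    · have h1 := centres_step' hf (hR j hj) (hP j hj) (by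
        change fm (𝐏 j) (𝐑 j) ≠ 0
        rw [fPR, if_pos ⟨rfl, by omega⟩]; exact neg_ne_zero.2 one_ne_zero) (b / a)
      have h2 := centres_smul hf h1 a
      rwa [smul_add, smul_smul, mul_div_cancel₀ _ ha] at h2
  have move : ∀ a b z : 𝐕, fm a b ≠ 0 → b - a ∈ C → fm z (b - a) = 0 → a + z ∈ C → b + z ∈ C := by
    intro a b z h1 h2 h3 h4
    have h := centres_step' hf h2 h4 (by
      change fm (a + z) (b - a) ≠ 0
      rw [fm_add_left, h3, add_zero, fm_sub_right, fm_self, sub_zero]; exact h1) 1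
    rwa [one_smul, show a + z + (b - a) = b + z by abel] at h
  suffices hall : ∀ k ≤ l, ∀ v : 𝐕, Sup k v → v ∈ C by
    refine spGL_le_of_centres M fun v => hall l le_rfl v fun j hj => ?_
    exact absurd j.2 (by omega)
  intro k
  induction k with
  | zero =>
    intro _ v hv
    have : v = v (Sum.inl 0) • 𝐏 0 + v (Sum.inr 0) • 𝐑 0 := by
      funext a
      rcases a with j | j <;> rcases Nat.eq_zero_or_pos (j : ℕ) with hj | hj
      · obtain rfl : j = 0 := Fin.ext hj
        simp [P_apply, R_apply]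
      · rw [(hv j hj).1]
        have hne : j ≠ 0 := fun e => by subst e; simp at hj
        simp [P_apply, R_apply, hne]
      · obtain rfl : j = 0 := Fin.ext hj
        simp [P_apply, R_apply]
      · rw [(hv j hj).2]
        have hne : j ≠ 0 := fun e => by subst e; simp at hj
        simp [P_apply, R_apply, hne]
    rw [this]
    exact plane 0 (Nat.zero_le _) _ _
  | succ k ih =>
    intro hk v hv
    have ih := ih (by omega)
    let K : Fin (l + 1) := ⟨k + 1, by omega⟩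
    set c : 𝐕 := v (Sum.inl K) • 𝐏 (k + 1) + v (Sum.inr K) • 𝐑 (k + 1) with hc
    set u : 𝐕 := v - c with hu
    have huv : v = u + c := (sub_add_cancel v c).symm
    have hsu : Sup k u := by
      intro j hj
      rcases Nat.lt_or_ge (k + 1) (j : ℕ) with h | h
      · have hne : j ≠ K := fun e => by subst e; simp [K] at h
        refine ⟨?_, ?_⟩
        · rw [hu, Pi.sub_apply, (hv j h).1, hc]
          simp [P_apply (F := F) (k + 1) (by omega : k + 1 < l + 1), R_apply (F := F) (k + 1) (by omega : k + 1 < l + 1), K, hne, Fin.ext_iff, (by omega : (j : ℕ) ≠ k + 1)]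
        · rw [hu, Pi.sub_apply, (hv j h).2, hc]
          simp [P_apply (F := F) (k + 1) (by omega : k + 1 < l + 1), R_apply (F := F) (k + 1) (by omega : k + 1 < l + 1), K, hne, Fin.ext_iff, (by omega : (j : ℕ) ≠ k + 1)]
      · obtain rfl : j = K := Fin.ext (by simp [K]; omega)
        refine ⟨?_, ?_⟩ <;>
          simp [hu, hc, P_apply (F := F) (k + 1) (by omega : k + 1 < l + 1), R_apply (F := F) (k + 1) (by omega : k + 1 < l + 1), K]
    by_cases hc0 : c = 0
    · rw [huv, hc0, add_zero]; exact ih u hsu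
    by_cases hu0 : u = 0
    · rw [huv, hu0, zero_add]; exact plane (k + 1) hk _ _
    have fu : fm u (𝐏 (k + 1)) = 0 ∧ fm u (𝐑 (k + 1)) = 0 := by
      rw [fm_skew u, fm_skew u, fm_P _ (by omega), fm_R _ (by omega), (hsu ⟨k + 1, by omega⟩ (Nat.lt_succ_self k)).1,
        (hsu ⟨k + 1, by omega⟩ (Nat.lt_succ_self k)).2]
      simp
    -- first the last component
    have hlow : ∀ z : 𝐕, Sup k z → fm c z = 0 ∧ fm (𝐏 (k + 1)) z = 0 ∧ fm (𝐑 (k + 1)) z = 0 := by
      intro z hz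
      have h1 : fm (𝐏 (k + 1)) z = 0 := by rw [fm_P _ (by omega), (hz ⟨k + 1, by omega⟩ (Nat.lt_succ_self k)).2, neg_zero]
      have h2 : fm (𝐑 (k + 1)) z = 0 := by rw [fm_R _ (by omega), (hz ⟨k + 1, by omega⟩ (Nat.lt_succ_self k)).1]
      refine ⟨?_, h1, h2⟩
      rw [hc, fm_add_left, fm_smul_left, fm_smul_left, h1, h2, mul_zero, mul_zero, add_zero]
    have hPk : ∀ a b : F, fm (𝐏 k) (a • 𝐏 (k + 1) + b • 𝐑 (k + 1)) = 0 := fun a b => by
      rw [fm_add_right, fm_smul_right, fm_smul_right, fPP, fPR, if_neg (by omega)]; simp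
    have h1 : c + 𝐏 k ∈ C := by
      have hw : 𝐏 (k + 1) + 𝐏 k ∈ C := by rw [add_comm (𝐏 (k + 1))]; exact hPP k (by omega)
      by_cases hfc : fm (𝐏 (k + 1)) c = 0
      · have hb : v (Sum.inr K) = 0 := by
          rw [hc, fm_add_right, fm_smul_right, fm_smul_right, fPP, fPR, if_pos ⟨rfl, by omega⟩] at hfc
          simpa using hfc
        have ha : v (Sum.inl K) ≠ 0 := fun ha => hc0 (by rw [hc, ha, hb, zero_smul, zero_smul, add_zero])
        have hR1 : 𝐑 (k + 1) + 𝐏 k ∈ C := by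
          refine move _ _ _ (by rw [fPR, if_pos ⟨rfl, by omega⟩]; exact neg_ne_zero.2 one_ne_zero) ?_ ?_ hw
          · rw [show 𝐑 (k + 1) - 𝐏 (k + 1) = (-1 : F) • 𝐏 (k + 1) + (1 : F) • 𝐑 (k + 1) by module]
            exact plane (k + 1) hk _ _
          · rw [show 𝐑 (k + 1) - 𝐏 (k + 1) = (-1 : F) • 𝐏 (k + 1) + (1 : F) • 𝐑 (k + 1) by module]
            exact hPk _ _
        refine move _ _ _ ?_ ?_ ?_ hR1
        · rw [hc, hb, zero_smul, add_zero, fm_smul_right, fRP, if_pos ⟨rfl, by omega⟩, mul_one]; exact ha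
        · rw [hc, hb, show v (Sum.inl K) • 𝐏 (k + 1) + (0 : F) • 𝐑 (k + 1) - 𝐑 (k + 1) =
            v (Sum.inl K) • 𝐏 (k + 1) + (-1 : F) • 𝐑 (k + 1) by module]
          exact plane (k + 1) hk _ _
        · rw [hc, hb, show v (Sum.inl K) • 𝐏 (k + 1) + (0 : F) • 𝐑 (k + 1) - 𝐑 (k + 1) =
            v (Sum.inl K) • 𝐏 (k + 1) + (-1 : F) • 𝐑 (k + 1) by module]
          exact hPk _ _
      · refine move _ _ _ hfc ?_ ?_ hw
        · rw [show c - 𝐏 (k + 1) = (v (Sum.inl K) - 1) • 𝐏 (k + 1) + v (Sum.inr K) • 𝐑 (k + 1) by rw [hc]; module]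
          exact plane (k + 1) hk _ _
        · rw [show c - 𝐏 (k + 1) = (v (Sum.inl K) - 1) • 𝐏 (k + 1) + v (Sum.inr K) • 𝐑 (k + 1) by rw [hc]; module]
          exact hPk _ _
    -- then the rest
    have sP : ∀ j ≤ k, Sup k (𝐏 j) ∧ Sup k (𝐑 j) := fun j hj => by
      refine ⟨fun i hi => ?_, fun i hi => ?_⟩ <;>
        simp [P_apply (F := F) j (by omega : j < l + 1), R_apply (F := F) j (by omega : j < l + 1), Fin.ext_iff] <;> omega
    have sadd : ∀ a b : 𝐕, Sup k a → Sup k b → Sup k (a + b) ∧ Sup k (a - b) := fun a b ha hb => by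
      refine ⟨fun i hi => ?_, fun i hi => ?_⟩ <;> simp [(ha i hi).1, (ha i hi).2, (hb i hi).1, (hb i hi).2]
    have step : ∀ a b : 𝐕, Sup k a → Sup k b → fm a b ≠ 0 → a + c ∈ C → b + c ∈ C := fun a b ha hb hab h =>
      move a b c hab (ih _ (sadd b a hb ha).2) (hlow _ (sadd b a hb ha).2).1 h
    have h1' : 𝐏 k + c ∈ C := by rw [add_comm (𝐏 k)]; exact h1
    rw [huv]
    by_cases hPu : fm (𝐏 k) u = 0
    swap
    · exact step _ _ (sP k le_rfl).1 hsu hPu h1'
    obtain ⟨y, hy, hy1, hy2⟩ : ∃ y : 𝐕, Sup k y ∧ fm (𝐏 k) y ≠ 0 ∧ fm y u ≠ 0 := by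
      have hPR : fm (𝐏 k) (𝐑 k) ≠ 0 := by rw [fPR, if_pos ⟨rfl, by omega⟩]; exact neg_ne_zero.2 one_ne_zero
      by_cases hRu : fm (𝐑 k) u = 0
      swap
      · exact ⟨_, (sP k le_rfl).2, hPR, hRu⟩
      obtain ⟨a, ha⟩ := Function.ne_iff.1 hu0
      rw [Pi.zero_apply] at ha
      rw [fm_P _ (by omega), neg_eq_zero] at hPu
      rw [fm_R _ (by omega)] at hRu
      rcases a with j | j
      · have hjk : (j : ℕ) ≤ k := by by_contra h; exact ha (hsu j (by omega)).1
        have hne : k ≠ (j : ℕ) := fun e => ha (by rw [show j = ⟨k, by omega⟩ from Fin.ext e.symm]; exact hRu)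
        refine ⟨𝐑 k + 𝐑 j, (sadd _ _ (sP k le_rfl).2 (sP j hjk).2).1, ?_, ?_⟩
        · rw [fm_add_right, fPR, fPR, if_pos ⟨rfl, by omega⟩, if_neg (fun e => hne e.1)]; simp
        · rw [fm_add_left, fm_R _ (by omega), hRu, zero_add, fm_R _ (by omega)]; exact ha
      · have hjk : (j : ℕ) ≤ k := by by_contra h; exact ha (hsu j (by omega)).2
        refine ⟨𝐑 k + 𝐏 j, (sadd _ _ (sP k le_rfl).2 (sP j hjk).1).1, ?_, ?_⟩
        · rw [fm_add_right, fPP, fPR, if_pos ⟨rfl, by omega⟩]; simp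
        · rw [fm_add_left, fm_R _ (by omega), hRu, zero_add, fm_P _ (by omega)]; exact neg_ne_zero.2 ha
    exact step _ _ hy hsu hy2 (step _ _ (sP k le_rfl).1 hy hy1 h1')

/-- Full centres on the chain give the whole group. -/
theorem spGL_le_of_full (hl : 1 ≤ l) (hMsp : M ≤ Cfsg.spGL (l + 1) F) (hU : U F l ∈ M) (hV : V F l ∈ M)
    (h0 : ∀ c, stp (𝐏 0) c ∈ M) : Cfsg.spGL (l + 1) F ≤ M :=
  spGL_le_of_std (fun j hj c => (centres_chain hl hMsp hU hV (h0 c)).1 j hj)
    (fun j hj c => (centres_chain hl hMsp hU hV (h0 c)).2.1 j hj)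
    (fun j hj c => (centres_chain hl hMsp hU hV (h0 c)).2.2 j hj)

/-- A root element whose parameter generates gives a full centre. -/
theorem full_of_root [Finite F] (hl : 1 ≤ l) (hMsp : M ≤ Cfsg.spGL (l + 1) F) (hU : U F l ∈ M) (hV : V F l ∈ M) {t : F}
    (ht : t ≠ 0) (h0 : stp (𝐏 0) t ∈ M) (hgen : Subring.closure ({t * t} : Set F) = ⊤)
    (ht1 : t ≠ 1 ∨ ∀ x : F, x = 0 ∨ x = 1) : ∀ c, stp (𝐏 0) c ∈ M := by
  classical
  by_cases hone : t = 1
  · intro c
    rcases (ht1.resolve_left (not_not_intro hone)) c with rfl | rfl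
    · rw [stp_zero]; exact one_mem _
    · rwa [hone] at h0
  obtain ⟨hP, hPP, hR⟩ := centres_chain hl hMsp hU hV h0
  -- the two translation sets
  let A : ℕ → F → Prop := fun i a => ∃ g ∈ M, app g (𝐑 (i + 1)) = 𝐑 (i + 1) + a • 𝐏 i ∧ ∀ j ≤ l, app g (𝐏 j) = 𝐏 j
  let B : ℕ → F → Prop := fun i s => ∃ g ∈ M, app g (𝐏 (i + 1)) = 𝐏 (i + 1) + s • 𝐏 i ∧
    ∀ j ≤ l, j ≠ i + 1 → app g (𝐏 j) = 𝐏 j
  have hZA : ∀ i < l, ∀ a, A i a → stp (𝐑 (i + 1) + a • 𝐏 i) t ∈ M := by
    rintro i hi a ⟨g, hg, he, -⟩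
    rw [← he]
    exact (conj_iff hMsp hg _ t).2 (hR _ hi)
  have gA : ∀ i < l, ∀ a, A i a → stp (𝐑 (i + 1) + a • 𝐏 i) t * stp (𝐑 (i + 1)) (-t) ∈ M := fun i hi a ha =>
    mul_mem (hZA i hi a ha) (by rw [← stp_inv]; exact inv_mem (hR _ hi))
  have AB : ∀ i < l, ∀ a, A i a → B i (-(a * t)) := by
    intro i hi a ha
    refine ⟨_, gA i hi a ha, ?_, fun j hj hne => ?_⟩
    · rw [stp_add_smul (by rw [fRP, if_neg]; omega), map_mul, LinearEquiv.mul_apply,
        xp_apply (by rw [fRP, if_neg]; omega), fPR, if_pos ⟨rfl, by omega⟩, fPP, stp_apply, fm_add_left,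
        fm_smul_left, fm_add_left, fm_smul_left, fm_smul_left, fPP, fPP, fRP, if_neg (by omega)]
      module
    · rw [map_mul, LinearEquiv.mul_apply, stp_fix (v := 𝐑 (i + 1)) (by rw [fPR, if_neg]; omega),
        stp_fix (by rw [fm_add_right, fm_smul_right, fPP, fPR, if_neg (by omega)]; simp)]
  have BA' : ∀ i < l, ∀ s, stp (𝐏 (i + 1) + s • 𝐏 i) t ∈ M → A i (t * s) := by
    intro i hi s hs
    refine ⟨stp (𝐏 (i + 1) + s • 𝐏 i) t * stp (𝐏 (i + 1)) (-t), mul_mem hs (by rw [← stp_inv]; exact inv_mem (hP _ hi)), ?_, fun j hj => ?_⟩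
    · rw [stp_add_smul (fPP _ _), map_mul, LinearEquiv.mul_apply, xp_apply (fPP _ _), fRP, if_pos ⟨rfl, by omega⟩,
        fRP, if_neg (by omega), stp_apply, fm_add_left, fm_smul_left, fm_add_left, fm_smul_left, fm_smul_left,
        fPP, fPP, fRP, if_neg (by omega)]
      module
    · rw [map_mul, LinearEquiv.mul_apply, stp_fix (fPP _ _), stp_fix (by rw [fm_add_right, fm_smul_right, fPP, fPP]; simp)]
  have BA : ∀ i < l, ∀ s, B i s → A i (t * s) := by
    rintro i hi s ⟨g, hg, he, hfix⟩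
    refine BA' i hi s ?_
    rw [← he]
    exact (conj_iff hMsp hg _ t).2 (hP _ hi)
  have Aall : ∀ i < l, ∀ a, A i a := by
    intro i hi
    let K : AddSubgroup F :=
      { carrier := {a | A i a}
        zero_mem' := ⟨1, one_mem _, by rw [map_one, zero_smul, add_zero]; rfl, fun j _ => by rw [map_one]; rfl⟩
        add_mem' := by
          rintro a b ⟨g, hg, ga, gfix⟩ ⟨h, hh, hb, hfix⟩
          refine ⟨g * h, mul_mem hg hh, ?_, fun j hj => ?_⟩
          · rw [map_mul, LinearEquiv.mul_apply, hb, map_add, map_smul, ga, gfix i hi.le, add_smul, add_assoc]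
          · rw [map_mul, LinearEquiv.mul_apply, hfix j hj, gfix j hj]
        neg_mem' := by
          rintro a ⟨g, hg, ga, gfix⟩
          refine ⟨g⁻¹, inv_mem hg, (app g).injective ?_, fun j hj => (app g).injective ?_⟩
          · rw [app_app_inv, map_add, map_smul, ga, gfix i hi.le]; module
          · rw [app_app_inv, gfix j hj] }
    have hKt : t ∈ K := by
      have h := hPP i hi
      rw [add_comm (𝐏 i), show 𝐏 i = (1 : F) • 𝐏 i from (one_smul F _).symm] at h
      have := BA' i hi 1 h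
      rwa [mul_one] at this
    have hKmul : ∀ a ∈ K, t * t * a ∈ K := by
      intro a ha
      have := K.neg_mem (BA i hi _ (AB i hi a ha) : t * -(a * t) ∈ K)
      rwa [show -(t * -(a * t)) = t * t * a by ring] at this
    let S : Subring F :=
      { carrier := {y | ∀ a ∈ K, y * a ∈ K}
        one_mem' := fun a ha => by rwa [one_mul]
        mul_mem' := fun {x y} hx hy a ha => by rw [mul_assoc]; exact hx _ (hy a ha)
        zero_mem' := fun a _ => by rw [zero_mul]; exact K.zero_mem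
        add_mem' := fun {x y} hx hy a ha => by rw [add_mul]; exact K.add_mem (hx a ha) (hy a ha)
        neg_mem' := fun {x} hx a ha => by rw [neg_mul]; exact K.neg_mem (hx a ha) }
    have htop : S = ⊤ := by
      rw [eq_top_iff, ← hgen, Subring.closure_le]
      rintro x rfl
      exact hKmul
    intro a
    have h := (htop.symm ▸ Subring.mem_top (a / t) : a / t ∈ S) t hKt
    rwa [div_mul_cancel₀ _ ht] at h
  have Ball : ∀ i < l, ∀ s, B i s := fun i hi s => by
    have := AB i hi (-s / t) (Aall i hi _)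
    rwa [show -(-s / t * t) = s by rw [div_mul_cancel₀ _ ht, neg_neg]] at this
  -- removing the product of the g_i from U
  let TP : ℕ → 𝐆 := fun k => k.rec 1 fun i r => stp (𝐏 i) (1 / t) * r
  have TP_fix : ∀ (k : ℕ) (x : 𝐕), (∀ i < k, fm x (𝐏 i) = 0) → app (TP k) x = x := by
    intro k
    induction k with
    | zero => intro x _; change app (1 : 𝐆) x = x; rw [map_one]; rfl
    | succ k ih =>
      intro x hx
      change app (stp (𝐏 k) (1 / t) * TP k) x = x
      rw [map_mul, LinearEquiv.mul_apply, ih x (fun i hi => hx i (by omega)), stp_fix (hx k (by omega))]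
  have TP_comm : ∀ (k : ℕ) (g : 𝐆), g ∈ Cfsg.spGL (l + 1) F → (∀ i < k, app g (𝐏 i) = 𝐏 i) → g * TP k = TP k * g := by
    intro k
    induction k with
    | zero => intro g _ _; change g * 1 = 1 * g; rw [mul_one, one_mul]
    | succ k ih =>
      intro g hg hfix
      change g * (stp (𝐏 k) (1 / t) * TP k) = stp (𝐏 k) (1 / t) * TP k * g
      rw [← mul_assoc, stp_comm_of_fix hg (hfix k (by omega)), mul_assoc, ih g hg (fun i hi => hfix i (by omega)), mul_assoc]
  have hG : ∀ k ≤ l, TP k * LP F (l + 1) k ∈ M := by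
    intro k
    induction k with
    | zero => intro _; change (1 : 𝐆) * 1 ∈ M; rw [mul_one]; exact one_mem _
    | succ k ih =>
      intro hk
      have hg := gA k hk (-1 / t) (Aall k hk _)
      rw [stp_add_smul (by rw [fRP, if_neg]; omega), show -1 / t * (-1 / t) * t = 1 / t by field_simp,
        show -1 / t * t = -1 by field_simp] at hg
      have := mul_mem hg (ih (by omega))
      change stp (𝐏 k) (1 / t) * TP k * (Li F (l + 1) k * LP F (l + 1) k) ∈ M
      change stp (𝐏 k) (1 / t) * Li F (l + 1) k * (TP k * LP F (l + 1) k) ∈ M at this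
      rw [mul_assoc, ← mul_assoc (Li F (l + 1) k), TP_comm k (Li F (l + 1) k) (xp_mem _ _ _) (fun i hi => Li_P_ne (by omega)),
        mul_assoc (TP k), ← mul_assoc] at this
      exact this
  have hW : stp (𝐏 l) 1 * (TP l)⁻¹ ∈ M := by
    have := mul_mem hU (inv_mem (hG l le_rfl))
    rwa [U, _root_.mul_inv_rev, mul_assoc, ← mul_assoc (LP F (l + 1) l), mul_inv_cancel, one_mul] at this
  obtain ⟨i, rfl⟩ : ∃ i, l = i + 1 := ⟨l - 1, by omega⟩
  have hY : ∀ s : F, stp (P F (i + 1 + 1) (i + 1) + s • P F (i + 1 + 1) i) 1 *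
      stp (P F (i + 1 + 1) (i + 1)) (-1) ∈ M := by
    intro s
    obtain ⟨g, hg, he, hfix⟩ := Ball i (by omega) s
    have hcomm := TP_comm (i + 1) g (hMsp hg) (fun j hj => hfix j (by omega) (by omega))
    obtain ⟨T, hT⟩ : ∃ T, T = TP (i + 1) := ⟨_, rfl⟩
    rw [← hT] at hW hcomm
    have h1 := mul_mem (mul_mem (mul_mem hg hW) (inv_mem hg)) (inv_mem hW)
    have hc' : T⁻¹ * g⁻¹ = g⁻¹ * T⁻¹ := by rw [← _root_.mul_inv_rev, hcomm, _root_.mul_inv_rev]
    rwa [_root_.mul_inv_rev, inv_inv, show g * (stp (P F (i + 1 + 1) (i + 1)) 1 * T⁻¹) * g⁻¹ *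
        (T * (stp (P F (i + 1 + 1) (i + 1)) 1)⁻¹) =
      g * stp (P F (i + 1 + 1) (i + 1)) 1 * (T⁻¹ * g⁻¹) * T * (stp (P F (i + 1 + 1) (i + 1)) 1)⁻¹ by group,
      hc', ← mul_assoc, inv_mul_cancel_right, stp_conj (hMsp hg), he, stp_inv] at h1
  have hYt : ∀ s : F, stp (P F (i + 1 + 1) (i + 1) + s • P F (i + 1 + 1) i) t *
      stp (P F (i + 1 + 1) (i + 1)) (-t) ∈ M := by
    intro s
    obtain ⟨g, hg, he, -⟩ := Ball i (by omega) s
    refine mul_mem ?_ (by rw [← stp_inv]; exact inv_mem (hP _ le_rfl))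
    rw [← he]
    exact (conj_iff hMsp hg _ t).2 (hP _ le_rfl)
  have hD : ∀ x : F, stp (P F (i + 1 + 1) i) (x * x * (1 - 1 / t)) ∈ M := by
    intro x
    have h1 := hY x
    have h2 := hYt (x / t)
    rw [stp_add_smul (fPP _ _)] at h1 h2
    rw [mul_one, mul_one] at h1
    rw [show x / t * t = x by field_simp] at h2
    have h3 := mul_mem h1 (inv_mem h2)
    rw [_root_.mul_inv_rev, mul_assoc, mul_inv_cancel_left, stp_inv, stp_mul] at h3
    rwa [show x * x * (1 - 1 / t) = x * x + -(x / t * (x / t) * t) by field_simp; ring]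
  have hne : (1 : F) - 1 / t ≠ 0 := fun h => hone (by
    rw [sub_eq_zero] at h
    field_simp at h
    exact h)
  let N : AddSubgroup F :=
    { carrier := {y | stp (P F (i + 1 + 1) i) (y * (1 - 1 / t)) ∈ M}
      zero_mem' := by rw [Set.mem_setOf_eq, zero_mul, stp_zero]; exact one_mem _
      add_mem' := fun {a b} ha hb => by
        rw [Set.mem_setOf_eq, add_mul, ← stp_mul]
        exact mul_mem ha hb
      neg_mem' := fun {a} ha => by
        rw [Set.mem_setOf_eq, neg_mul, ← stp_inv]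
        exact inv_mem ha }
  intro c
  have hc : stp (P F (i + 1 + 1) i) c ∈ M := by
    have := Linear.mem_of_sq_mem N hD (c / (1 - 1 / t))
    change stp _ (c / (1 - 1 / t) * (1 - 1 / t)) ∈ M at this
    rwa [div_mul_cancel₀ _ hne] at this
  have down : ∀ j ≤ i, stp (P F (i + 1 + 1) j) c ∈ M → stp (P F (i + 1 + 1) 0) c ∈ M := by
    intro j
    induction j with
    | zero => intro _ h; exact h
    | succ j ih =>
      intro hj h
      refine ih (by omega) ?_
      have e1 : app (V F (i + 1) * U F (i + 1)) (P F (i + 1 + 1) (j + 1)) = P F (i + 1 + 1) j := by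
        rw [map_mul, LinearEquiv.mul_apply, U_P j (by omega), add_comm (P F (i + 1 + 1) (j + 1)), V_P_pair j (by omega)]
      rw [← e1]
      exact (conj_iff hMsp (mul_mem hV hU) _ c).2 h
  exact down i le_rfl hc

end Cfsg.Agent.RegUnip.Sp
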