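/-
Sp_2n over a finite field is generated by three conjugate regular unipotent elements, (n,q) ≠ (2,2).
Main result (namespace `Cfsg.Agent.RegUnip.Sp`): `exists_three`.
-/
import Cfsg.Agent.Lib.RegUnip.SpGen

set_option autoImplicit false
set_option linter.unusedSectionVars false

namespace Cfsg.Agent.RegUnip.Sp

open Matrix Cfsg.Agent.Transvect
open scoped MatrixGroups

attribute [-simp] app_apply

variable {F : Type*} [Field F]

theorem closure_gen_eq_top [Finite F] {γ : Fˣ} (hγ : ∀ x, x ∈ Subgroup.zpowers γ) :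
    Subring.closure ({(γ : F)} : Set F) = ⊤ := by
  rw [eq_top_iff]
  intro x _
  rcases eq_or_ne x 0 with rfl | hx
  · exact zero_mem _
  · obtain ⟨k, hk⟩ := mem_powers_iff_mem_zpowers.2 (hγ (Units.mk0 x hx))
    rw [show x = (γ : F) ^ k from (congrArg Units.val hk).symm.trans (Units.val_pow_eq_pow_val γ k)]
    exact pow_mem (Subring.subset_closure (Set.mem_singleton _)) k

/-- A finite subring of a field is closed under inverses. -/
theorem inv_mem_subring [Finite F] (K : Subring F) {x : F} (hx : x ∈ K) : x⁻¹ ∈ K := by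
  haveI := Fintype.ofFinite F
  rcases eq_or_ne x 0 with rfl | h
  · rw [_root_.inv_zero]; exact zero_mem K
  have h2 : 2 ≤ Fintype.card F := Fintype.one_lt_card
  have h1 := FiniteField.pow_card_sub_one_eq_one x h
  rw [show Fintype.card F - 1 = (Fintype.card F - 2) + 1 by omega, pow_succ] at h1
  rw [← eq_inv_of_mul_eq_one_left h1]
  exact pow_mem hx _

/-- In characteristic two squaring preserves generation. -/
theorem closure_sq_of_char_two [Finite F] (h2 : (2 : F) = 0) {t : F} (ht : Subring.closure ({t} : Set F) = ⊤) :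
    Subring.closure ({t * t} : Set F) = ⊤ := by
  haveI : CharP F 2 := CharTwo.of_one_ne_zero_of_two_eq_zero one_ne_zero h2
  let φ : F →+* F := frobenius F 2
  have hφ : ∀ x, φ x = x * x := fun x => by rw [frobenius_def, sq]
  have hinj : Function.Injective φ := RingHom.injective φ
  have h := RingHom.map_closure φ ({t} : Set F)
  rw [ht, Set.image_singleton, hφ] at h
  rw [← h, eq_top_iff]
  intro x _
  obtain ⟨y, rfl⟩ := Finite.surjective_of_injective hinj x
  exact ⟨y, trivial, rfl⟩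

/-- The square of a generator generates. -/
theorem closure_sq_gen [Finite F] {γ : Fˣ} (hγ : ∀ x, x ∈ Subgroup.zpowers γ) :
    Subring.closure ({(γ : F) * γ} : Set F) = ⊤ := by
  classical
  by_cases h2 : (2 : F) = 0
  · exact closure_sq_of_char_two h2 (closure_gen_eq_top hγ)
  set K := Subring.closure ({(γ : F) * γ} : Set F) with hK
  by_contra hne
  have hγK : (γ : F) ∉ K := fun h => hne (by
    rw [eq_top_iff, ← closure_gen_eq_top hγ, Subring.closure_le]
    rintro x rfl
    exact h)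
  -- every element is either in `K` or a multiple of `γ` by an element of `K`
  have dich : ∀ x : F, x ∈ K ∨ ∃ k ∈ K, x = k * γ := by
    intro x
    rcases eq_or_ne x 0 with rfl | hx
    · exact Or.inl (zero_mem _)
    obtain ⟨m, hm⟩ := mem_powers_iff_mem_zpowers.2 (hγ (Units.mk0 x hx))
    have hm' : x = (γ : F) ^ m := (congrArg Units.val hm).symm.trans (Units.val_pow_eq_pow_val γ m)
    rcases Nat.even_or_odd' m with ⟨k, rfl | rfl⟩
    · left; rw [hm', pow_mul, sq]; exact pow_mem (Subring.subset_closure (Set.mem_singleton _)) k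
    · right; exact ⟨((γ : F) * γ) ^ k, pow_mem (Subring.subset_closure (Set.mem_singleton _)) k, by rw [hm', pow_succ, pow_mul, sq]⟩
  rcases dich (1 + γ) with h | ⟨k, hk, h⟩
  · exact hγK (by simpa using K.sub_mem h K.one_mem)
  · rcases eq_or_ne (k - 1) 0 with h0 | h0
    · rw [sub_eq_zero.1 h0, one_mul] at h
      exact one_ne_zero (α := F) (by linear_combination h)
    · have : (γ : F) = (k - 1)⁻¹ := eq_inv_of_mul_eq_one_right (by linear_combination -h)
      exact hγK (this ▸ inv_mem_subring K (K.sub_mem hk K.one_mem))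

/-- For q ≠ 4 in characteristic two some `x² + x` generates. -/
theorem exists_trace_zero_gen [Finite F] (h2 : (2 : F) = 0) {γ : Fˣ} (hγ : ∀ x, x ∈ Subgroup.zpowers γ)
    (h4 : (γ : F) * γ + γ + 1 ≠ 0) : ∃ x : F, Subring.closure ({x * x + x} : Set F) = ⊤ := by
  classical
  haveI := Fintype.ofFinite F
  by_contra hc
  push Not at hc
  set g := (γ : F)
  have hg0 : g ≠ 0 := γ.ne_zero
  -- the two closures are proper subfields with the same cardinality
  have quad : ∀ (K : Subring F), K ≠ ⊤ → ∀ x : F, x * x + x ∈ K → Subring.closure ({x} : Set F) = ⊤ →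
      Nat.card F = Nat.card K ^ 2 := by
    intro K hK x hx hgen
    letI : Field K := (Finite.isField_of_domain K).toField
    have hxK : x ∉ K := fun h => hK (by
      rw [eq_top_iff, ← hgen, Subring.closure_le]
      rintro y rfl
      exact h)
    let S : Subring F :=
      { carrier := {y | ∃ a b : K, y = (a : F) + b * x}
        one_mem' := ⟨1, 0, by simp⟩
        zero_mem' := ⟨0, 0, by simp⟩
        add_mem' := by
          rintro y z ⟨a, b, rfl⟩ ⟨a', b', rfl⟩
          exact ⟨a + a', b + b', by push_cast; ring⟩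
        neg_mem' := by
          rintro y ⟨a, b, rfl⟩
          exact ⟨-a, -b, by push_cast; ring⟩
        mul_mem' := by
          rintro y z ⟨a, b, rfl⟩ ⟨a', b', rfl⟩
          exact ⟨a * a' + b * b' * ⟨x * x + x, hx⟩, a * b' + b * a' - b * b', by push_cast; ring⟩ }
    have hS : S = ⊤ := by
      rw [eq_top_iff, ← hgen, Subring.closure_le]
      rintro y rfl
      exact ⟨0, 1, by simp⟩
    have hbij : Function.Bijective (fun p : K × K => (p.1 : F) + p.2 * x) := by
      constructor
      · rintro ⟨a, b⟩ ⟨a', b'⟩ h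
        simp only at h
        by_cases hb : b = b'
        · subst hb
          exact Prod.ext (Subtype.ext (add_right_cancel h)) rfl
        · exfalso
          have hd : ((b : F) - b') ≠ 0 := sub_ne_zero.2 fun e => hb (Subtype.ext e)
          have : x = ((a' : F) - a) * ((b : F) - b')⁻¹ := by
            field_simp
            linear_combination h
          exact hxK (this ▸ K.mul_mem (K.sub_mem a'.2 a.2) (inv_mem_subring K (K.sub_mem b.2 b'.2)))
      · intro y
        obtain ⟨a, b, h⟩ := (hS.symm ▸ Subring.mem_top y : y ∈ S)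
        exact ⟨(a, b), h.symm⟩
    rw [← Nat.card_eq_of_bijective _ hbij, Nat.card_prod, sq]
  set u := g * g + g with hu
  set v := g⁻¹ * g⁻¹ + g⁻¹ with hv
  set K := Subring.closure ({u} : Set F)
  set K' := Subring.closure ({v} : Set F)
  have hginv : Subring.closure ({g⁻¹} : Set F) = ⊤ := by
    rw [eq_top_iff, ← closure_gen_eq_top hγ, Subring.closure_le]
    rintro y rfl
    have hmem := inv_mem_subring (Subring.closure ({g⁻¹} : Set F)) (Subring.subset_closure (Set.mem_singleton _))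
    rwa [inv_inv] at hmem
  have c1 := quad K (hc g) g (Subring.subset_closure (Set.mem_singleton _)) (closure_gen_eq_top hγ)
  have c2 := quad K' (hc g⁻¹) g⁻¹ (Subring.subset_closure (Set.mem_singleton _)) hginv
  have hcard : Nat.card K = Nat.card K' := Nat.pow_left_injective (by norm_num) (c1.symm.trans c2)
  -- both are the fixed points of the same power map
  have fix : ∀ (L : Subring F), Nat.card L = Nat.card K → ∀ y ∈ L, y ^ Nat.card K = y := by
    intro L hL y hy
    letI : Field L := (Finite.isField_of_domain L).toField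
    haveI := Fintype.ofFinite L
    have := FiniteField.pow_card (⟨y, hy⟩ : L)
    rw [← Nat.card_eq_fintype_card, hL] at this
    exact congrArg Subtype.val this
  have hvK : v ∈ K := by
    by_contra hvK
    have hsub : insert v (K : Set F) ⊆ ↑((Polynomial.X ^ Nat.card K - Polynomial.X : Polynomial F).roots.toFinset) := by
      intro y hy
      have hy' : y ^ Nat.card K = y := by
        rcases Set.mem_insert_iff.1 hy with rfl | hy
        · exact fix K' hcard.symm _ (Subring.subset_closure (Set.mem_singleton _))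
        · exact fix K rfl y hy
      have hne : (Polynomial.X ^ Nat.card K - Polynomial.X : Polynomial F) ≠ 0 :=
        FiniteField.X_pow_card_sub_X_ne_zero F (Finite.one_lt_card)
      rw [Finset.mem_coe, Multiset.mem_toFinset, Polynomial.mem_roots hne, Polynomial.IsRoot.def, Polynomial.eval_sub,
        Polynomial.eval_pow, Polynomial.eval_X, hy', sub_self]
    have h1 := Set.ncard_le_ncard hsub (Finset.finite_toSet _)
    rw [Set.ncard_insert_of_notMem (show v ∉ (K : Set F) from hvK) (Set.toFinite _), Set.ncard_coe_finset] at h1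
    have h3 : (Polynomial.X ^ Nat.card K - Polynomial.X : Polynomial F).roots.toFinset.card ≤ Nat.card K :=
      (Multiset.toFinset_card_le _).trans ((Polynomial.card_roots' _).trans
        (by rw [FiniteField.X_pow_card_sub_X_natDegree_eq F (Finite.one_lt_card (α := K))]))
    have h4' : (K : Set F).ncard = Nat.card K := (Nat.card_coe_set_eq _).symm
    omega
  have huK : u ∈ K := Subring.subset_closure (Set.mem_singleton _)
  have hs : g + g⁻¹ ∈ K := by
    have : g + g⁻¹ = u * v := by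
      rw [hu, hv]; field_simp; linear_combination (-g) * h2
    rw [this]; exact mul_mem huK hvK
  have h1 : g + g⁻¹ + 1 ≠ 0 := by
    intro h
    apply h4
    field_simp at h
    linear_combination h
  have hg : g = (u + 1) * (g + g⁻¹ + 1)⁻¹ := by
    rw [eq_mul_inv_iff_mul_eq₀ h1, hu, mul_add, mul_add, mul_inv_cancel₀ hg0]; ring
  refine hc g ?_
  rw [eq_top_iff, ← closure_gen_eq_top hγ, Subring.closure_le]
  rintro y rfl
  have hmem := mul_mem (add_mem huK K.one_mem) (inv_mem_subring K (add_mem hs K.one_mem))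
  rw [← hg] at hmem
  exact hmem

variable {l : ℕ}

theorem exists_h_long (hl : 2 ≤ l) (t : F) :
    ∃ h ∈ Cfsg.spGL (l + 1) F, h * U F l * h⁻¹ = stp (P F (l + 1) 0) t * U F l := by
  set p0 := P F (l + 1) 0; set p1 := P F (l + 1) 1; set p2 := P F (l + 1) 2
  set h0 := stp p1 t * xp p0 p2 (-t) with hh
  have key : U F l * h0 * (U F l)⁻¹ = h0 * stp p0 t := by
    have : U F l * h0 * (U F l)⁻¹ = stp (p1 + p0) t * xp p0 (p2 + p1) (-t) := by
      have e1 : app (U F l) p1 = p1 + p0 := U_P 0 (by omega)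
      have e2 : app (U F l) p2 = p2 + p1 := U_P 1 (by omega)
      have e0 : app (U F l) p0 = p0 := U_P_zero
      rw [hh, show U F l * (stp p1 t * xp p0 p2 (-t)) * (U F l)⁻¹ =
        (U F l * stp p1 t * (U F l)⁻¹) * (U F l * xp p0 p2 (-t) * (U F l)⁻¹) by group,
        stp_conj U_mem, xp_conj U_mem, e0, e1, e2]
    rw [this, hh]
    refine gl_ext fun x => ?_
    have a : fm p0 (p2 + p1) = 0 := by rw [fm_add_right, fPP, fPP, add_zero]
    simp only [map_mul, LinearEquiv.mul_apply, stp_apply, xp_apply a, xp_apply (fPP 0 2),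
      fm_add_left, fm_add_right, fm_smul_left, p0, p1, p2, fPP]
    module
  refine ⟨h0⁻¹, inv_mem (mul_mem (stp_mem _ _) (xp_mem _ _ _)), ?_⟩
  rw [inv_inv, mul_assoc, mul_inv_eq_iff_eq_mul.1 key]
  simp only [← mul_assoc, inv_mul_cancel, one_mul]

theorem exists_h_odd (hl : 1 ≤ l) (a : F) :
    ∃ h ∈ Cfsg.spGL (l + 1) F, h * U F l * h⁻¹ = stp (P F (l + 1) 0) (2 * a) * U F l := by
  set p0 := P F (l + 1) 0; set p1 := P F (l + 1) 1
  have key : U F l * xp p0 p1 a * (U F l)⁻¹ = xp p0 p1 a * stp p0 (2 * a) := by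
    have e1 : app (U F l) p1 = p1 + p0 := U_P 0 (by omega)
    have e0 : app (U F l) p0 = p0 := U_P_zero
    rw [xp_conj U_mem, e0, e1]
    refine gl_ext fun x => ?_
    have b : fm p0 (p1 + p0) = 0 := by rw [fm_add_right, fPP, fPP, add_zero]
    simp only [map_mul, LinearEquiv.mul_apply, stp_apply, xp_apply b, xp_apply (fPP 0 1),
      fm_add_left, fm_add_right, fm_smul_left, p0, p1, fPP]
    module
  refine ⟨(xp p0 p1 a)⁻¹, inv_mem (xp_mem _ _ _), ?_⟩
  rw [inv_inv, mul_assoc, mul_inv_eq_iff_eq_mul.1 key]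
  simp only [← mul_assoc, inv_mul_cancel, one_mul]

theorem exists_h_two (x : F) :
    ∃ h ∈ Cfsg.spGL (1 + 1) F, h * U F 1 * h⁻¹ = stp (P F (1 + 1) 0) (x * x - x) * U F 1 := by
  set p0 := P F (1 + 1) 0; set p1 := P F (1 + 1) 1; set r1 := R F (1 + 1) 1
  have hr : fm r1 p0 = 0 := by simp only [r1, p0, fRP]; simp
  set L := fun y : F => xp r1 p0 (-y) with hL
  have Lp1 : ∀ y, app (L y) p1 = p1 + y • p0 := fun y => by
    simp only [hL, xp_apply hr, r1, p0, p1, fPP, fPR]
    simp
  have hU : U F 1 = stp p1 1 * L 1 := by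
    rw [U, LP_succ, LP_zero, mul_one]; rfl
  have conj : ∀ y z, L y * stp p1 z = stp (p1 + y • p0) z * L y := fun y z => by
    rw [← Lp1 y, ← mul_inv_eq_iff_eq_mul, stp_conj (xp_mem _ _ _)]
  have comm : L x * L 1 = L 1 * L x := gl_ext fun v => by
    simp only [hL, map_mul, LinearEquiv.mul_apply, xp_apply hr, fm_add_left, fm_smul_left, r1, p0, fRR, fPP, fRP, fPR]
    simp
    module
  refine ⟨stp p1 x * L x, mul_mem (stp_mem _ _) (xp_mem _ _ _), ?_⟩
  rw [mul_inv_eq_iff_eq_mul, hU]
  calc stp p1 x * L x * (stp p1 1 * L 1) = stp p1 x * (L x * stp p1 1) * L 1 := by group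
    _ = (stp p1 x * stp (p1 + x • p0) 1) * (L 1 * L x) := by rw [conj, ← comm]; group
    _ = (stp p0 (x * x - x) * stp p1 1 * stp (p1 + (1 : F) • p0) x) * (L 1 * L x) := by
      congr 1
      refine gl_ext fun v => ?_
      simp only [map_mul, LinearEquiv.mul_apply, stp_apply, fm_add_left, fm_add_right, fm_smul_left, fm_smul_right, p0, p1, fPP]
      module
    _ = stp p0 (x * x - x) * stp p1 1 * (stp (p1 + (1 : F) • p0) x * L 1) * L x := by group
    _ = _ := by rw [← conj]; group

/-- A coordinate vector in Sp_4. -/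
def vec (a b c d : F) : Fin (1 + 1) ⊕ Fin (1 + 1) → F :=
  a • P F (1 + 1) 0 + b • P F (1 + 1) 1 + c • R F (1 + 1) 0 + d • R F (1 + 1) 1

theorem U_vec (a b c d : F) : app (U F 1) (vec a b c d) = vec (a + b) (b + d - c) c (d - c) := by
  have e0 : app (U F 1) (R F (1 + 1) 0) = R F (1 + 1) 0 - R F (1 + 1) 1 - P F (1 + 1) 1 := by
    have h := U_R_pair (F := F) (l := 1) 0 one_pos
    rw [map_add, U_R_last] at h
    rw [eq_sub_of_add_eq h]; abel
  simp only [vec, map_add, map_smul, U_P_zero, U_P 0 one_pos, e0, U_R_last]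
  module

theorem stp_vec (e : F) (a b c d : F) :
    app (stp (P F (1 + 1) 0) e) (vec a b c d) = vec (a + e * c) b c d := by
  simp [stp_apply, vec, fm_add_left, fm_smul_left, fPP, fRP]
  module

theorem V4_vec (e : F) (a b c d : F) :
    app (stp (R F (1 + 1) 1) e * xp (R F (1 + 1) 0) (P F (1 + 1) 1) 1) (vec a b c d) =
      vec a (b - a) (c + d) (d + e * (a - b)) := by
  have h : fm (R F (1 + 1) 0) (P F (1 + 1) 1) = 0 := by simp [fRP]
  simp [map_mul, LinearEquiv.mul_apply, stp_apply, xp_apply h, vec, fm_add_left, fm_smul_left, fPP, fRP, fPR, fRR]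
  module

/-- The exceptional case `Sp_4(4)`. -/
theorem top_four (h2 : (2 : F) = 0) {w : F} (hw : w * w + w + 1 = 0) (hall : ∀ x : F, x = 0 ∨ x = 1 ∨ x = w ∨ x = w + 1)
    {M : Subgroup (GL (Fin (1 + 1) ⊕ Fin (1 + 1)) F)} (hMsp : M ≤ Cfsg.spGL (1 + 1) F) (hU : U F 1 ∈ M)
    (hV : stp (R F (1 + 1) 1) (w + 1) * xp (R F (1 + 1) 0) (P F (1 + 1) 1) 1 ∈ M)
    (hT : stp (P F (1 + 1) 0) 1 ∈ M) : Cfsg.spGL (1 + 1) F ≤ M := by
  set V4 := stp (R F (1 + 1) 1) (w + 1) * xp (R F (1 + 1) 0) (P F (1 + 1) 1) 1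
  set T := stp (P F (1 + 1) 0) (1 : F)
  have nx : ∀ {g : GL (Fin (1 + 1) ⊕ Fin (1 + 1)) F}, g ∈ M → ∀ {x y : Fin (1 + 1) ⊕ Fin (1 + 1) → F} (c : F),
      app g x = y → (stp x c ∈ M ↔ stp y c ∈ M) := fun hg _ _ c e => by rw [← e, conj_iff hMsp hg]
  have p0 : vec (1 : F) 0 0 0 = P F (1 + 1) 0 := by simp [vec]
  have ve : ∀ a b c d a' b' c' d' : F, a = a' → b = b' → c = c' → d = d' → vec a b c d = vec a' b' c' d' := by
    intros; subst_vars; rfl
  have u : ∀ a b c d a' b' c' d' : F, a + b = a' → b + d - c = b' → c = c' → d - c = d' →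
      app (U F 1) (vec a b c d) = vec a' b' c' d' := fun a b c d a' b' c' d' h1 h2 h3 h4 =>
    (U_vec a b c d).trans (ve _ _ _ _ _ _ _ _ h1 h2 h3 h4)
  have v : ∀ a b c d a' b' c' d' : F, a = a' → b - a = b' → c + d = c' → d + (w + 1) * (a - b) = d' →
      app V4 (vec a b c d) = vec a' b' c' d' := fun a b c d a' b' c' d' h1 h2 h3 h4 =>
    (V4_vec (w + 1) a b c d).trans (ve _ _ _ _ _ _ _ _ h1 h2 h3 h4)
  have t : ∀ a b c d a' b' c' d' : F, a + 1 * c = a' → b = b' → c = c' → d = d' →
      app T (vec a b c d) = vec a' b' c' d' := fun a b c d a' b' c' d' h1 h2 h3 h4 =>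
    (stp_vec 1 a b c d).trans (ve _ _ _ _ _ _ _ _ h1 h2 h3 h4)
  -- coefficient 1 at all vectors of the orbit
  have z0 : ∀ c, stp (P F (1 + 1) 0) c ∈ M ↔ stp (vec 1 0 0 0) c ∈ M := fun c => by rw [p0]
  have hW : stp (vec w 0 0 0) 1 ∈ M := by
    have h0 : stp (vec 1 0 0 0) (1 : F) ∈ M := (z0 1).1 hT
    have a1 := (nx hV 1 (v 1 0 0 0 1 1 0 (w + 1) (by grind) (by grind) (by grind) (by grind))).1 h0
    have a2 := (nx hU 1 (u (w + 1) w 0 (w + 1) 1 1 0 (w + 1) (by grind) (by grind) (by grind) (by grind))).2 a1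
    have a3 := (nx hV 1 (v (w + 1) w 0 (w + 1) (w + 1) 1 (w + 1) 0 (by grind) (by grind) (by grind) (by grind))).1 a2
    have a4 := (nx hU 1 (u (w + 1) 1 (w + 1) 0 w w (w + 1) (w + 1) (by grind) (by grind) (by grind) (by grind))).1 a3
    have a5 := (nx (g := T) hT 1 (t w w (w + 1) (w + 1) 1 w (w + 1) (w + 1) (by grind) (by grind) (by grind) (by grind))).1 a4
    have a6 := (nx hV 1 (v 1 w (w + 1) (w + 1) 1 (w + 1) 0 1 (by grind) (by grind) (by grind) (by grind))).1 a5
    have a7 := (nx hU 1 (u 1 (w + 1) 0 1 w w 0 1 (by grind) (by grind) (by grind) (by grind))).1 a6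
    exact (nx hV 1 (v w 0 0 0 w w 0 1 (by grind) (by grind) (by grind) (by grind))).2 a7
  have hfull : ∀ c, stp (P F (1 + 1) 0) c ∈ M := by
    have h1 : stp (P F (1 + 1) 0) (w + 1) ∈ M := by
      have : vec w 0 0 0 = w • P F (1 + 1) 0 := by simp [vec]
      rwa [this, stp_smul, show 1 * w * w = w + 1 by grind] at hW
    intro c
    rcases hall c with e | e | e | e <;> rw [e]
    · rw [stp_zero]; exact one_mem _
    · exact hT
    · have := mul_mem h1 hT
      rwa [stp_mul, show w + 1 + 1 = w by grind] at this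
    · exact h1
  have hc : ∀ c, stp (vec 1 0 0 0) c ∈ M := fun c => (z0 c).1 (hfull c)
  have q01 : ∀ c, stp (vec 1 1 0 0) c ∈ M := fun c =>
    (nx hV c (v 1 1 0 0 1 0 0 0 (by grind) (by grind) (by grind) (by grind))).2 (hc c)
  have q1 : ∀ c, stp (vec 0 1 0 0) c ∈ M := fun c =>
    (nx hU c (u 1 1 0 0 0 1 0 0 (by grind) (by grind) (by grind) (by grind))).1 (q01 c)
  have b1 : ∀ c, stp (vec 1 1 0 (w + 1)) c ∈ M := fun c =>
    (nx hV c (v 1 0 0 0 1 1 0 (w + 1) (by grind) (by grind) (by grind) (by grind))).1 (hc c)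
  have qr0 : ∀ c, stp (vec 0 0 w 0) c ∈ M := fun c =>
    (nx hU c (u 0 0 w 0 0 w w w (by grind) (by grind) (by grind) (by grind))).2
      ((nx hV c (v 0 w w w 0 w 0 (w + 1) (by grind) (by grind) (by grind) (by grind))).2
        ((nx hU c (u 1 1 0 (w + 1) 0 w 0 (w + 1) (by grind) (by grind) (by grind) (by grind))).1 (b1 c)))
  have qr1 : ∀ c, stp (vec 0 0 0 w) c ∈ M := fun c => by
    have c2 := (nx hV c (v 1 1 0 (w + 1) 1 0 (w + 1) (w + 1) (by grind) (by grind) (by grind) (by grind))).1 (b1 c)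
    have c3 := (nx (g := T) hT c (t 1 0 (w + 1) (w + 1) w 0 (w + 1) (w + 1) (by grind) (by grind) (by grind) (by grind))).1 c2
    have c4 := (nx hV c (v w 0 (w + 1) (w + 1) w w 0 w (by grind) (by grind) (by grind) (by grind))).1 c3
    exact (nx hU c (u w w 0 w 0 0 0 w (by grind) (by grind) (by grind) (by grind))).1 c4
  have hw0 : w ≠ 0 := by rintro rfl; simp at hw
  have unscale : ∀ x : Fin (1 + 1) ⊕ Fin (1 + 1) → F, (∀ c, stp (w • x) c ∈ M) → ∀ c, stp x c ∈ M := fun x h c => by
    have := h (c / w / w)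
    rwa [stp_smul, div_mul_cancel₀ _ hw0, div_mul_cancel₀ _ hw0] at this
  refine spGL_le_of_std ?_ ?_ ?_
  · intro j hj
    rcases (show j = 0 ∨ j = 1 by omega) with rfl | rfl
    · exact hfull
    · rw [show P F (1 + 1) 1 = vec 0 1 0 0 by simp [vec]]; exact q1
  · intro j hj
    obtain rfl : j = 0 := by omega
    rw [show P F (1 + 1) 0 + P F (1 + 1) (0 + 1) = vec 1 1 0 0 by simp [vec]]; exact q01
  · intro j hj
    rcases (show j = 0 ∨ j = 1 by omega) with rfl | rfl
    · exact unscale _ (by rw [show w • R F (1 + 1) 0 = vec 0 0 w 0 by simp [vec]]; exact qr0)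
    · exact unscale _ (by rw [show w • R F (1 + 1) 1 = vec 0 0 0 w by simp [vec]]; exact qr1)

/-- A scaling of `J` for the exceptional case. -/
def g4 (w : Fˣ) : GL (Fin (1 + 1) ⊕ Fin (1 + 1)) F :=
  ⟨Matrix.fromBlocks 0 (-((w⁻¹ : Fˣ) : F) • 1) ((w : F) • 1) 0,
    Matrix.fromBlocks 0 (((w⁻¹ : Fˣ) : F) • 1) (-(w : F) • 1) 0,
    by simp [Matrix.fromBlocks_multiply, smul_smul, Matrix.fromBlocks_one],
    by simp [Matrix.fromBlocks_multiply, smul_smul, Matrix.fromBlocks_one]⟩

theorem g4_P (w : Fˣ) (i : ℕ) : app (g4 w) (P F (1 + 1) i) = (w : F) • R F (1 + 1) i := by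
  rw [app_apply, g4, P, R]
  split_ifs with h
  · funext a; rcases a with a | a <;> simp [Matrix.fromBlocks, Matrix.one_apply, Pi.single_apply]
  · rw [Matrix.mulVec_zero, smul_zero]

theorem g4_R (w : Fˣ) (i : ℕ) : app (g4 w) (R F (1 + 1) i) = (-((w⁻¹ : Fˣ) : F)) • P F (1 + 1) i := by
  rw [app_apply, g4, P, R]
  split_ifs with h
  · funext a; rcases a with a | a <;> simp [Matrix.fromBlocks, Matrix.one_apply, Pi.single_apply] <;>
      split_ifs <;> simp
  · rw [Matrix.mulVec_zero, smul_zero]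

theorem g4_mem (w : Fˣ) : g4 w ∈ Cfsg.spGL (1 + 1) F := by
  refine mem_spGL_iff.2 fun x y => ?_
  simp [app_apply, g4, Cfsg.sympForm, Matrix.J, Matrix.mulVec, dotProduct, Fintype.sum_sum_type, Fin.sum_univ_two,
    Matrix.fromBlocks, Matrix.one_apply]
  field_simp
  ring

theorem g4_conj (w : Fˣ) : g4 w * U F 1 * (g4 w)⁻¹ =
    stp (R F (1 + 1) 1) ((w : F) * w) * xp (R F (1 + 1) 0) (P F (1 + 1) 1) 1 := by
  rw [U, LP_succ, LP_zero, mul_one, Li, show g4 w * (stp (P F (1 + 1) 1) 1 * xp (R F (1 + 1) (0 + 1)) (P F (1 + 1) 0) (-1)) * (g4 w)⁻¹ =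
    (g4 w * stp (P F (1 + 1) 1) 1 * (g4 w)⁻¹) * (g4 w * xp (R F (1 + 1) (0 + 1)) (P F (1 + 1) 0) (-1) * (g4 w)⁻¹) by group,
    stp_conj (g4_mem w), xp_conj (g4_mem w), g4_P, g4_P, g4_R, stp_smul, one_mul]
  congr 1
  refine gl_ext fun x => ?_
  rw [xp_apply (by simp [fm_smul_left, fm_smul_right, fPR]), xp_apply (by simp [fRP])]
  simp [fm_smul_right]
  have hw := w.ne_zero
  match_scalars <;> field_simp <;> rfl

/-- Three conjugate regular unipotent elements generate Sp_2n. -/
theorem exists_three [Finite F] (hl : 1 ≤ l) (h22 : ¬ (l = 1 ∧ Nat.card F = 2)) :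
    ∃ g h : GL (Fin (l + 1) ⊕ Fin (l + 1)) F, g ∈ Cfsg.spGL (l + 1) F ∧ h ∈ Cfsg.spGL (l + 1) F ∧
      Subgroup.closure ({U F l, g * U F l * g⁻¹, h * U F l * h⁻¹} : Set (GL (Fin (l + 1) ⊕ Fin (l + 1)) F)) =
        Cfsg.spGL (l + 1) F := by
  classical
  haveI := Fintype.ofFinite F
  obtain ⟨γ, hγ⟩ := IsCyclic.exists_generator (α := Fˣ)
  suffices ∃ g h : GL (Fin (l + 1) ⊕ Fin (l + 1)) F, g ∈ Cfsg.spGL (l + 1) F ∧ h ∈ Cfsg.spGL (l + 1) F ∧
      ∀ M : Subgroup (GL (Fin (l + 1) ⊕ Fin (l + 1)) F), M ≤ Cfsg.spGL (l + 1) F → U F l ∈ M →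
        g * U F l * g⁻¹ ∈ M → h * U F l * h⁻¹ ∈ M → Cfsg.spGL (l + 1) F ≤ M by
    obtain ⟨g, h, hg, hh, H⟩ := this
    refine ⟨g, h, hg, hh, ?_⟩
    have hle : Subgroup.closure ({U F l, g * U F l * g⁻¹, h * U F l * h⁻¹} : Set (GL (Fin (l + 1) ⊕ Fin (l + 1)) F)) ≤
        Cfsg.spGL (l + 1) F := by
      rw [Subgroup.closure_le]
      rintro x (rfl | rfl | rfl)
      exacts [U_mem, mul_mem (mul_mem hg U_mem) (inv_mem hg), mul_mem (mul_mem hh U_mem) (inv_mem hh)]
    exact le_antisymm hle (H _ hle (Subgroup.subset_closure (by simp)) (Subgroup.subset_closure (by simp)) (Subgroup.subset_closure (by simp)))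
  have std : ∀ (t : F) (h : GL (Fin (l + 1) ⊕ Fin (l + 1)) F), h ∈ Cfsg.spGL (l + 1) F →
      h * U F l * h⁻¹ = stp (P F (l + 1) 0) t * U F l → t ≠ 0 → Subring.closure ({t * t} : Set F) = ⊤ →
      (t ≠ 1 ∨ ∀ x : F, x = 0 ∨ x = 1) →
      ∃ g h : GL (Fin (l + 1) ⊕ Fin (l + 1)) F, g ∈ Cfsg.spGL (l + 1) F ∧ h ∈ Cfsg.spGL (l + 1) F ∧
      ∀ M : Subgroup (GL (Fin (l + 1) ⊕ Fin (l + 1)) F), M ≤ Cfsg.spGL (l + 1) F → U F l ∈ M →
        g * U F l * g⁻¹ ∈ M → h * U F l * h⁻¹ ∈ M → Cfsg.spGL (l + 1) F ≤ M := by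
    intro t h hh he ht hgen ht1
    refine ⟨J F (l + 1), h, J_mem, hh, fun M hM hU hV hT => ?_⟩
    rw [he] at hT
    have hT' : stp (P F (l + 1) 0) t ∈ M := by simpa using mul_mem hT (inv_mem hU)
    exact spGL_le_of_full hl hM hU hV (full_of_root hl hM hU hV ht hT' hgen ht1)
  by_cases hl2 : 2 ≤ l
  · obtain ⟨h, hh, he⟩ := exists_h_long hl2 (γ : F)
    refine std _ h hh he γ.ne_zero (closure_sq_gen hγ) ?_
    by_cases hg1 : (γ : F) = 1
    · right
      intro x
      rcases eq_or_ne x 0 with rfl | hx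
      · exact Or.inl rfl
      · obtain ⟨m, hm⟩ := mem_powers_iff_mem_zpowers.2 (hγ (Units.mk0 x hx))
        right
        rw [show x = (γ : F) ^ m from (congrArg Units.val hm).symm.trans (Units.val_pow_eq_pow_val γ m), hg1, one_pow]
    · exact Or.inl hg1
  obtain rfl : l = 1 := by omega
  have hgne : (γ : F) ≠ 1 := by
    intro hg1
    apply h22 ⟨rfl, ?_⟩
    rw [Nat.card_eq_two_iff]
    refine ⟨0, 1, zero_ne_one, Set.eq_univ_of_forall fun x => ?_⟩
    rcases eq_or_ne x 0 with rfl | hx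
    · exact Or.inl rfl
    · obtain ⟨m, hm⟩ := mem_powers_iff_mem_zpowers.2 (hγ (Units.mk0 x hx))
      right
      rw [show x = (γ : F) ^ m from (congrArg Units.val hm).symm.trans (Units.val_pow_eq_pow_val γ m), hg1, one_pow]
      rfl
  by_cases h2 : (2 : F) = 0
  swap
  · obtain ⟨h, hh, he⟩ := exists_h_odd (le_refl 1) ((γ : F) / 2)
    rw [mul_div_cancel₀ _ h2] at he
    exact std _ h hh he γ.ne_zero (closure_sq_gen hγ) (Or.inl hgne)
  haveI : CharP F 2 := CharTwo.of_one_ne_zero_of_two_eq_zero one_ne_zero h2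
  by_cases h4 : (γ : F) * γ + γ + 1 = 0
  · -- four elements
    have hall : ∀ x : F, x = 0 ∨ x = 1 ∨ x = (γ : F) ∨ x = (γ : F) + 1 := by
      intro x
      rcases eq_or_ne x 0 with rfl | hx
      · exact Or.inl rfl
      obtain ⟨m, hm⟩ := mem_powers_iff_mem_zpowers.2 (hγ (Units.mk0 x hx))
      right
      rw [show x = (γ : F) ^ m from (congrArg Units.val hm).symm.trans (Units.val_pow_eq_pow_val γ m)]
      clear hm
      induction m with
      | zero => left; exact pow_zero _
      | succ m ih =>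
        rw [pow_succ]
        rcases ih with e | e | e <;> rw [e]
        · right; left; exact one_mul _
        · right; right; linear_combination h4 + (-1 - (γ : F)) * h2
        · left; linear_combination h4 - h2
    obtain ⟨h, hh, he⟩ := exists_h_two (γ : F)
    refine ⟨g4 γ, h, g4_mem γ, hh, fun M hM hU hV hT => ?_⟩
    rw [he, show (γ : F) * γ - γ = 1 by linear_combination h4 - ((γ : F) + 1) * h2] at hT
    have hT' : stp (P F (1 + 1) 0) (1 : F) ∈ M := by simpa using mul_mem hT (inv_mem hU)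
    rw [g4_conj, show (γ : F) * γ = γ + 1 by linear_combination h4 - ((γ : F) + 1) * h2] at hV
    exact top_four h2 h4 hall hM hU hV hT'
  · obtain ⟨x, hx⟩ := exists_trace_zero_gen h2 hγ h4
    obtain ⟨h, hh, he⟩ := exists_h_two x
    rw [show x * x - x = x * x + x by linear_combination (-x) * h2] at he
    have hne1 : x * x + x ≠ 1 ∧ x * x + x ≠ 0 := by
      constructor <;> intro e <;>
      · rw [e] at hx
        have hbot : ∀ y : F, y = 0 ∨ y = 1 := by
          intro y
          have hy : y ∈ Subring.closure ({(1 : F)} : Set F) := by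
            first
              | exact hx ▸ Subring.mem_top y
              | exact (Subring.closure_le.2 (by rintro z rfl; exact zero_mem _) : Subring.closure ({(0 : F)} : Set F) ≤ Subring.closure ({(1 : F)} : Set F)) (hx ▸ Subring.mem_top y)
          induction hy using Subring.closure_induction with
          | mem z hz => exact Or.inr hz
          | zero => exact Or.inl rfl
          | one => exact Or.inr rfl
          | add a b _ _ ha hb => rcases ha with rfl | rfl <;> rcases hb with rfl | rfl <;> simp [CharTwo.add_self_eq_zero]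
          | neg a _ ha => rcases ha with rfl | rfl <;> simp [CharTwo.neg_eq]
          | mul a b _ _ ha hb => rcases ha with rfl | rfl <;> rcases hb with rfl | rfl <;> simp
        rcases hbot (γ : F) with h | h
        · exact γ.ne_zero h
        · exact hgne h
    exact std _ h hh he hne1.2 (closure_sq_of_char_two h2 hx) (Or.inl hne1.1)

end Cfsg.Agent.RegUnip.Sp
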