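/-
`U` and an involution `g` with `⟨U, g⟩ = SL_n` give two conjugate generators; the case of characteristic two.
Main results (namespace `Cfsg.Agent.RegUnip.Pair`): `TwoConj`, `twoConj_of_involution`, `twoConj_char_two`.
-/
import Cfsg.Agent.Lib.RegUnip.SLPairBase
import Cfsg.Agent.Lib.RegUnip.SpMain

set_option autoImplicit false
set_option linter.unusedSectionVars false

namespace Cfsg.Agent.RegUnip.Pair

open Matrix Cfsg.Agent.Transvect
open scoped MatrixGroups

attribute [-simp] app_apply

variable {F : Type*} [Field F] {n : ℕ} [NeZero n]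

variable (F n) in
/-- Two conjugate regular unipotent generators. -/
def TwoConj : Prop :=
  ∃ u g : Matrix.SpecialLinearGroup (Fin n) F, (IsNilpotent ((u : Matrix (Fin n) (Fin n) F) - 1) ∧
    ((u : Matrix (Fin n) (Fin n) F) - 1) ^ (n - 1) ≠ 0) ∧
    Subgroup.closure ({u, g * u * g⁻¹} : Set (Matrix.SpecialLinearGroup (Fin n) F)) = ⊤

/-- The conjugate by an involution generates with `U` a normal subgroup of `⟨U, g⟩`. -/
theorem twoConj_of_involution [Finite F] (hn : 3 ≤ n) (g : Matrix.SpecialLinearGroup (Fin n) F) (hg : g * g = 1)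
    (h : Cfsg.Geo.specialLinear (Fin n) F ≤
      (Subgroup.closure ({upU F n, g} : Set (Matrix.SpecialLinearGroup (Fin n) F))).map SpecialLinearGroup.toGL) :
    TwoConj F n := by
  have hN : ((upU F n : Matrix.SpecialLinearGroup (Fin n) F) : Matrix (Fin n) (Fin n) F) - 1 = upN F n :=
    add_sub_cancel_left _ _
  refine ⟨upU F n, g, ⟨?_, ?_⟩, ?_⟩
  · rw [hN]; exact ⟨n, upN_pow_self⟩
  · rw [hN]; exact upN_pow_ne_zero (by omega)
  set S : Set (Matrix.SpecialLinearGroup (Fin n) F) := {upU F n, g * upU F n * g⁻¹}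
  set M := Subgroup.closure S
  have hgen : Subgroup.closure ({upU F n, g} : Set (Matrix.SpecialLinearGroup (Fin n) F)) = ⊤ := by
    rw [eq_top_iff]
    intro x _
    obtain ⟨y, hy, hyx⟩ := h (show SpecialLinearGroup.toGL x ∈ Cfsg.Geo.specialLinear (Fin n) F from mem_sl_iff.2 x.2)
    rwa [← SpecialLinearGroup.toGL_injective hyx]
  have hgi : g⁻¹ = g := inv_eq_of_mul_eq_one_right hg
  have hconj : ∀ x ∈ M, g * x * g⁻¹ ∈ M := by
    intro x hx
    induction hx using Subgroup.closure_induction with
    | mem y hy =>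
      rcases hy with rfl | hy
      · exact Subgroup.subset_closure (Or.inr rfl)
      · rw [Set.mem_singleton_iff] at hy
        subst hy
        rw [show g * (g * upU F n * g⁻¹) * g⁻¹ = g * g * upU F n * (g * g)⁻¹ by group, hg, one_mul, inv_one, mul_one]
        exact Subgroup.subset_closure (Or.inl rfl)
    | one => simp [one_mem]
    | mul a b _ _ ha hb => simpa [mul_assoc] using mul_mem ha hb
    | inv a _ ha => simpa [mul_assoc] using inv_mem ha
  have hnorm : Subgroup.closure ({upU F n, g} : Set (Matrix.SpecialLinearGroup (Fin n) F)) ≤ Subgroup.normalizer (M : Set _) := by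
    rw [Subgroup.closure_le]
    rintro y (rfl | hy)
    · exact Subgroup.le_normalizer (Subgroup.subset_closure (Or.inl rfl))
    · rw [Set.mem_singleton_iff] at hy
      rw [hy, SetLike.mem_coe, Subgroup.mem_normalizer_iff]
      intro x
      refine ⟨hconj x, fun hx => ?_⟩
      have := hconj _ hx
      rwa [show g * (g * x * g⁻¹) * g⁻¹ = g * g * x * (g * g)⁻¹ by group, hg, one_mul, inv_one, mul_one] at this
  haveI : M.Normal := by
    refine Subgroup.normalizer_eq_top_iff.1 (top_le_iff.1 ?_)
    rwa [hgen] at hnorm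
  exact top_of_normal hn M (Subgroup.subset_closure (Or.inl rfl))

/-- Multipliers of the coefficients at `e`. -/
def mult (N : Subgroup (GL (Fin n) F)) (hn : 2 ≤ n) : Subring F where
  carrier := {y | ∀ x, Coef N 0 x → Coef N 0 (y * x)}
  one_mem' := fun x hx => by rwa [one_mul]
  mul_mem' := fun {y z} hy hz x hx => by rw [mul_assoc]; exact hy _ (hz x hx)
  zero_mem' := fun x _ => by rw [zero_mul]; exact coef_zero_mem 0
  add_mem' := fun {y z} hy hz x hx => by rw [add_mul]; exact coef_add hn (hy x hx) (hz x hx)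
  neg_mem' := fun {y} hy x hx => by rw [neg_mul]; exact coef_neg hn (hy x hx)

theorem coef_all {N : Subgroup (GL (Fin n) F)} {hn : 2 ≤ n} (h : mult N hn = ⊤) {c : F} (hc : c ≠ 0)
    (hc' : Coef N 0 c) (d : F) : Coef N 0 d := by
  have := (h ▸ Subring.mem_top (d / c) : d / c ∈ mult N hn) c hc'
  rwa [div_mul_cancel₀ _ hc] at this

/-- Powers of the characteristic do not change the generated ring. -/
theorem closure_pow_char [Finite F] (p : ℕ) [Fact p.Prime] [CharP F p] (v : ℕ) {x : F}
    (h : Subring.closure ({x} : Set F) = ⊤) : Subring.closure ({x ^ p ^ v} : Set F) = ⊤ := by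
  let φ : F →+* F := iterateFrobenius F p v
  have hφ : ∀ y, φ y = y ^ p ^ v := fun y => iterateFrobenius_def _ _ _
  have h1 := RingHom.map_closure φ ({x} : Set F)
  rw [h, Set.image_singleton, hφ] at h1
  rw [← h1, eq_top_iff]
  intro y _
  obtain ⟨z, rfl⟩ := Finite.surjective_of_injective (RingHom.injective φ) y
  exact ⟨z, trivial, rfl⟩

/-- Characteristic two: the involution is a transvection. -/
theorem twoConj_char_two [Finite F] [CharP F 2] (hn : 4 ≤ n) : TwoConj F n := by
  classical
  haveI : Fact (Nat.Prime 2) := ⟨Nat.prime_two⟩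
  obtain ⟨γ, hγ⟩ := IsCyclic.exists_generator (α := Fˣ)
  set t : F := (γ : F) with ht
  have ht0 : t ≠ 0 := γ.ne_zero
  set T : GL (Fin n) F := tv (lastV F n) (t • p0 F n) with hT
  have hφ : (t • p0 F n) (lastV F n) = 0 := by simp [p0_lastV (F := F) (show 2 ≤ n by omega)]
  let g : Matrix.SpecialLinearGroup (Fin n) F := ⟨(T : Matrix (Fin n) (Fin n) F), mem_sl_iff.1 (tv_mem_sl _ _)⟩
  have hgT : SpecialLinearGroup.toGL g = T := Units.ext rfl
  have hTT : T * T = 1 := by
    rw [hT, ← tv_add hφ hφ, ← add_smul, CharTwo.add_self_eq_zero, zero_smul, tv_zero]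
  have hgg : g * g = 1 := SpecialLinearGroup.toGL_injective (by rw [map_mul, map_one, hgT, hTT])
  refine twoConj_of_involution (by omega) g hgg ?_
  set N := (Subgroup.closure ({upU F n, g} : Set (Matrix.SpecialLinearGroup (Fin n) F))).map SpecialLinearGroup.toGL
  have hU : upG F n ∈ N := ⟨_, Subgroup.subset_closure (Or.inl rfl), rfl⟩
  have hC : Coef N 0 t := ⟨g, Subgroup.subset_closure (Or.inr rfl), by rw [hgT, av_zero]⟩
  have hs : sf F n 1 = 1 := by rw [sf_one, CharTwo.neg_eq, one_pow]
  have up : ∀ (k m : ℕ) (x : F), k + m + 2 ≤ n → Coef N m x → Coef N (m + k) (t ^ k * x) := by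
    intro k
    induction k with
    | zero => intro m x _ h; simpa using h
    | succ k ih =>
      intro m x hk h
      have := coef_comm hU (k := 0) (l := m + k) (r := 1) (by omega) hC (ih m x (by omega) h)
      rw [hs, mul_one] at this
      rw [show t ^ (k + 1) * x = t ^ k * x * t by ring]
      exact this
  have back : ∀ (m : ℕ) (x : F), m + 2 ≤ n → Coef N m x → Coef N 0 (t ^ (n - m) * x) := by
    intro m x hm h
    have h1 := up (n - 2 - m) m x (by omega) h
    rw [show m + (n - 2 - m) = n - 2 by omega] at h1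
    have h2 := up 1 0 t (by omega) hC
    rw [zero_add] at h2
    have := coef_zero_step hU (by omega) h1 h2
    rwa [show t ^ (n - m) * x = t ^ 1 * t * (t ^ (n - 2 - m) * x) by
      rw [show n - m = (n - 2 - m) + 1 + 1 by omega]; ring]
  refine sl_le_of_coef hU (by omega) (coef_all (hn := by omega) ?_ ht0 hC)
  set K := mult N (by omega : 2 ≤ n)
  obtain ⟨v, m, hm, hnv⟩ := Nat.exists_eq_pow_mul_and_not_dvd (NeZero.ne n) 2 (by norm_num)
  have k1 : t ^ n ∈ K := fun x hx => back 0 x (by omega) hx
  have key : t ^ (2 ^ v) ∈ K := by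
    rcases Nat.lt_or_ge m 2 with hm1 | hm1
    · have : m = 1 := by omega
      rwa [hnv, this, mul_one] at k1
    · have hm3 : 3 ≤ m := by omega
      have hL : 2 ^ v + 3 ≤ n := by
        have : 2 ^ v * 3 ≤ n := hnv ▸ Nat.mul_le_mul_left _ hm3
        omega
      have k2 : t ^ (n - 2 ^ v) ∈ K := fun x hx => by
        have h1 := coef_comm hU (k := 0) (l := 0) (r := 2 ^ v + 1) (by omega) hx hC
        have hmF : (m : F) = 1 := by
          rw [show m = 2 * (m / 2) + 1 by omega]
          push_cast
          rw [show (2 : F) = 0 from CharTwo.two_eq_zero]; ring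
        rw [sf_prime_pow 2 hnv, CharTwo.neg_eq, one_pow, hmF, mul_one, mul_one, show 0 + 0 + (2 ^ v + 1) = 2 ^ v + 1 by omega] at h1
        have := back (2 ^ v + 1) _ (by omega) h1
        rwa [show t ^ (n - 2 ^ v) * x = t ^ (n - (2 ^ v + 1)) * (t * x) by
          rw [show n - 2 ^ v = n - (2 ^ v + 1) + 1 by omega]; ring]
      haveI : Finite K := inferInstance
      have hne : t ^ (n - 2 ^ v) ≠ 0 := pow_ne_zero _ ht0
      have : t ^ (2 ^ v) = t ^ n * (t ^ (n - 2 ^ v))⁻¹ := by
        rw [eq_mul_inv_iff_mul_eq₀ hne, ← pow_add, Nat.add_sub_cancel' (by omega)]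
      rw [this]
      exact K.mul_mem k1 (Sp.inv_mem_subring _ k2)
  rw [eq_top_iff, ← closure_pow_char 2 v (Sp.closure_gen_eq_top hγ), Subring.closure_le]
  rintro x rfl
  exact key

end Cfsg.Agent.RegUnip.Pair
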