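/-
The involution with a two-dimensional (-1)-space which generates SL_n with the Jordan block (odd characteristic).
Main result (namespace `Cfsg.Agent.RegUnip.Pair`): `twoConj_of_param`.
-/
import Cfsg.Agent.Lib.RegUnip.SLPairTwo

set_option autoImplicit false
set_option linter.unusedSectionVars false

namespace Cfsg.Agent.RegUnip.Pair

open Matrix Cfsg.Agent.Transvect
open scoped MatrixGroups

attribute [-simp] app_apply

variable {F : Type*} [Field F] {n : ℕ} [NeZero n]

variable (n) in
/-- The coefficient of the shift by two. -/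
def shiftE (τ : F) : F := τ * (n : F) + ((n : F) ^ 2 - (Nat.choose (n + 1) 2 : F))

theorem psi_succ (j : ℕ) (x : Fin n → F) : psi F n j (app (upG F n)⁻¹ x) = psi F n (j + 1) x := by
  rw [psi, psi, LinearMap.comp_apply, LinearMap.comp_apply, LinearEquiv.coe_coe, LinearEquiv.coe_coe,
    ← LinearEquiv.mul_apply, ← map_mul, ← pow_succ]

theorem app_av (j k : ℕ) : app (upG F n ^ j) (av F n k) = av F n (j + k) := by
  rw [av, av, ← LinearEquiv.mul_apply, ← map_mul, pow_add]

/-- The functional `α₁`. -/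
noncomputable def al1 (τ : F) : (Fin n → F) →ₗ[F] F := sf F n 1 • (psi F n 1 + τ • p0 F n)

/-- The functional `α₂`. -/
noncomputable def al2 (τ : F) : (Fin n → F) →ₗ[F] F :=
  sf F n 1 • (psi F n 2 + τ • psi F n 1) - ((n : F) + τ) • al1 τ + (sf F n 1 * (shiftE n τ + τ ^ 2)) • p0 F n

variable (τ : F)

theorem al1_av {i : ℕ} (h1 : 1 ≤ i) (h : i + 2 ≤ n) : al1 τ (av F n i) = 0 := by
  obtain ⟨k, rfl⟩ : ∃ k, i = 1 + k := ⟨i - 1, by omega⟩
  simp [al1, psi_av_add, p0_av (F := F) (show k + 2 ≤ n by omega), p0_av (F := F) h]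

theorem al1_zero (hn : 4 ≤ n) : al1 τ (av F n 0) = 1 := by
  simp only [al1, LinearMap.smul_apply, LinearMap.add_apply, psi_av _ _ (Nat.zero_le 1), Nat.sub_zero, smul_eq_mul,
    p0_av (F := F) (show 0 + 2 ≤ n by omega), mul_zero, add_zero]
  exact sf_one_sq

theorem al2_zero (hn : 4 ≤ n) : al2 τ (av F n 0) = 0 := by
  simp only [al2, LinearMap.sub_apply, LinearMap.smul_apply, LinearMap.add_apply, psi_av _ _ (Nat.zero_le 1),
    psi_av _ _ (Nat.zero_le 2), Nat.sub_zero, smul_eq_mul, al1_zero τ hn, p0_av (F := F) (show 0 + 2 ≤ n by omega),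
    mul_zero, add_zero, sf_two]
  rw [← sf_one (F := F) (n := n)]
  linear_combination ((n : F) + τ) * sf_one_sq (F := F) (n := n)

theorem al2_one (hn : 4 ≤ n) : al2 τ (av F n 1) = 1 := by
  have e : psi F n 1 (av F n 1) = 0 := by
    have := psi_av_add (F := F) (n := n) 1 0
    rw [add_zero] at this
    rw [this, p0_av (by omega)]
  simp only [al2, LinearMap.sub_apply, LinearMap.smul_apply, LinearMap.add_apply, psi_av _ _ (show 1 ≤ 2 by omega),
    e, smul_eq_mul, al1_av τ le_rfl (show 1 + 2 ≤ n by omega), p0_av (F := F) (show 1 + 2 ≤ n by omega),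
    mul_zero, add_zero, sub_zero]
  exact sf_one_sq

theorem al2_av {i : ℕ} (h1 : 2 ≤ i) (h : i + 2 ≤ n) : al2 τ (av F n i) = 0 := by
  obtain ⟨k, rfl⟩ : ∃ k, i = 2 + k := ⟨i - 2, by omega⟩
  have e : psi F n 1 (av F n (2 + k)) = 0 := by
    rw [show 2 + k = 1 + (1 + k) by omega, psi_av_add, p0_av (by omega)]
  simp [al2, psi_av_add, e, al1_av τ (show 1 ≤ 2 + k by omega) h, p0_av (F := F) (show k + 2 ≤ n by omega),
    p0_av (F := F) h]

/-- The matrix of the involution. -/
noncomputable def invoMat : Matrix (Fin n) (Fin n) F :=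
  1 + Matrix.of (fun i (j : Fin 2) => ![-2 * av F n 0 i, -2 * av F n 1 i] j) *
    Matrix.of (fun (j : Fin 2) k => ![al1 τ (ee k), al2 τ (ee k)] j)

theorem invoMat_mulVec (x : Fin n → F) :
    invoMat τ *ᵥ x = x - (2 * al1 τ x) • av F n 0 - (2 * al2 τ x) • av F n 1 := by
  have key : ∀ χ : (Fin n → F) →ₗ[F] F, ∑ k, χ (ee k) * x k = χ x := fun χ => by
    conv_rhs => rw [pi_eq_sum_univ' x]
    rw [map_sum]
    refine Finset.sum_congr rfl fun k _ => ?_
    rw [map_smul, smul_eq_mul, mul_comm]
  rw [invoMat, Matrix.add_mulVec, Matrix.one_mulVec, ← Matrix.mulVec_mulVec]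
  funext i
  simp only [Pi.add_apply, Pi.sub_apply, Pi.smul_apply, smul_eq_mul, Matrix.mulVec, dotProduct, Matrix.of_apply,
    Fin.sum_univ_two, Matrix.cons_val_zero, Matrix.cons_val_one, key]
  ring

theorem invoMat_det (hn : 4 ≤ n) : (invoMat (n := n) τ).det = 1 := by
  rw [invoMat, Matrix.det_one_add_mul_comm]
  have key : ∀ (χ : (Fin n → F) →ₗ[F] F) (c : F) (v : Fin n → F), ∑ k, χ (ee k) * (c * v k) = c * χ v := fun χ c v => by
    conv_rhs => rw [pi_eq_sum_univ' v, map_sum, Finset.mul_sum]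
    refine Finset.sum_congr rfl fun k _ => ?_
    rw [map_smul, smul_eq_mul]
    rw [show (χ (Pi.single k 1)) = χ (ee k) from rfl]
    ring
  rw [Matrix.det_fin_two]
  simp only [Matrix.add_apply, Matrix.mul_apply, Matrix.of_apply, Matrix.one_apply, Matrix.cons_val_zero,
    Matrix.cons_val_one, key]
  rw [al1_zero τ hn, al1_av τ le_rfl (by omega), al2_zero τ hn, al2_one τ hn]
  simp
  ring

/-- Odd characteristic: a parameter gives two conjugate generators. -/
theorem twoConj_of_param [Fintype F] (hn : 4 ≤ n) (p : ℕ) [Fact p.Prime] [CharP F p] (hp : p ≠ 2) (hτ : τ ≠ 0)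
    (hκ : shiftE n τ + τ ^ 2 ≠ 0)
    (hgen : (¬ p ∣ n ∧ Subring.closure ({shiftE n τ / τ ^ 2} : Set F) = ⊤) ∨
      (p ∣ n ∧ Subring.closure ({τ} : Set F) = ⊤)) : TwoConj F n := by
  classical
  have hpp : p.Prime := Fact.out
  have h2F : (2 : F) ≠ 0 := fun h => hp ((Nat.prime_dvd_prime_iff_eq hpp Nat.prime_two).1
    ((CharP.cast_eq_zero_iff F p 2).1 (by exact_mod_cast h)))
  set s := sf F n 1 with hs
  have hss : s * s = 1 := sf_one_sq
  have hs2 : sf F n 2 = s * (n : F) := by rw [hs, sf_two, sf_one]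
  have hs3 : sf F n 3 = s * (Nat.choose (n + 1) 2 : F) := by rw [hs, sf_three, sf_one]
  let g : Matrix.SpecialLinearGroup (Fin n) F := ⟨invoMat τ, invoMat_det τ hn⟩
  set G := SpecialLinearGroup.toGL g with hGdef
  have hG : ∀ x, app G x = x - (2 * al1 τ x) • av F n 0 - (2 * al2 τ x) • av F n 1 := fun x => invoMat_mulVec τ x
  have a10 := al1_zero τ hn
  have a20 := al2_zero τ hn
  have a11 : al1 τ (av F n 1) = 0 := al1_av τ le_rfl (by omega)
  have a21 := al2_one τ hn
  have hGG : G * G = 1 := gl_ext fun x => by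
    rw [map_mul, LinearEquiv.mul_apply, hG, hG, map_one]
    simp only [map_sub, map_smul, a10, a20, a11, a21, smul_eq_mul]
    change _ = x
    module
  have hgg : g * g = 1 := SpecialLinearGroup.toGL_injective (by rw [map_mul, map_one, ← hGdef, hGG])
  have hGi : G⁻¹ = G := inv_eq_of_mul_eq_one_right hGG
  refine twoConj_of_involution (by omega) g hgg ?_
  set N := (Subgroup.closure ({upU F n, g} : Set (Matrix.SpecialLinearGroup (Fin n) F))).map SpecialLinearGroup.toGL
  have hU : upG F n ∈ N := ⟨_, Subgroup.subset_closure (Or.inl rfl), rfl⟩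
  have hgN : G ∈ N := ⟨g, Subgroup.subset_closure (Or.inr rfl), rfl⟩
  -- the transvection
  set κ := s * (shiftE n τ + τ ^ 2) with hκdef
  have hκ0 : κ ≠ 0 := mul_ne_zero sf_one_ne hκ
  set G' := upG F n * G * (upG F n)⁻¹ with hG'def
  let b1 : (Fin n → F) →ₗ[F] F := (al1 τ).comp (app (upG F n)⁻¹).toLinearMap
  let b2 : (Fin n → F) →ₗ[F] F := (al2 τ).comp (app (upG F n)⁻¹).toLinearMap
  have hG' : ∀ x, app G' x = x - (2 * b1 x) • av F n 1 - (2 * b2 x) • av F n 2 := fun x => by
    simp only [G', map_mul, LinearEquiv.mul_apply, hG, map_sub, map_smul, app_app_inv, ← av_succ, b1, b2,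
      LinearMap.comp_apply, LinearEquiv.coe_coe]
  have hb1 : ∀ x, b1 x = s * (psi F n 2 x + τ * psi F n 1 x) := fun x => by
    simp only [b1, al1, LinearMap.comp_apply, LinearEquiv.coe_coe, LinearMap.smul_apply, LinearMap.add_apply,
      psi_succ, ← psi_zero, smul_eq_mul, zero_add, ← hs]
  have hb2 : ∀ x, b2 x = s * (psi F n 3 x + τ * psi F n 2 x) - ((n : F) + τ) * b1 x + κ * psi F n 1 x := fun x => by
    simp only [b2, al2, LinearMap.comp_apply, LinearEquiv.coe_coe, LinearMap.smul_apply, LinearMap.add_apply,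
      LinearMap.sub_apply, psi_succ, ← psi_zero, smul_eq_mul, zero_add, ← hs, ← hκdef]
    rfl
  have hα2 : ∀ x, al2 τ x = b1 x - ((n : F) + τ) * al1 τ x + κ * p0 F n x := fun x => by
    rw [hb1]
    simp only [al2, LinearMap.smul_apply, LinearMap.add_apply, LinearMap.sub_apply, smul_eq_mul, ← hs, ← hκdef]
  have binv : ∀ i, app (upG F n)⁻¹ (av F n (i + 1)) = av F n i := fun i => by rw [av_succ, app_inv_app]
  have c10 : b1 (av F n 0) = (n : F) + τ := by
    rw [hb1, psi_av _ _ (Nat.zero_le _), psi_av _ _ (Nat.zero_le _), Nat.sub_zero, Nat.sub_zero, hs2, ← hs]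
    linear_combination ((n : F) + τ) * hss
  have c20 : b2 (av F n 0) = 0 := by
    rw [hb2, c10, psi_av _ _ (Nat.zero_le _), psi_av _ _ (Nat.zero_le _), psi_av _ _ (Nat.zero_le _), Nat.sub_zero,
      Nat.sub_zero, Nat.sub_zero, hs2, hs3, ← hs, hκdef, shiftE]
    linear_combination ((Nat.choose (n + 1) 2 : F) + τ * (n : F) + (τ * (n : F) + ((n : F) ^ 2 - (Nat.choose (n + 1) 2 : F)) + τ ^ 2)) * hss
  have c11 : b1 (av F n 1) = 1 := by simp only [b1, LinearMap.comp_apply, LinearEquiv.coe_coe, binv, a10]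
  have c21 : b2 (av F n 1) = 0 := by simp only [b2, LinearMap.comp_apply, LinearEquiv.coe_coe, binv, a20]
  have c12 : b1 (av F n 2) = 0 := by simp only [b1, LinearMap.comp_apply, LinearEquiv.coe_coe, binv, a11]
  have c22 : b2 (av F n 2) = 1 := by simp only [b2, LinearMap.comp_apply, LinearEquiv.coe_coe, binv, a21]
  have a12 : al1 τ (av F n 2) = 0 := al1_av τ (by omega) (by omega)
  have a22 : al2 τ (av F n 2) = 0 := al2_av τ le_rfl (by omega)
  have hT : Coef N 1 (4 * κ) := by
    have hG'N : G' ∈ N := mul_mem (mul_mem hU hgN) (inv_mem hU)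
    have : G' * (G * G' * G) = tv (av F n 1) ((4 * κ) • p0 F n) := by
      refine gl_ext fun x => ?_
      simp only [map_mul, LinearEquiv.mul_apply]
      rw [tv_apply (by simp [p0_av (F := F) (show 1 + 2 ≤ n by omega)]), hG x, hG', hG, hG']
      simp only [map_sub, map_smul, smul_eq_mul, a10, a20, a11, a21, a12, a22, c10, c20, c11, c21, c12, c22,
        LinearMap.smul_apply, hα2]
      simp only [p0_av (F := F) (show 0 + 2 ≤ n by omega), p0_av (F := F) (show 1 + 2 ≤ n by omega),
        p0_av (F := F) (show 2 + 2 ≤ n by omega)]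
      match_scalars <;> ring
    rw [Coef, ← this]
    exact mul_mem hG'N (mul_mem (mul_mem hgN hG'N) hgN)
  -- the shifts
  have gconj : ∀ (v : Fin n → F) (χ : (Fin n → F) →ₗ[F] F), χ v = 0 → tv v χ ∈ N →
      tv (app G v) (χ.comp (app G).toLinearMap) ∈ N := fun v χ h hm => by
    have h1 := mul_mem (mul_mem hgN hm) (inv_mem hgN)
    rw [tv_conj h, hGi] at h1
    exact h1
  have Gfix : ∀ i, 2 ≤ i → i + 2 ≤ n → app G (av F n i) = av F n i := fun i h1 h2 => by
    rw [hG, al1_av τ (by omega) h2, al2_av τ h1 h2, mul_zero, zero_smul, zero_smul, sub_zero, sub_zero]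
  have p1g : ∀ x, psi F n 1 (app G x) = -psi F n 1 x - 2 * τ * p0 F n x := fun x => by
    have e : psi F n 1 (av F n 1) = 0 := by
      have := psi_av_add (F := F) (n := n) 1 0
      rw [add_zero] at this
      rw [this, p0_av (by omega)]
    simp only [hG, map_sub, map_smul, smul_eq_mul, psi_av _ _ (Nat.zero_le 1), Nat.sub_zero, e, al1,
      LinearMap.smul_apply, LinearMap.add_apply, ← hs]
    linear_combination (-2 * (psi F n 1 x + τ * p0 F n x)) * hss
  have shift1 : ∀ (m : ℕ) (d : F), m + 3 ≤ n → Coef N m d → Coef N (m + 1) (2 * τ * d) := by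
    intro m d hm hd
    have h1 := coef_transport hU (by omega) hd 1
    have hv : (d • psi F n 1) (av F n (1 + m)) = 0 := by simp [psi_av_add, p0_av (F := F) (show m + 2 ≤ n by omega)]
    have h2 := gconj _ _ hv h1
    have hv2 : ((d • psi F n 1).comp (app G).toLinearMap) (av F n (1 + m)) = 0 := by
      simp only [LinearMap.comp_apply, LinearEquiv.coe_coe, LinearMap.smul_apply, p1g, psi_av_add,
        p0_av (F := F) (show m + 2 ≤ n by omega), p0_av (F := F) (show 1 + m + 2 ≤ n by omega), smul_eq_mul]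
      ring
    have hp1 : ((2 * τ * d) • p0 F n) (av F n (1 + m)) = 0 := by simp [p0_av (F := F) (show 1 + m + 2 ≤ n by omega)]
    rcases Nat.eq_zero_or_pos m with rfl | hm0
    · have e : app G (av F n 1) = (-1 : F) • av F n 1 := by
        rw [hG, a11, a21]; module
      rw [e, tv_smul hv2] at h2
      have h3 := mul_mem h2 (inv_mem h1)
      rw [tv_inv hv, ← tv_add (by simpa using hv2) (by simpa using hv)] at h3
      rw [Coef, show (2 * τ * d) • p0 F n =
        (-1 : F) • (d • psi F n 1).comp (app G).toLinearMap + -(d • psi F n 1) from LinearMap.ext fun x => by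
          simp [p1g]; ring]
      exact h3
    · rw [Gfix _ (by omega) (by omega)] at h2
      have h3 := inv_mem (mul_mem h1 h2)
      rw [← tv_add hv hv2, tv_inv (by rw [LinearMap.add_apply, hv, hv2, add_zero])] at h3
      rw [Coef, add_comm m 1, show (2 * τ * d) • p0 F n =
        -(d • psi F n 1 + (d • psi F n 1).comp (app G).toLinearMap) from LinearMap.ext fun x => by simp [p1g]; ring]
      exact h3
  have p2g : ∀ x, psi F n 2 (app G x) = -psi F n 2 x - 2 * shiftE n τ * p0 F n x := fun x => by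
    have e : psi F n 2 (av F n 1) = s := by rw [psi_av _ _ (by omega)]
    simp only [hG, map_sub, map_smul, smul_eq_mul, psi_av _ _ (Nat.zero_le 2), Nat.sub_zero, e, hs2, hα2, hb1, al1,
      LinearMap.smul_apply, LinearMap.add_apply, ← hs, hκdef, shiftE]
    linear_combination (-2 * (psi F n 2 x + τ * psi F n 1 x) - 2 * (n : F) * (psi F n 1 x + τ * p0 F n x) +
      2 * s * ((n : F) + τ) * 0 + 2 * ((n : F) + τ) * (psi F n 1 x + τ * p0 F n x) -
      2 * (τ * (n : F) + ((n : F) ^ 2 - (Nat.choose (n + 1) 2 : F)) + τ ^ 2) * p0 F n x) * hss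
  have shift2 : ∀ d : F, Coef N 0 d → Coef N 2 (-(2 * shiftE n τ * d)) := by
    intro d hd
    have h1 := coef_transport hU (by omega) hd 2
    have hv : (d • psi F n 2) (av F n (2 + 0)) = 0 := by
      rw [LinearMap.smul_apply, psi_av_add, p0_av (F := F) (show 0 + 2 ≤ n by omega), smul_zero]
    have h2 := gconj _ _ hv h1
    have hv2 : ((d • psi F n 2).comp (app G).toLinearMap) (av F n (2 + 0)) = 0 := by
      simp only [LinearMap.comp_apply, LinearEquiv.coe_coe, LinearMap.smul_apply, p2g, psi_av_add,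
        p0_av (F := F) (show 0 + 2 ≤ n by omega), p0_av (F := F) (show 2 + 0 + 2 ≤ n by omega), smul_eq_mul]
      ring
    rw [Gfix _ (by omega) (by omega)] at h2
    have h3 := mul_mem h1 h2
    rw [← tv_add hv hv2] at h3
    rw [Coef, show (-(2 * shiftE n τ * d)) • p0 F n =
      d • psi F n 2 + (d • psi F n 2).comp (app G).toLinearMap from LinearMap.ext fun x => by simp [p2g]; ring]
    exact h3
  -- the multipliers
  set t := 2 * τ with ht
  have ht0 : t ≠ 0 := mul_ne_zero h2F hτ
  set κ4 := 4 * κ with hκ4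
  have hκ40 : κ4 ≠ 0 := mul_ne_zero (by rw [show (4 : F) = 2 * 2 by norm_num]; exact mul_ne_zero h2F h2F) hκ0
  have up : ∀ (k m : ℕ) (x : F), k + m + 2 ≤ n → Coef N m x → Coef N (m + k) (t ^ k * x) := by
    intro k
    induction k with
    | zero => intro m x _ h; simpa using h
    | succ k ih =>
      intro m x hk h
      have := shift1 (m + k) _ (by omega) (ih m x (by omega) h)
      rw [show t ^ (k + 1) * x = t * (t ^ k * x) by ring]
      exact this
  have back : ∀ (m : ℕ) (x : F), m + 2 ≤ n → Coef N m x → Coef N 0 (κ4 * t ^ (n - 2 - m) * x) := by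
    intro m x hm h
    have h1 := up (n - 2 - m) m x (by omega) h
    rw [show m + (n - 2 - m) = n - 2 by omega] at h1
    rw [mul_assoc]
    exact coef_zero_step hU (by omega) h1 hT
  set c0 := κ4 * t ^ (n - 2 - 1) * κ4
  have hc0 : Coef N 0 c0 := back 1 _ (by omega) hT
  have hc00 : c0 ≠ 0 := mul_ne_zero (mul_ne_zero hκ40 (pow_ne_zero _ ht0)) hκ40
  refine sl_le_of_coef hU (by omega) (coef_all (hn := by omega) ?_ hc00 hc0)
  set K := mult N (by omega : 2 ≤ n)
  haveI : Finite K := inferInstance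
  have kdiv : ∀ {x y : F}, x ∈ K → y ∈ K → x / y ∈ K := fun hx hy => by
    rw [div_eq_mul_inv]; exact K.mul_mem hx (Sp.inv_mem_subring _ hy)
  have k2inv : (2 : F)⁻¹ ∈ K := Sp.inv_mem_subring _ (by exact_mod_cast natCast_mem K 2)
  have k0 : κ4 * t ^ (n - 2) ∈ K := fun x hx => by
    have := back 0 x (by omega) hx
    rwa [Nat.sub_zero] at this
  rcases hgen with ⟨-, hg⟩ | ⟨hdvd, hg⟩
  · have kE : κ4 * t ^ (n - 4) * (-(2 * shiftE n τ)) ∈ K := fun x hx => by
      have := back 2 _ (by omega) (shift2 x hx)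
      rwa [show n - 2 - 2 = n - 4 by omega, show κ4 * t ^ (n - 4) * -(2 * shiftE n τ * x) =
        κ4 * t ^ (n - 4) * -(2 * shiftE n τ) * x by ring] at this
    have h : shiftE n τ / τ ^ 2 ∈ K := by
      have := K.mul_mem (K.neg_mem (natCast_mem K 2)) (kdiv kE k0)
      convert this using 1
      rw [show n - 2 = n - 4 + 2 by omega, pow_add, ht]
      have := pow_ne_zero (n - 4) ht0
      push_cast
      field_simp
    rw [eq_top_iff, ← hg, Subring.closure_le]
    rintro x rfl
    exact h
  · have hnF : (n : F) = 0 := (CharP.cast_eq_zero_iff F p n).2 hdvd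
    have hE : shiftE n τ = 0 := by
      have hT2 : (Nat.choose (n + 1) 2 : F) * 2 = 0 := by
        have : Nat.choose (n + 1) 2 * 2 = (n + 1) * n := by
          have := Nat.choose_succ_right_eq (n + 1) 1
          rw [Nat.choose_one_right] at this
          simpa using this
        exact_mod_cast (show ((Nat.choose (n + 1) 2 * 2 : ℕ) : F) = 0 by rw [this]; push_cast; rw [hnF, mul_zero])
      rw [shiftE, hnF, (mul_eq_zero.1 hT2).resolve_right h2F]; ring
    obtain ⟨v, m, hm, hnv⟩ := Nat.exists_eq_pow_mul_and_not_dvd (NeZero.ne n) p hpp.ne_one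
    have key : τ ^ (p ^ v) ∈ K := by
      have kc : ∀ k : ℕ, (2 : F)⁻¹ ^ k ∈ K := fun k => pow_mem k2inv k
      rcases Nat.lt_or_ge m 2 with hm1 | hm1
      · have hm' : m = 1 := by
          rcases Nat.eq_zero_or_pos m with rfl | h
          · exact absurd (dvd_zero p) hm
          · omega
        have hsK : s ∈ K := by
          rw [hs, sf_one]; exact pow_mem (K.neg_mem K.one_mem) _
        have := K.mul_mem (K.mul_mem (kc n) hsK) k0
        convert this using 1
        rw [show p ^ v = n by rw [hnv, hm', mul_one], hκ4, hκdef, hE, zero_add, ht, mul_pow]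
        have e : n = n - 2 + 2 := by omega
        nth_rewrite 1 [e]
        nth_rewrite 2 [e]
        rw [pow_add, pow_add]
        have : (2 : F)⁻¹ ^ (n - 2) * 2 ^ (n - 2) = 1 := by rw [← mul_pow, inv_mul_cancel₀ h2F, one_pow]
        calc τ ^ (n - 2) * τ ^ 2 = (s * s) * ((2 : F)⁻¹ ^ (n - 2) * 2 ^ (n - 2)) * ((2 : F)⁻¹ ^ 2 * 4) * (τ ^ (n - 2) * τ ^ 2) := by
              rw [hss, this, show ((2 : F)⁻¹ ^ 2 * 4) = 1 by field_simp; norm_num]; ring
          _ = _ := by ring
      · have hv : 1 ≤ v := by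
          rcases Nat.eq_zero_or_pos v with rfl | h
          · rw [pow_zero, one_mul] at hnv; exact absurd (hnv ▸ hdvd) hm
          · exact h
        have hL3 : 3 ≤ p ^ v := by
          have hp3 : 3 ≤ p := by have := hpp.two_le; omega
          exact hp3.trans (Nat.le_self_pow (by omega) p)
        have hL : p ^ v + 3 ≤ n := by
          have : p ^ v * 2 ≤ n := hnv ▸ Nat.mul_le_mul_left _ hm1
          omega
        set L := p ^ v
        have hmF : (m : F) ≠ 0 := fun h => hm ((CharP.cast_eq_zero_iff F p m).1 h)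
        have kA : κ4 * t ^ (n - 2 - (L + 1)) * (s * (m : F) * c0) ∈ K := fun x hx => by
          have h1 := coef_comm hU (k := 0) (l := 0) (r := L + 1) (by omega) hc0 hx
          rw [sf_prime_pow p hnv, ← sf_one, ← hs, show 0 + 0 + (L + 1) = L + 1 by omega] at h1
          have := back (L + 1) _ (by omega) h1
          rwa [show κ4 * t ^ (n - 2 - (L + 1)) * (x * (s * (m : F)) * c0) =
            κ4 * t ^ (n - 2 - (L + 1)) * (s * (m : F) * c0) * x by ring] at this
        have kB : κ4 * t ^ (n - 2 - 1) * (s * c0) ∈ K := fun x hx => by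
          have h1 := coef_comm hU (k := 0) (l := 0) (r := 1) (by omega) hc0 hx
          have := back 1 _ (by omega) h1
          rwa [← hs, show κ4 * t ^ (n - 2 - 1) * (x * s * c0) = κ4 * t ^ (n - 2 - 1) * (s * c0) * x by ring] at this
        have := K.mul_mem (K.mul_mem (kc L) (natCast_mem K m)) (kdiv kB kA)
        convert this using 1
        rw [show n - 2 - 1 = (n - 2 - (L + 1)) + L by omega, pow_add, ht, mul_pow, mul_pow, inv_pow]
        have hs0 : s ≠ 0 := sf_one_ne
        have := pow_ne_zero (n - 2 - (L + 1)) h2F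
        have := pow_ne_zero (n - 2 - (L + 1)) hτ
        have := pow_ne_zero L h2F
        field_simp
    rw [eq_top_iff, ← closure_pow_char p v hg, Subring.closure_le]
    rintro x rfl
    exact key

end Cfsg.Agent.RegUnip.Pair
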