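/-
A parameter for every finite field: `SL_n(F)`, `n ≥ 4`, is generated by two conjugate regular unipotents.
Main results (namespace `Cfsg.Agent.RegUnip.Pair`): `twoConj_all`.
-/
import Cfsg.Agent.Lib.RegUnip.SLPairOdd

set_option autoImplicit false
set_option linter.unusedSectionVars false

namespace Cfsg.Agent.RegUnip.Pair

open Polynomial

variable {F : Type*} [Field F] [Fintype F]

/-- An element of a proper subring is fixed by a small power of the Frobenius. -/
theorem pow_eq_self_of_proper (p : ℕ) [Fact p.Prime] [CharP F p] {m : ℕ} (hm : Fintype.card F = p ^ m) {x : F}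
    (h : Subring.closure ({x} : Set F) ≠ ⊤) : ∃ d, 1 ≤ d ∧ 2 * d ≤ m ∧ x ^ p ^ d = x := by
  classical
  set L := Subring.closure ({x} : Set F) with hL
  letI : Field L := (Finite.isField_of_domain L).toField
  haveI : Fintype L := Fintype.ofFinite L
  haveI : CharP L p := RingHom.charP L.subtype Subtype.val_injective p
  obtain ⟨d, -, hd⟩ := FiniteField.card L p
  set r := Module.finrank L F
  have hcard : Fintype.card F = Fintype.card L ^ r := Module.card_eq_pow_finrank
  have hr : 2 ≤ r := by
    by_contra hr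
    have hr0 : 0 < r := Module.finrank_pos
    apply h
    have hb : Function.Bijective (Subtype.val : L → F) :=
      (Fintype.bijective_iff_injective_and_card _).2
        ⟨Subtype.val_injective, by rw [hcard, show r = 1 by omega, pow_one]⟩
    rw [eq_top_iff]
    intro y _
    obtain ⟨z, rfl⟩ := hb.2 y
    exact z.2
  rw [hm, hd, ← pow_mul] at hcard
  have hmd := Nat.pow_right_injective (Fact.out (p := p.Prime)).two_le hcard
  refine ⟨d, d.pos, ?_, ?_⟩
  · rw [hmd, mul_comm 2]
    exact Nat.mul_le_mul_left _ hr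
  · have hxL : x ∈ L := Subring.subset_closure rfl
    have h1 := FiniteField.pow_card (⟨x, hxL⟩ : L)
    rw [hd] at h1
    exact congrArg Subtype.val h1

/-- Few solutions of a quadratic. -/
theorem card_quadratic (a b c : F) (h : a ≠ 0 ∨ b ≠ 0) [DecidableEq F] :
    (Finset.univ.filter fun x : F => a * x ^ 2 + b * x + c = 0).card ≤ 2 := by
  set P : F[X] := C a * X ^ 2 + C b * X + C c with hP
  have hP0 : P ≠ 0 := fun e => by
    have e2 := congrArg (fun f => coeff f 2) e
    have e1 := congrArg (fun f => coeff f 1) e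
    simp [hP, coeff_X, coeff_C] at e1 e2
    exact h.elim (fun h => h e2) (fun h => h e1)
  have hsub : (Finset.univ.filter fun x : F => a * x ^ 2 + b * x + c = 0) ⊆ P.roots.toFinset := by
    intro x hx
    rw [Finset.mem_filter] at hx
    rw [Multiset.mem_toFinset, mem_roots hP0]
    simp only [hP, IsRoot.def, eval_add, eval_mul, eval_pow, eval_C, eval_X]
    exact hx.2
  refine (Finset.card_le_card hsub).trans ((Multiset.toFinset_card_le _).trans ((card_roots' _).trans ?_))
  rw [hP]
  compute_degree

theorem card_fixed {k : ℕ} (hk : 1 < k) [DecidableEq F] : (Finset.univ.filter fun x : F => x ^ k = x).card ≤ k := by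
  have hP0 : (X ^ k - X : F[X]) ≠ 0 := FiniteField.X_pow_card_sub_X_ne_zero F hk
  have hsub : (Finset.univ.filter fun x : F => x ^ k = x) ⊆ (X ^ k - X : F[X]).roots.toFinset := by
    intro x hx
    rw [Finset.mem_filter] at hx
    rw [Multiset.mem_toFinset, mem_roots hP0]
    simp [hx.2]
  refine (Finset.card_le_card hsub).trans ((Multiset.toFinset_card_le _).trans ((card_roots' _).trans ?_))
  rw [FiniteField.X_pow_card_sub_X_natDegree_eq F hk]

theorem two_mul_sum_pow {p : ℕ} (hp : 3 ≤ p) (D : ℕ) : 2 * (∑ d ∈ Finset.Icc 1 D, p ^ d) + p ≤ p ^ (D + 1) := by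
  induction D with
  | zero => simp
  | succ D ih =>
    rw [Finset.sum_Icc_succ_top (by omega)]
    calc 2 * (∑ k ∈ Finset.Icc 1 D, p ^ k + p ^ (D + 1)) + p
        ≤ 3 * p ^ (D + 1) := by omega
      _ ≤ p * p ^ (D + 1) := Nat.mul_le_mul_right _ hp
      _ = p ^ (D + 1 + 1) := (pow_succ' _ _).symm

theorem choose_two_cast (n : ℕ) : (Nat.choose (n + 1) 2 : F) * 2 = ((n : F) + 1) * n := by
  have h : Nat.choose (n + 1) 2 * 2 = (n + 1) * n := by
    have := Nat.choose_succ_right_eq (n + 1) 1
    rw [Nat.choose_one_right] at this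
    simpa using this
  exact_mod_cast congrArg (Nat.cast (R := F)) h

/-- A parameter when `p ∤ n`. -/
theorem exists_param (p : ℕ) [Fact p.Prime] [CharP F p] (hp : p ≠ 2) (n : ℕ) (hn : ¬ p ∣ n) :
    ∃ τ : F, τ ≠ 0 ∧ shiftE n τ + τ ^ 2 ≠ 0 ∧ Subring.closure ({shiftE n τ / τ ^ 2} : Set F) = ⊤ := by
  classical
  have hpp : p.Prime := Fact.out
  have hp3 : 3 ≤ p := by have := hpp.two_le; omega
  have hnF : (n : F) ≠ 0 := fun h => hn ((CharP.cast_eq_zero_iff F p n).1 h)
  set c := (n : F) ^ 2 - (Nat.choose (n + 1) 2 : F) with hc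
  obtain ⟨m, -, hm⟩ := FiniteField.card F p
  rcases (show (m : ℕ) = 1 ∨ 2 ≤ (m : ℕ) by have := m.pos; omega) with hm1 | hm2
  · rw [hm1, pow_one] at hm
    have hall : ∀ x : F, Subring.closure ({x} : Set F) = ⊤ := fun x => by
      by_contra hx
      obtain ⟨d, hd1, hd2, -⟩ := pow_eq_self_of_proper p (m := 1) (by rw [hm, pow_one]) hx
      omega
    suffices ∃ τ : F, τ ≠ 0 ∧ shiftE n τ + τ ^ 2 ≠ 0 by
      obtain ⟨τ, h1, h2⟩ := this
      exact ⟨τ, h1, h2, hall _⟩
    by_cases hp5 : p = 3
    · subst hp5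
      refine ⟨1, one_ne_zero, fun h => ?_⟩
      have h3 : (3 : F) = 0 := by exact_mod_cast CharP.cast_eq_zero F 3
      have hn2 : (n : F) ^ 2 = 1 := by
        have := FiniteField.pow_card_sub_one_eq_one (n : F) hnF
        rwa [hm] at this
      apply hnF
      have hc2 := choose_two_cast (F := F) n
      rw [shiftE] at h
      linear_combination 2 * h + hc2 - hn2 - h3
    · set Bad := insert (0 : F) (Finset.univ.filter fun x : F => 1 * x ^ 2 + (n : F) * x + c = 0)
      have hcard : Bad.card < Fintype.card F := by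
        refine lt_of_le_of_lt (Finset.card_insert_le _ _) ?_
        have := card_quadratic 1 (n : F) c (Or.inl one_ne_zero)
        have : p ≠ 4 := fun e => by rw [e] at hpp; exact absurd hpp (by norm_num)
        omega
      obtain ⟨τ, hτ⟩ : ∃ τ, τ ∉ Bad := by
        by_contra hcon
        push_neg at hcon
        exact absurd (Finset.card_le_card (fun x _ => hcon x : Finset.univ ⊆ Bad)) (by simpa using hcard)
      simp only [Bad, Finset.mem_insert, Finset.mem_filter, Finset.mem_univ, true_and, not_or] at hτ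
      refine ⟨τ, hτ.1, fun h => hτ.2 ?_⟩
      rw [shiftE] at h
      rw [hc]
      linear_combination h
  · set D := (m : ℕ) / 2
    set B : Finset F := Finset.univ.filter fun x : F => x = -1 ∨ Subring.closure ({x} : Set F) ≠ ⊤
    have hB : B ⊆ (Finset.Icc 1 D).biUnion fun d => Finset.univ.filter fun x : F => x ^ p ^ d = x := by
      intro x hx
      simp only [B, Finset.mem_filter, Finset.mem_univ, true_and] at hx
      simp only [Finset.mem_biUnion, Finset.mem_Icc, Finset.mem_filter, Finset.mem_univ, true_and]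
      rcases hx with rfl | hx
      · refine ⟨1, ⟨le_rfl, by omega⟩, ?_⟩
        rw [pow_one, Odd.neg_one_pow (hpp.odd_of_ne_two hp)]
      · obtain ⟨d, hd1, hd2, hd⟩ := pow_eq_self_of_proper p hm hx
        exact ⟨d, ⟨hd1, by omega⟩, hd⟩
    have hBc : B.card ≤ ∑ d ∈ Finset.Icc 1 D, p ^ d :=
      (Finset.card_le_card hB).trans (Finset.card_biUnion_le.trans (Finset.sum_le_sum fun d hd =>
        card_fixed (Nat.one_lt_pow (by have := (Finset.mem_Icc.1 hd).1; omega) (by omega))))
    set Bad := insert (0 : F)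
      (B.biUnion fun b => Finset.univ.filter fun x : F => b * x ^ 2 + (-(n : F)) * x + (-c) = 0)
    have hcard : Bad.card < Fintype.card F := by
      refine lt_of_le_of_lt (Finset.card_insert_le _ _) ?_
      have h1 : (B.biUnion fun b => Finset.univ.filter fun x : F => b * x ^ 2 + (-(n : F)) * x + (-c) = 0).card ≤
          B.card * 2 :=
        Finset.card_biUnion_le_card_mul _ _ _ fun b _ => card_quadratic _ _ _ (Or.inr (neg_ne_zero.2 hnF))
      have h2 := two_mul_sum_pow hp3 D
      have h3 : p ^ (D + 1) ≤ p ^ (m : ℕ) := Nat.pow_le_pow_right (by omega) (by omega)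
      omega
    obtain ⟨τ, hτ⟩ : ∃ τ, τ ∉ Bad := by
      by_contra hcon
      push_neg at hcon
      exact absurd (Finset.card_le_card (fun x _ => hcon x : Finset.univ ⊆ Bad)) (by simpa using hcard)
    simp only [Bad, Finset.mem_insert, Finset.mem_biUnion, Finset.mem_filter, Finset.mem_univ, true_and,
      not_or, not_exists, not_and] at hτ
    obtain ⟨hτ0, hτB⟩ := hτ
    have hnot : shiftE n τ / τ ^ 2 ∉ B := fun hb => hτB _ hb (by
      rw [shiftE, hc, div_mul_cancel₀ _ (pow_ne_zero 2 hτ0)]; ring)
    simp only [B, Finset.mem_filter, Finset.mem_univ, true_and, not_or, ne_eq, not_not] at hnot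
    refine ⟨τ, hτ0, fun h => hnot.1 ?_, hnot.2⟩
    rw [div_eq_iff (pow_ne_zero 2 hτ0)]
    linear_combination h

/-- `SL_n(F)`, `n ≥ 4`, is generated by two conjugate regular unipotent elements. -/
theorem twoConj_all {n : ℕ} [NeZero n] (hn : 4 ≤ n) : TwoConj F n := by
  classical
  obtain ⟨p, hchar⟩ := CharP.exists F
  have hpp : p.Prime := CharP.char_is_prime F p
  haveI : Fact p.Prime := ⟨hpp⟩
  by_cases hp : p = 2
  · subst hp
    exact twoConj_char_two hn
  by_cases hdvd : p ∣ n
  · obtain ⟨γ, hγ⟩ := IsCyclic.exists_generator (α := Fˣ)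
    have hnF : (n : F) = 0 := (CharP.cast_eq_zero_iff F p n).2 hdvd
    have h2F : (2 : F) ≠ 0 := Ring.two_ne_zero (by rw [ringChar.eq F p]; exact hp)
    have hC : (Nat.choose (n + 1) 2 : F) = 0 := by
      have := choose_two_cast (F := F) n
      rw [hnF, mul_zero] at this
      exact (mul_eq_zero.1 this).resolve_right h2F
    refine twoConj_of_param (γ : F) hn p hp γ.ne_zero ?_ (Or.inr ⟨hdvd, ?_⟩)
    · rw [shiftE, hnF, hC]
      simp
    · rw [eq_top_iff]
      intro x _
      by_cases hx : x = 0
      · rw [hx]; exact Subring.zero_mem _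
      · obtain ⟨k, hk⟩ := mem_powers_iff_mem_zpowers.2 (hγ (Units.mk0 x hx))
        have : (γ : F) ^ k = x := by simpa using congrArg Units.val hk
        rw [← this]
        have hmem : (γ : F) ∈ Subring.closure ({(γ : F)} : Set F) := Subring.subset_closure (Set.mem_singleton _)
        exact pow_mem hmem k
  · obtain ⟨τ, h1, h2, h3⟩ := exists_param (F := F) p hp n hdvd
    exact twoConj_of_param τ hn p hp h1 h2 (Or.inl ⟨hdvd, h3⟩)

end Cfsg.Agent.RegUnip.Pair
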