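/-
Subgroups of SL_3(F) containing a regular upper unipotent element: generation criteria.
Main results (namespace `Cfsg.Agent.RegUnip.SL3`): `InM`, `mm_eq`, `top_of_stable`, `uu_regular`.
-/
import Cfsg.Agent.Lib.RegUnip.SLn

set_option autoImplicit false
set_option linter.unusedSectionVars false

namespace Cfsg.Agent.RegUnip.SL3

open Matrix Cfsg.Agent.Transvect
open scoped MatrixGroups

attribute [-simp] app_apply

variable {F : Type*} [Field F]

/-- The upper unipotent matrix. -/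
def uu (x a c : F) : Matrix (Fin 3) (Fin 3) F := !![1, x, c; 0, 1, a; 0, 0, 1]

theorem uu_mul (x a c y b e : F) : uu x a c * uu y b e = uu (x + y) (a + b) (c + e + x * b) := by
  ext i j
  fin_cases i <;> fin_cases j <;> simp [uu, Matrix.mul_apply, Fin.sum_univ_three] <;> ring

theorem uu_zero : uu (0 : F) 0 0 = 1 := by
  ext i j
  fin_cases i <;> fin_cases j <;> simp [uu]

theorem uu_det (x a c : F) : (uu x a c).det = 1 := by
  simp [uu, Matrix.det_fin_three]

/-- Equality of a product of explicit matrices, entry by entry. -/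
theorem mm_eq {a00 a01 a02 a10 a11 a12 a20 a21 a22 b00 b01 b02 b10 b11 b12 b20 b21 b22
    c00 c01 c02 c10 c11 c12 c20 c21 c22 : F}
    (h00 : a00 * b00 + a01 * b10 + a02 * b20 = c00) (h01 : a00 * b01 + a01 * b11 + a02 * b21 = c01)
    (h02 : a00 * b02 + a01 * b12 + a02 * b22 = c02) (h10 : a10 * b00 + a11 * b10 + a12 * b20 = c10)
    (h11 : a10 * b01 + a11 * b11 + a12 * b21 = c11) (h12 : a10 * b02 + a11 * b12 + a12 * b22 = c12)
    (h20 : a20 * b00 + a21 * b10 + a22 * b20 = c20) (h21 : a20 * b01 + a21 * b11 + a22 * b21 = c21)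
    (h22 : a20 * b02 + a21 * b12 + a22 * b22 = c22) :
    (!![a00, a01, a02; a10, a11, a12; a20, a21, a22] : Matrix (Fin 3) (Fin 3) F) *
      !![b00, b01, b02; b10, b11, b12; b20, b21, b22] = !![c00, c01, c02; c10, c11, c12; c20, c21, c22] := by
  subst h00 h01 h02 h10 h11 h12 h20 h21 h22
  ext i j
  fin_cases i <;> fin_cases j <;> simp [Matrix.mul_apply, Fin.sum_univ_three]

theorem one_eq : (!![1, 0, 0; 0, 1, 0; 0, 0, 1] : Matrix (Fin 3) (Fin 3) F) = 1 := by
  ext i j
  fin_cases i <;> fin_cases j <;> simp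

/-- The matrix of an element of `M`. -/
def InM (M : Subgroup (Matrix.SpecialLinearGroup (Fin 3) F)) (X : Matrix (Fin 3) (Fin 3) F) : Prop :=
  ∃ h ∈ M, (h : Matrix (Fin 3) (Fin 3) F) = X

variable {M : Subgroup (Matrix.SpecialLinearGroup (Fin 3) F)}

theorem InM.one : InM M 1 := ⟨1, one_mem _, rfl⟩

theorem InM.step {X Y Z : Matrix (Fin 3) (Fin 3) F} (hX : InM M X) (hY : InM M Y) (h : X * Y = Z) : InM M Z := by
  obtain ⟨x, hx, rfl⟩ := hX
  obtain ⟨y, hy, rfl⟩ := hY
  exact ⟨x * y, mul_mem hx hy, h⟩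

theorem InM.mul {X Y : Matrix (Fin 3) (Fin 3) F} (hX : InM M X) (hY : InM M Y) : InM M (X * Y) := hX.step hY rfl

theorem InM.inv {X Y : Matrix (Fin 3) (Fin 3) F} (hX : InM M X) (h : X * Y = 1) : InM M Y := by
  obtain ⟨x, hx, rfl⟩ := hX
  refine ⟨x⁻¹, inv_mem hx, ?_⟩
  have hx' : ((x⁻¹ : Matrix.SpecialLinearGroup (Fin 3) F) : Matrix (Fin 3) (Fin 3) F) * (x : Matrix (Fin 3) (Fin 3) F) = 1 := by
    rw [← Matrix.SpecialLinearGroup.coe_mul, inv_mul_cancel, Matrix.SpecialLinearGroup.coe_one]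
  exact left_inv_eq_right_inv hx' h

variable (M) in
/-- The pairs of superdiagonal entries of the upper unipotent elements of `M`. -/
def pairs : AddSubgroup (F × F) where
  carrier := {p | ∃ c, InM M (uu p.1 p.2 c)}
  zero_mem' := ⟨0, by rw [show uu (0 : F × F).1 (0 : F × F).2 0 = 1 from uu_zero]; exact InM.one⟩
  add_mem' := by
    rintro p r ⟨c, hc⟩ ⟨e, he⟩
    exact ⟨c + e + p.1 * r.2, hc.step he (uu_mul _ _ _ _ _ _)⟩
  neg_mem' := by
    rintro p ⟨c, hc⟩
    exact ⟨p.1 * p.2 - c, hc.inv (by rw [uu_mul, ← uu_zero]; congr 1 <;> simp <;> ring)⟩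

/-- Conjugation by an upper triangular element scales the pairs. -/
theorem pairs_scale {α β δ p r w : F} (hα : α ≠ 0) (hβ : β ≠ 0) (hδ : δ ≠ 0)
    (hh : InM M !![α, p, r; 0, β, w; 0, 0, δ]) {z : F × F} (hz : z ∈ pairs M) :
    (α / β * z.1, β / δ * z.2) ∈ pairs M := by
  obtain ⟨c, hc⟩ := hz
  have hi : !![α, p, r; 0, β, w; 0, 0, δ] *
      !![α⁻¹, -(p / (α * β)), (p * w - r * β) / (α * β * δ); 0, β⁻¹, -(w / (β * δ)); 0, 0, δ⁻¹] = 1 :=
    (mm_eq (by field_simp; ring) (by field_simp; ring) (by field_simp; ring) (by ring) (by field_simp; ring)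
      (by field_simp; ring) (by ring) (by ring) (by field_simp; ring)).trans one_eq
  have h2 := (hh.mul hc).mul (hh.inv hi)
  refine ⟨_, (?_ : _ * uu z.1 z.2 c * _ = uu _ _ ((α * c + p * z.2 - α * z.1 * (w / β)) / δ)) ▸ h2⟩
  ext i j
  fin_cases i <;> fin_cases j <;> simp [uu, Matrix.mul_apply, Fin.sum_univ_three] <;> field_simp <;> ring

/-- All pairs give the whole upper unipotent group. -/
theorem uu_mem_of_pairs (h : ∀ z, z ∈ pairs M) (x a c : F) : InM M (uu x a c) := by
  have center : ∀ e : F, InM M (uu 0 0 e) := by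
    intro e
    obtain ⟨c1, h1⟩ := h (e, 0)
    obtain ⟨c2, h2⟩ := h (0, 1)
    have i1 : uu e 0 c1 * uu (-e) 0 (-c1) = 1 := by rw [uu_mul, ← uu_zero]; congr 1 <;> ring
    have i2 : uu 0 1 c2 * uu 0 (-1) (-c2) = 1 := by rw [uu_mul, ← uu_zero]; congr 1 <;> ring
    refine ((h1.mul h2).mul ((h1.inv i1).mul (h2.inv i2))).step InM.one ?_
    rw [mul_one, uu_mul, uu_mul, uu_mul]
    congr 1 <;> ring
  obtain ⟨c', h'⟩ := h (x, a)
  exact h'.step (center (c - c')) (by rw [uu_mul]; congr 1 <;> ring)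

/-- Passing to GL. -/
theorem InM.toGL {X : Matrix (Fin 3) (Fin 3) F} (hX : InM M X) :
    ∃ g : GL (Fin 3) F, g ∈ M.map SpecialLinearGroup.toGL ∧ (g : Matrix (Fin 3) (Fin 3) F) = X := by
  obtain ⟨x, hx, rfl⟩ := hX
  exact ⟨SpecialLinearGroup.toGL x, ⟨x, hx, rfl⟩, rfl⟩

/-- The end of every proof: a full centre set is everything. -/
theorem top_of_fullSub [Finite F] (h : fullSub (M.map SpecialLinearGroup.toGL) = ⊤) : M = ⊤ := by
  rw [eq_top_iff]
  intro x _
  obtain ⟨y, hy, hyx⟩ := sl_le_of_fullSub _ h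
    (show SpecialLinearGroup.toGL x ∈ Cfsg.Geo.specialLinear (Fin 3) F from mem_sl_iff.2 x.2)
  rwa [← SpecialLinearGroup.toGL_injective hyx]

theorem app_val (g : GL (Fin 3) F) (x : Fin 3 → F) : app g x = (g : Matrix (Fin 3) (Fin 3) F) *ᵥ x := rfl

theorem fullSub_app {N : Subgroup (GL (Fin 3) F)} {g : GL (Fin 3) F} (hg : g ∈ N) {v : Fin 3 → F}
    (h : v ∈ fullSub N) : app g v ∈ fullSub N := by
  rcases h with h | h
  · exact Or.inl (by rw [h, map_zero])
  · exact Or.inr (h.conj hg)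

/-- The upper unipotent group and an element moving `e₁` out of the Borel line generate. -/
theorem top_of_uu [Finite F] (h : ∀ x a c : F, InM M (uu x a c)) {X : Matrix (Fin 3) (Fin 3) F} (hX : InM M X)
    (hX20 : X 2 0 ≠ 0) : M = ⊤ := by
  apply top_of_fullSub
  set N := M.map SpecialLinearGroup.toGL
  set e : Fin 3 → F := ee 0 with he
  have hfull : IsFull N e := by
    intro χ hχ
    refine ⟨hχ, fun t => ?_⟩
    obtain ⟨g, hg, hgX⟩ := (h (t * χ (ee 1)) 0 (t * χ (ee 2))).toGL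
    suffices tv e (t • χ) = g by rwa [this]
    refine gl_ext fun x => ?_
    have hχe : χ (ee 0) = 0 := hχ
    rw [tv_apply (φ := t • χ) (by simp [he, hχe]), app_val, hgX]
    have hx : χ x = x 1 * χ (ee 1) + x 2 * χ (ee 2) := by
      conv_lhs => rw [pi_eq_sum_univ' x]
      simp only [map_sum, map_add, map_smul, Fin.sum_univ_three, smul_eq_mul]
      rw [show χ (Pi.single 0 1) = 0 from hχe, mul_zero, zero_add]
    funext i
    fin_cases i <;> simp [uu, Matrix.mulVec, dotProduct, Fin.sum_univ_three, he, ee, hx] <;> ring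
  obtain ⟨g, hg, hgX⟩ := hX.toGL
  obtain ⟨g', hg', hgu⟩ := (h 0 1 0).toGL
  have he0 : e ∈ fullSub N := Or.inr hfull
  have h1 := fullSub_app hg he0
  have h2 := fullSub_app hg' h1
  rw [app_val, app_val, hgu, hgX, he, ee] at h2
  rw [app_val, hgX, he, ee] at h1
  have h3 : ee 1 ∈ fullSub N := by
    have := Submodule.smul_mem _ (X 2 0)⁻¹ (Submodule.sub_mem _ h2 h1)
    convert this using 1
    funext i
    fin_cases i <;> simp [uu, ee, Matrix.mulVec, dotProduct, Fin.sum_univ_three, Matrix.vecHead, Matrix.vecTail, Matrix.col_apply, hX20]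
  have h4 : ee 2 ∈ fullSub N := by
    have := Submodule.smul_mem _ (X 2 0)⁻¹
      (Submodule.sub_mem _ (Submodule.sub_mem _ h1 (Submodule.smul_mem _ (X 0 0) he0)) (Submodule.smul_mem _ (X 1 0) h3))
    convert this using 1
    funext i
    fin_cases i <;> simp [he, ee, Matrix.mulVec, dotProduct, Fin.sum_univ_three, Matrix.vecHead, Matrix.vecTail, Matrix.col_apply, hX20]
  rw [eq_top_iff]
  intro v _
  rw [pi_eq_sum_univ' v, Fin.sum_univ_three]
  exact Submodule.add_mem _ (Submodule.add_mem _ (Submodule.smul_mem _ _ he0) (Submodule.smul_mem _ _ h3))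
    (Submodule.smul_mem _ _ h4)

/-- A set of multipliers which generates the field, a pair in each coordinate. -/
theorem top_of_stable [Finite F] {α β δ p r w : F} (hα : α ≠ 0) (hβ : β ≠ 0) (hδ : δ ≠ 0)
    (hh : InM M !![α, p, r; 0, β, w; 0, 0, δ]) (hg1 : Subring.closure ({α / β} : Set F) = ⊤)
    (hg2 : Subring.closure ({β / δ} : Set F) = ⊤) {c : F} (hc : c ≠ 0) (hc' : (c, 0) ∈ pairs M) {c2 : F}
    (hc2 : c2 ≠ 0) (hc2' : (0, c2) ∈ pairs M) {X : Matrix (Fin 3) (Fin 3) F} (hX : InM M X) (hX20 : X 2 0 ≠ 0) :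
    M = ⊤ := by
  let K1 : Subring F :=
    { carrier := {y | ∀ x, (x, 0) ∈ pairs M → (y * x, 0) ∈ pairs M}
      one_mem' := fun x hx => by rwa [one_mul]
      mul_mem' := fun {y z} hy hz x hx => by rw [mul_assoc]; exact hy _ (hz x hx)
      zero_mem' := fun x _ => by rw [zero_mul]; exact (pairs M).zero_mem
      add_mem' := fun {y z} hy hz x hx => by
        simpa [add_mul] using (pairs M).add_mem (hy x hx) (hz x hx)
      neg_mem' := fun {y} hy x hx => by simpa [neg_mul] using (pairs M).neg_mem (hy x hx) }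
  let K2 : Subring F :=
    { carrier := {y | ∀ x, (0, x) ∈ pairs M → (0, y * x) ∈ pairs M}
      one_mem' := fun x hx => by rwa [one_mul]
      mul_mem' := fun {y z} hy hz x hx => by rw [mul_assoc]; exact hy _ (hz x hx)
      zero_mem' := fun x _ => by rw [zero_mul]; exact (pairs M).zero_mem
      add_mem' := fun {y z} hy hz x hx => by
        simpa [add_mul] using (pairs M).add_mem (hy x hx) (hz x hx)
      neg_mem' := fun {y} hy x hx => by simpa [neg_mul] using (pairs M).neg_mem (hy x hx) }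
  have h1 : ∀ y, y ∈ K1 := fun y => by
    have : Subring.closure ({α / β} : Set F) ≤ K1 := Subring.closure_le.2 fun z hz => by
      rw [Set.mem_singleton_iff] at hz; subst hz
      exact fun x hx => by simpa using pairs_scale hα hβ hδ hh hx
    rw [hg1] at this
    exact this (Subring.mem_top y)
  have h2 : ∀ y, y ∈ K2 := fun y => by
    have : Subring.closure ({β / δ} : Set F) ≤ K2 := Subring.closure_le.2 fun z hz => by
      rw [Set.mem_singleton_iff] at hz; subst hz
      exact fun x hx => by simpa using pairs_scale hα hβ hδ hh hx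
    rw [hg2] at this
    exact this (Subring.mem_top y)
  refine top_of_uu (uu_mem_of_pairs ?_) hX hX20
  rintro ⟨x, y⟩
  have e1 := h1 (x / c) c hc'
  have e2 := h2 (y / c2) c2 hc2'
  rw [div_mul_cancel₀ _ hc] at e1
  rw [div_mul_cancel₀ _ hc2] at e2
  simpa using (pairs M).add_mem e1 e2

/-- The unipotent with nonzero superdiagonal is regular. -/
theorem uu_regular {x a c : F} (hx : x ≠ 0) (ha : a ≠ 0) :
    IsNilpotent (uu x a c - 1) ∧ (uu x a c - 1) ^ (3 - 1) ≠ 0 := by
  have h2 : (uu x a c - 1) ^ 2 = !![0, 0, x * a; 0, 0, 0; 0, 0, 0] := by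
    ext i j
    fin_cases i <;> fin_cases j <;> simp [uu, pow_two, Matrix.mul_apply, Fin.sum_univ_three]
  refine ⟨⟨3, ?_⟩, fun h => ?_⟩
  · rw [pow_succ, h2]
    ext i j
    fin_cases i <;> fin_cases j <;> simp [uu, Matrix.mul_apply, Fin.sum_univ_three]
  · rw [show (3 - 1 : ℕ) = 2 from rfl, h2] at h
    have := congrFun (congrFun h 0) 2
    simp [hx, ha] at this

end Cfsg.Agent.RegUnip.SL3
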