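/-
Two conjugate regular unipotent elements u, v of SL_3(F) whose product s has s^q diagonal.
Main results (namespace `Cfsg.Agent.RegUnip.SL3`): `exists_pair_of`, `top_of_pairs_generic`, `exists_pair_generic`.
-/
import Cfsg.Agent.Lib.RegUnip.SL3Base
import Cfsg.Agent.Lib.RegUnip.SpMain

set_option autoImplicit false
set_option linter.unusedSectionVars false

namespace Cfsg.Agent.RegUnip.SL3

open Matrix Cfsg.Agent.Transvect
open scoped MatrixGroups

attribute [-simp] app_apply

variable {F : Type*} [Field F] [Fintype F]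

/-- The product of the two superdiagonal entries. -/
def xp (μ : F) : F := -(μ ^ 2 - 1) ^ 3 / μ ^ 2

/-- The corner of `u⁻¹`. -/
def yp (μ : F) : F := 3 - 2 * μ - (μ ^ 2)⁻¹

/-- The first element. -/
def um (μ : F) : Matrix (Fin 3) (Fin 3) F := uu (-xp μ) 1 (-xp μ - yp μ)

/-- The product of the two elements. -/
def sm (μ : F) : Matrix (Fin 3) (Fin 3) F := !![μ, 0, 0; 0, (μ ^ 2)⁻¹, 0; 1, 0, μ]

/-- `N² e₁` for `N = u⁻¹ s - 1`. -/
def col0 (μ : F) : Fin 3 → F :=
  ![(μ - 1 + yp μ) ^ 2 - xp μ * (μ ^ 2)⁻¹ + yp μ * μ, -1, 1 - (μ ^ 2)⁻¹]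

/-- The conjugating element. -/
def gm (μ : F) : Matrix (Fin 3) (Fin 3) F :=
  !![-(1 - μ ^ 2) / xp μ * col0 μ 0,
     (1 - μ ^ 2) * (μ - 1 + yp μ) - (-xp μ - yp μ) * (-(1 - μ ^ 2) / xp μ * col0 μ 0), 1 - μ ^ 2;
    -(1 - μ ^ 2) / xp μ * col0 μ 1,
     -(1 - μ ^ 2) - (-xp μ - yp μ) * (-(1 - μ ^ 2) / xp μ * col0 μ 1), 0;
    -(1 - μ ^ 2) / xp μ * col0 μ 2,
     (1 - μ ^ 2) - (-xp μ - yp μ) * (-(1 - μ ^ 2) / xp μ * col0 μ 2), 0]

theorem xp_ne {μ : F} (hμ : μ ≠ 0) (hμ1 : μ ^ 2 ≠ 1) : xp μ ≠ 0 :=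
  div_ne_zero (neg_ne_zero.2 (pow_ne_zero _ (sub_ne_zero.2 hμ1))) (pow_ne_zero _ hμ)

theorem main_eq {μ : F} (hμ : μ ≠ 0) (hμ1 : μ ^ 2 ≠ 1) : um μ * (gm μ * um μ) = sm μ * gm μ := by
  have h1 : μ ^ 2 - 1 ≠ 0 := sub_ne_zero.2 hμ1
  have h2 : 1 - μ ^ 2 ≠ 0 := sub_ne_zero.2 (Ne.symm hμ1)
  ext i j
  fin_cases i <;> fin_cases j <;>
    simp [um, uu, gm, sm, col0, xp, yp, Matrix.mul_apply, Fin.sum_univ_three] <;> field_simp <;> ring

theorem gm_det {μ : F} (hμ : μ ≠ 0) (hμ1 : μ ^ 2 ≠ 1) : (gm μ).det = 1 := by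
  have h1 : μ ^ 2 - 1 ≠ 0 := sub_ne_zero.2 hμ1
  have h2 : 1 - μ ^ 2 ≠ 0 := sub_ne_zero.2 (Ne.symm hμ1)
  simp [gm, col0, xp, yp, Matrix.det_fin_three]
  field_simp
  ring

/-- The pair `u, g u g⁻¹` generates as soon as every subgroup with `u` and the product is everything. -/
theorem exists_pair_of {μ : F} (hμ : μ ≠ 0) (hμ1 : μ ^ 2 ≠ 1)
    (htop : ∀ M : Subgroup (Matrix.SpecialLinearGroup (Fin 3) F), InM M (um μ) → InM M (sm μ) → M = ⊤) :
    ∃ u g : Matrix.SpecialLinearGroup (Fin 3) F, IsNilpotent ((u : Matrix (Fin 3) (Fin 3) F) - 1) ∧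
      ((u : Matrix (Fin 3) (Fin 3) F) - 1) ^ (3 - 1) ≠ 0 ∧
      Subgroup.closure ({u, g * u * g⁻¹} : Set (Matrix.SpecialLinearGroup (Fin 3) F)) = ⊤ := by
  let u : Matrix.SpecialLinearGroup (Fin 3) F := ⟨um μ, uu_det _ _ _⟩
  let g : Matrix.SpecialLinearGroup (Fin 3) F := ⟨gm μ, gm_det hμ hμ1⟩
  have hs : (sm μ).det = 1 := by simp [sm, Matrix.det_fin_three]; field_simp
  let s : Matrix.SpecialLinearGroup (Fin 3) F := ⟨sm μ, hs⟩
  have e : u * (g * u) = s * g := Subtype.ext (main_eq hμ hμ1)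
  have e' : u * (g * u * g⁻¹) = s := by rw [← mul_assoc, e, mul_inv_cancel_right]
  obtain ⟨hn1, hn2⟩ := uu_regular (c := -xp μ - yp μ) (neg_ne_zero.2 (xp_ne hμ hμ1)) (one_ne_zero (α := F))
  refine ⟨u, g, hn1, hn2, htop _ ⟨u, Subgroup.subset_closure (Or.inl rfl), rfl⟩ ⟨s, ?_, rfl⟩⟩
  rw [← e']
  exact mul_mem (Subgroup.subset_closure (Or.inl rfl)) (Subgroup.subset_closure (Or.inr rfl))

variable {M : Subgroup (Matrix.SpecialLinearGroup (Fin 3) F)}

theorem InM.pow {X : Matrix (Fin 3) (Fin 3) F} (hX : InM M X) (n : ℕ) : InM M (X ^ n) := by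
  induction n with
  | zero => rw [pow_zero]; exact InM.one
  | succ n ih => rw [pow_succ]; exact ih.mul hX

/-- The powers of the product. -/
theorem sm_pow {μ : F} (n : ℕ) :
    sm μ ^ (n + 1) = !![μ ^ (n + 1), 0, 0; 0, (μ ^ 2)⁻¹ ^ (n + 1), 0; ((n : F) + 1) * μ ^ n, 0, μ ^ (n + 1)] := by
  induction n with
  | zero =>
    rw [pow_one]
    ext i j
    fin_cases i <;> fin_cases j <;> simp [sm]
  | succ n ih =>
    rw [pow_succ, ih]
    ext i j
    fin_cases i <;> fin_cases j <;> simp [sm, Matrix.mul_apply, Fin.sum_univ_three] <;> ring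

/-- The diagonal part and the lower transvection of the product. -/
theorem sm_parts {μ : F} (hμ : μ ≠ 0) (hS : InM M (sm μ)) :
    InM M !![μ, 0, 0; 0, (μ ^ 2)⁻¹, 0; 0, 0, μ] ∧ InM M !![1, 0, 0; 0, 1, 0; -μ⁻¹, 0, 1] := by
  obtain ⟨k, hk⟩ : ∃ k, Fintype.card F = k + 1 + 1 := ⟨Fintype.card F - 2, by
    have : 2 ≤ Fintype.card F := Fintype.one_lt_card
    omega⟩
  have hq : ((k : F) + 1) + 1 = 0 := by
    have := FiniteField.cast_card_eq_zero F
    rw [hk] at this
    push_cast at this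
    exact this
  have pc : ∀ x : F, x ^ (k + 1 + 1) = x := fun x => by rw [← hk]; exact FiniteField.pow_card x
  have p1 : ∀ x : F, x ≠ 0 → x ^ (k + 1) = 1 := fun x hx => by
    have := pc x
    rw [pow_succ] at this
    exact mul_right_cancel₀ hx (by rw [this, one_mul])
  constructor
  · have h := hS.pow (k + 1 + 1)
    rw [sm_pow, pc, pc, Nat.cast_add, Nat.cast_one, hq, zero_mul] at h
    exact h
  · have h := hS.pow (k + 1)
    rw [sm_pow, p1 μ hμ, p1 _ (inv_ne_zero (pow_ne_zero _ hμ))] at h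
    have hk' : μ ^ k = μ⁻¹ := eq_inv_of_mul_eq_one_left (by rw [← pow_succ, p1 μ hμ])
    rw [hk', show ((k : F) + 1) * μ⁻¹ = -μ⁻¹ by linear_combination μ⁻¹ * hq] at h
    exact h

/-- A small field: the only possible obstruction. -/
theorem small_of {γ : Fˣ} (hγ : ∀ x, x ∈ Subgroup.zpowers γ) (L : Subring F) (hL : L ≠ ⊤)
    (h : ((γ : F) ^ 3) ^ (Nat.card L - 1) = 1 ∨ ((γ : F) ^ 3) ^ (Nat.card L + 1) = 1) :
    Fintype.card F = 4 ∨ Fintype.card F = 16 := by
  classical
  letI : Field L := (Finite.isField_of_domain L).toField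
  haveI : Fintype L := Fintype.ofFinite L
  rw [Nat.card_eq_fintype_card] at h
  set r := Module.finrank L F
  set l := Fintype.card L with hl
  have hcard : Fintype.card F = l ^ r := Module.card_eq_pow_finrank
  have hl2 : 2 ≤ l := Fintype.one_lt_card
  have hr : 2 ≤ r := by
    by_contra hr
    have hr0 : 0 < r := Module.finrank_pos
    have hr1 : r = 1 := by omega
    apply hL
    have hb : Function.Bijective (Subtype.val : L → F) :=
      (Fintype.bijective_iff_injective_and_card _).2 ⟨Subtype.val_injective, by rw [hcard, hr1, pow_one]⟩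
    rw [eq_top_iff]
    intro x _
    obtain ⟨y, rfl⟩ := hb.2 x
    exact y.2
  have hord : orderOf γ = Fintype.card F - 1 := by
    rw [orderOf_eq_card_of_forall_mem_zpowers hγ, Nat.card_eq_fintype_card, Fintype.card_units]
  have dvd : ∀ n : ℕ, ((γ : F) ^ 3) ^ n = 1 → Fintype.card F - 1 ∣ 3 * n := fun n e => by
    rw [← hord]
    exact orderOf_dvd_of_pow_eq_one (Units.ext (by rw [Units.val_pow_eq_pow_val, pow_mul, e, Units.val_one]))
  have hsq : l * l ≤ Fintype.card F := by
    rw [hcard, ← sq]; exact Nat.pow_le_pow_right (by omega) hr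
  have hle : Fintype.card F - 1 ≤ 3 * (l + 1) := by
    rcases h with h | h
    · exact (Nat.le_of_dvd (by omega) (dvd _ h)).trans (by omega)
    · exact Nat.le_of_dvd (by omega) (dvd _ h)
  have hl4 : l ≤ 4 := by
    by_contra hc
    have : 5 * l ≤ l * l := Nat.mul_le_mul (by omega) le_rfl
    omega
  have hr4 : r < 5 := by
    by_contra hc
    have : 2 ^ 5 ≤ l ^ r := (Nat.pow_le_pow_left hl2 5).trans (Nat.pow_le_pow_right (by omega) (by omega))
    omega
  rcases h with h | h <;> have hd := dvd _ h <;> rw [hcard] at hd hle hsq ⊢ <;>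
    interval_cases l <;> interval_cases r <;> first | omega | (norm_num at hd; done) | (norm_num at hle; done) | norm_num

/-- The pairs of multipliers generated by `(λ, λ⁻¹)` are all pairs, for `λ = γ³` outside small fields. -/
theorem closure_pair_eq_top {γ : Fˣ} (hγ : ∀ x, x ∈ Subgroup.zpowers γ) (h2 : 2 < Fintype.card F)
    (h3 : Fintype.card F ≠ 3) (h4 : Fintype.card F ≠ 4) (h7 : Fintype.card F ≠ 7) (h16 : Fintype.card F ≠ 16) :
    Subring.closure ({((γ : F) ^ 3, ((γ : F) ^ 3)⁻¹)} : Set (F × F)) = ⊤ := by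
  classical
  set lam := (γ : F) ^ 3 with hlam
  have hlam0 : lam ≠ 0 := pow_ne_zero _ γ.ne_zero
  have hne : lam ≠ lam⁻¹ := by
    intro e
    have hord : orderOf γ = Fintype.card F - 1 := by
      rw [orderOf_eq_card_of_forall_mem_zpowers hγ, Nat.card_eq_fintype_card, Fintype.card_units]
    have h6 : γ ^ 6 = 1 := Units.ext (by
      rw [Units.val_pow_eq_pow_val, Units.val_one, show (6 : ℕ) = 3 + 3 from rfl, pow_add, ← hlam]
      nth_rewrite 2 [e]
      rw [mul_inv_cancel₀ hlam0])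
    have hd := orderOf_dvd_of_pow_eq_one h6
    rw [hord] at hd
    have hle := Nat.le_of_dvd (by norm_num) hd
    obtain ⟨p, hchar⟩ := CharP.exists F
    obtain ⟨m, hp, hm⟩ := FiniteField.card F p
    rcases (show Fintype.card F = 5 ∨ Fintype.card F = 6 by omega) with e5 | e6
    · rw [e5] at hd; norm_num at hd
    · rw [e6] at hd; norm_num at hd
  have big : ∀ L : Subring F, L ≠ ⊤ → ¬ (lam ^ (Nat.card L - 1) = 1 ∨ lam ^ (Nat.card L + 1) = 1) := fun L hL h => by
    rcases small_of hγ L hL h with h | h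
    · exact h4 h
    · exact h16 h
  have gen : Subring.closure ({lam} : Set F) = ⊤ := by
    by_contra hL
    set L := Subring.closure ({lam} : Set F)
    refine big L hL (Or.inl ?_)
    letI : Field L := (Finite.isField_of_domain L).toField
    haveI : Fintype L := Fintype.ofFinite L
    rw [Nat.card_eq_fintype_card]
    have h1 := FiniteField.pow_card_sub_one_eq_one (⟨lam, Subring.subset_closure rfl⟩ : L)
      (fun e => hlam0 (congrArg Subtype.val e))
    simpa using congrArg Subtype.val h1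
  set S := Subring.closure ({(lam, lam⁻¹)} : Set (F × F))
  have hgS : (lam, lam⁻¹) ∈ S := Subring.subset_closure rfl
  have hsurj : ∀ y : F, ∃ z, (y, z) ∈ S := fun y => by
    have : Subring.closure ({lam} : Set F) ≤ S.map (RingHom.fst F F) := Subring.closure_le.2 fun z hz => by
      rw [Set.mem_singleton_iff] at hz; subst hz
      exact ⟨_, hgS, rfl⟩
    rw [gen] at this
    obtain ⟨⟨a, b⟩, hab, rfl⟩ := this (Subring.mem_top y)
    exact ⟨b, hab⟩
  have hsurj2 : ∀ y : F, ∃ z, (z, y) ∈ S := fun y => by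
    have : Subring.closure ({lam} : Set F) ≤ S.map (RingHom.snd F F) := Subring.closure_le.2 fun z hz => by
      rw [Set.mem_singleton_iff] at hz; subst hz
      have hm : lam⁻¹ ∈ S.map (RingHom.snd F F) := ⟨_, hgS, rfl⟩
      have := Sp.inv_mem_subring _ hm
      rwa [inv_inv] at this
    rw [gen] at this
    obtain ⟨⟨a, b⟩, hab, rfl⟩ := this (Subring.mem_top y)
    exact ⟨a, hab⟩
  by_cases hker : ∃ y, y ≠ 0 ∧ ((0 : F), y) ∈ S
  · obtain ⟨y, hy, hyS⟩ := hker
    have all2 : ∀ b, ((0 : F), b) ∈ S := fun b => by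
      obtain ⟨z, hz⟩ := hsurj2 (b / y)
      have := S.mul_mem hz hyS
      rwa [Prod.mk_mul_mk, mul_zero, div_mul_cancel₀ _ hy] at this
    rw [eq_top_iff]
    rintro ⟨a, b⟩ -
    obtain ⟨z, hz⟩ := hsurj a
    have := S.add_mem hz (all2 (b - z))
    rwa [Prod.mk_add_mk, add_zero, add_sub_cancel] at this
  · exfalso
    let L : Subring F :=
      { carrier := {y | (y, y) ∈ S}
        one_mem' := S.one_mem
        mul_mem' := fun ha hb => by simpa using S.mul_mem ha hb
        zero_mem' := S.zero_mem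
        add_mem' := fun ha hb => by simpa using S.add_mem ha hb
        neg_mem' := fun ha => by simpa using S.neg_mem ha }
    have hswap : (lam⁻¹, lam) ∈ S := by
      obtain ⟨k, hk⟩ : ∃ k, Fintype.card F = k + 1 + 1 := ⟨Fintype.card F - 2, by omega⟩
      have hp : ∀ x : F, x ≠ 0 → x ^ k = x⁻¹ := fun x hx => eq_inv_of_mul_eq_one_left (by
        rw [← pow_succ, ← FiniteField.pow_card_sub_one_eq_one x hx, hk, Nat.add_sub_cancel])
      have := pow_mem hgS k
      rwa [Prod.pow_mk, hp _ hlam0, hp _ (inv_ne_zero hlam0), inv_inv] at this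
    have hz : lam + lam⁻¹ ∈ L := by
      have := S.add_mem hgS hswap
      rw [Prod.mk_add_mk, add_comm lam⁻¹ lam] at this
      exact this
    have hLtop : L ≠ ⊤ := fun e => hker ⟨lam - lam⁻¹, sub_ne_zero.2 hne, by
      have hh : lam ∈ L := by rw [e]; exact Subring.mem_top _
      have := S.sub_mem (show (lam, lam) ∈ S from hh) hgS
      rwa [Prod.mk_sub_mk, sub_self] at this⟩
    refine big L hLtop ?_
    letI : Field L := (Finite.isField_of_domain L).toField
    haveI : Fintype L := Fintype.ofFinite L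
    rw [Nat.card_eq_fintype_card]
    set l := Fintype.card L with hl
    have hzl : (lam + lam⁻¹) ^ l = lam + lam⁻¹ := by
      simpa using congrArg Subtype.val (FiniteField.pow_card (⟨_, hz⟩ : L))
    obtain ⟨p, hchar⟩ := CharP.exists L
    haveI : CharP F p := charP_of_injective_ringHom (f := L.subtype) Subtype.val_injective p
    obtain ⟨m, hp, hm⟩ := FiniteField.card L p
    haveI := Fact.mk hp
    rw [hl, hm, add_pow_char_pow, ← hm, ← hl, inv_pow] at hzl
    have hll : lam ^ l ≠ 0 := pow_ne_zero _ hlam0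
    have hprod : (lam ^ l - lam) * (lam ^ l * lam - 1) = 0 := by
      field_simp at hzl
      linear_combination hzl
    rcases mul_eq_zero.1 hprod with h | h
    · left
      have hl1 : 1 ≤ l := Fintype.card_pos
      refine mul_right_cancel₀ hlam0 ?_
      rw [← pow_succ, Nat.sub_add_cancel hl1, one_mul]
      exact sub_eq_zero.1 h
    · right
      rw [pow_succ]
      exact sub_eq_zero.1 h

/-- The general case. -/
theorem exists_pair_generic (h2 : 2 < Fintype.card F) (h3 : Fintype.card F ≠ 3) (h4 : Fintype.card F ≠ 4)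
    (h7 : Fintype.card F ≠ 7) (h16 : Fintype.card F ≠ 16) :
    ∃ u g : Matrix.SpecialLinearGroup (Fin 3) F, IsNilpotent ((u : Matrix (Fin 3) (Fin 3) F) - 1) ∧
      ((u : Matrix (Fin 3) (Fin 3) F) - 1) ^ (3 - 1) ≠ 0 ∧
      Subgroup.closure ({u, g * u * g⁻¹} : Set (Matrix.SpecialLinearGroup (Fin 3) F)) = ⊤ := by
  classical
  obtain ⟨γ, hγ⟩ := IsCyclic.exists_generator (α := Fˣ)
  have hμ : (γ : F) ≠ 0 := γ.ne_zero
  have hμ1 : (γ : F) ^ 2 ≠ 1 := fun e => by
    have hd := orderOf_dvd_of_pow_eq_one (show γ ^ 2 = 1 from Units.ext (by simpa using e))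
    rw [orderOf_eq_card_of_forall_mem_zpowers hγ, Nat.card_eq_fintype_card, Fintype.card_units] at hd
    have := Nat.le_of_dvd (by norm_num) hd
    omega
  refine exists_pair_of hμ hμ1 fun M hu hs => ?_
  obtain ⟨hd, -⟩ := sm_parts hμ hs
  let K : Subring (F × F) :=
    { carrier := {z | ∀ x ∈ pairs M, z * x ∈ pairs M}
      one_mem' := fun x hx => by rwa [one_mul]
      mul_mem' := fun {y z} hy hz x hx => by rw [mul_assoc]; exact hy _ (hz x hx)
      zero_mem' := fun x _ => by rw [zero_mul]; exact (pairs M).zero_mem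
      add_mem' := fun {y z} hy hz x hx => by rw [add_mul]; exact (pairs M).add_mem (hy x hx) (hz x hx)
      neg_mem' := fun {y} hy x hx => by rw [neg_mul]; exact (pairs M).neg_mem (hy x hx) }
  have hK : ∀ z, z ∈ K := fun z => by
    have hle : Subring.closure ({((γ : F) ^ 3, ((γ : F) ^ 3)⁻¹)} : Set (F × F)) ≤ K := Subring.closure_le.2 fun w hw => by
      rw [Set.mem_singleton_iff] at hw; subst hw
      intro x hx
      have := pairs_scale hμ (inv_ne_zero (pow_ne_zero _ hμ)) hμ hd hx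
      rw [show ((γ : F) ^ 3, ((γ : F) ^ 3)⁻¹) * x =
        ((γ : F) / ((γ : F) ^ 2)⁻¹ * x.1, ((γ : F) ^ 2)⁻¹ / (γ : F) * x.2) from
          Prod.ext (by simp only [Prod.fst_mul]; field_simp) (by simp only [Prod.snd_mul]; field_simp)]
      exact this
    rw [closure_pair_eq_top hγ h2 h3 h4 h7 h16] at hle
    exact hle (Subring.mem_top z)
  refine top_of_uu (uu_mem_of_pairs fun z => ?_) hs (by simp [sm])
  have := hK (z.1 / -xp (γ : F), z.2) (-xp (γ : F), 1) ⟨_, hu⟩
  rwa [Prod.mk_mul_mk, div_mul_cancel₀ _ (neg_ne_zero.2 (xp_ne hμ hμ1)), mul_one] at this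

/-- Transvections with one incidence: a criterion for a full centre. -/
theorem isFull_third {N : Subgroup (GL (Fin 3) F)} {g : GL (Fin 3) F} (hg : g ∈ N) {r : F} (hr : r ≠ 0)
    (hT : tv (ee 2) (r • LinearMap.proj 0) ∈ N) (hi : app g⁻¹ (ee 2) 0 = 0) (h02 : app g (ee 2) 0 ≠ 0)
    (h12 : app g (ee 2) 1 ≠ 0) (hi0 : app g⁻¹ (ee 0) 0 ≠ 0) (hi1 : app g⁻¹ (ee 1) 0 ≠ 0)
    {d : GL (Fin 3) F} (hd : d ∈ N) {μ β : F} (hd0 : app d⁻¹ (ee 0) = μ⁻¹ • ee 0) (hd1 : app d⁻¹ (ee 1) = β⁻¹ • ee 1)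
    (hd2 : app d (ee 2) = μ • ee 2) (hd2' : app d⁻¹ (ee 2) = μ⁻¹ • ee 2) (hμ : μ ≠ 0)
    (hgen : Subring.closure ({μ / β} : Set F) = ⊤) (hne : μ / β ≠ 1) : IsFull N (ee 2) := by
  set e : Fin 3 → F := ee 2 with he
  set p0 : (Fin 3 → F) →ₗ[F] F := LinearMap.proj 0
  set p1 : (Fin 3 → F) →ₗ[F] F := LinearMap.proj 1
  set ψ : (Fin 3 → F) →ₗ[F] F := p0.comp (app g⁻¹).toLinearMap with hψ
  have hψe : ψ e = 0 := hi
  have hp0e : p0 e = 0 := by simp [p0, he, ee]
  have hp1e : p1 e = 0 := by simp [p1, he, ee]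
  set c0 := app g⁻¹ (ee 0) 0
  set c1 := app g⁻¹ (ee 1) 0
  have hψeq : ψ = c0 • p0 + c1 • p1 := dual_ext_ee fun j => by
    fin_cases j
    · simp [hψ, p0, p1, ee, c0]
    · simp [hψ, p0, p1, ee, c1]
    · simpa [hψ, p0, p1, ee] using hi
  -- the transvection at the image of `e`
  have hH : tv (app g e) (r • ψ) ∈ N := by
    have := mul_mem (mul_mem hg hT) (inv_mem hg)
    rw [tv_conj (by simp [p0, he, ee]), LinearMap.smul_comp, ← hψ] at this
    exact this
  have hψge : ψ (app g e) = 0 := by simp [hψ, app_inv_app, hp0e]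
  -- a first transvection at `e` with axis `ψ`
  have hY : tv e ((r * app g e 0 * r) • ψ) ∈ N := by
    have := tv_comm_mem (v := app g e) (w := e) (φ := r • ψ) (ψ := r • p0) (by simp [hψge]) (by simp [hp0e])
      (by simp [hψe]) hH hT
    rwa [LinearMap.smul_apply, smul_eq_mul, smul_smul, show p0 (app g e) = app g e 0 from rfl] at this
  set R := r * app g e 0 * r with hR
  have hR0 : R ≠ 0 := mul_ne_zero (mul_ne_zero hr h02) hr
  -- conjugation by the diagonal element
  have dconj : ∀ a b : F, tv e (a • p0 + b • p1) ∈ N → tv e (a • p0 + (μ / β * b) • p1) ∈ N := by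
    intro a b h
    have := mul_mem (mul_mem hd h) (inv_mem hd)
    have h2 : (a • p0 + b • p1) (app d⁻¹ (ee 2)) = 0 := by
      rw [hd2', map_smul]; simp [p0, p1, he, ee]
    rw [tv_conj (by simp [hp0e, hp1e]), he, hd2,
      tv_smul (by simp only [LinearMap.comp_apply, LinearEquiv.coe_coe]; exact h2)] at this
    convert this using 2
    refine dual_ext_ee fun j => ?_
    obtain rfl | rfl | rfl : j = 0 ∨ j = 1 ∨ j = 2 := by fin_cases j <;> simp
    · rw [LinearMap.smul_apply, LinearMap.comp_apply, LinearEquiv.coe_coe, hd0, map_smul]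
      simp [p0, p1, ee]
      field_simp
    · rw [LinearMap.smul_apply, LinearMap.comp_apply, LinearEquiv.coe_coe, hd1, map_smul]
      simp [p0, p1, ee]
      field_simp
    · rw [LinearMap.smul_apply, LinearMap.comp_apply, LinearEquiv.coe_coe, h2]
      simp [p0, p1, ee]
  have hB : ∀ b : F, tv e (b • p1) ∈ N := by
    let K : AddSubgroup F :=
      { carrier := {b | tv e (b • p1) ∈ N}
        zero_mem' := by simp [tv_zero, one_mem]
        add_mem' := fun {a b} ha hb => by
          change tv e ((a + b) • p1) ∈ N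
          rw [add_smul, tv_add (by simp [hp1e]) (by simp [hp1e])]; exact mul_mem ha hb
        neg_mem' := fun {a} ha => by
          change tv e (-a • p1) ∈ N
          have : tv e (a • p1) * tv e (-a • p1) = 1 := by
            rw [← tv_add (by simp [hp1e]) (by simp [hp1e]), ← add_smul, add_neg_cancel, zero_smul, tv_zero]
          rw [← inv_eq_of_mul_eq_one_right this]; exact inv_mem ha }
    let S : Subring F :=
      { carrier := {y | ∀ b ∈ K, y * b ∈ K}
        one_mem' := fun a ha => by rwa [one_mul]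
        mul_mem' := fun {x y} hx hy a ha => by rw [mul_assoc]; exact hx _ (hy a ha)
        zero_mem' := fun a _ => by rw [zero_mul]; exact K.zero_mem
        add_mem' := fun {x y} hx hy a ha => by rw [add_mul]; exact K.add_mem (hx a ha) (hy a ha)
        neg_mem' := fun {x} hx a ha => by rw [neg_mul]; exact K.neg_mem (hx a ha) }
    have hS : ∀ y, y ∈ S := fun y => by
      have hle : Subring.closure ({μ / β} : Set F) ≤ S := Subring.closure_le.2 fun z hz => by
        rw [Set.mem_singleton_iff] at hz; subst hz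
        intro b hb
        have := dconj 0 b (by rw [zero_smul, zero_add]; exact hb)
        rwa [zero_smul, zero_add] at this
      rw [hgen] at hle
      exact hle (Subring.mem_top y)
    have h0 : R * c1 * (μ / β - 1) ∈ K := by
      rw [hψeq, smul_add, smul_smul, smul_smul] at hY
      have h := mul_mem (dconj _ _ hY) (inv_mem hY)
      change tv e ((R * c1 * (μ / β - 1)) • p1) ∈ N
      have e1 : tv e ((R * c1 * (μ / β - 1)) • p1) * tv e ((R * c0) • p0 + (R * c1) • p1) =
          tv e ((R * c0) • p0 + (μ / β * (R * c1)) • p1) := by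
        rw [← tv_add (by simp [hp1e]) (by simp [hp0e, hp1e])]
        congr 1
        module
      rwa [← eq_mul_inv_of_mul_eq e1] at h
    intro b
    have hne' : R * c1 * (μ / β - 1) ≠ 0 := mul_ne_zero (mul_ne_zero hR0 hi1) (sub_ne_zero.2 hne)
    have := hS (b / (R * c1 * (μ / β - 1))) _ h0
    rwa [div_mul_cancel₀ _ hne'] at this
  have hψax : ψ ∈ axes N e := ⟨hψe, fun t => by
    have := tv_comm_mem (v := app g e) (w := e) (φ := r • ψ) (ψ := (t / (r * app g e 1)) • p1) (by simp [hψge])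
      (by simp [hp1e]) (by simp [hψe]) hH (hB _)
    rwa [LinearMap.smul_apply, smul_eq_mul, smul_smul, show p1 (app g e) = app g e 1 from rfl,
      show t / (r * app g e 1) * app g e 1 * r = t by field_simp] at this⟩
  have hp1ax : p1 ∈ axes N e := ⟨hp1e, hB⟩
  have hp0ax : p0 ∈ axes N e := by
    have := Submodule.smul_mem _ c0⁻¹ (Submodule.sub_mem _ hψax (Submodule.smul_mem _ c1 hp1ax))
    rwa [hψeq, add_sub_cancel_right, smul_smul, inv_mul_cancel₀ hi0, one_smul] at this
  intro χ hχ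
  have hχe : χ (ee 2) = 0 := hχ
  have : χ = χ (ee 0) • p0 + χ (ee 1) • p1 := dual_ext_ee fun j => by
    fin_cases j
    · simp [p0, p1, ee]
    · simp [p0, p1, ee]
    · simpa [p0, p1, ee] using hχe
  rw [this]
  exact Submodule.add_mem _ (Submodule.smul_mem _ _ hp0ax) (Submodule.smul_mem _ _ hp1ax)

end Cfsg.Agent.RegUnip.SL3
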