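/-
SL_3 over the fields with 2, 3, 4, 7 elements, by explicit words.
Main results (namespace `Cfsg.Agent.RegUnip.SL3`): `exists_pair_two`, `exists_pair_three`, `exists_pair_four`, `exists_pair_seven`.
-/
import Cfsg.Agent.Lib.RegUnip.SL3Main

set_option autoImplicit false
set_option linter.unusedSectionVars false

namespace Cfsg.Agent.RegUnip.SL3

open Matrix
open scoped MatrixGroups

variable {F : Type*} [Field F] [Fintype F]

theorem ne_zero_of_mul_eq_one {a b : F} (h : a * b = 1) : a ≠ 0 := fun e => zero_ne_one (α := F) (by rw [← h, e, zero_mul])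

theorem subring_eq_top_of_prime {p : ℕ} (hp : p.Prime) (hF : Fintype.card F = p) (K : Subring F) : K = ⊤ := by
  classical
  have h1 := AddSubgroup.card_addSubgroup_dvd_card K.toAddSubgroup
  rw [Nat.card_eq_fintype_card (α := F), hF] at h1
  rcases (Nat.dvd_prime hp).1 h1 with h | h
  · exfalso
    have hb := AddSubgroup.eq_bot_of_card_eq _ h
    have : (1 : F) ∈ K.toAddSubgroup := K.one_mem
    rw [hb, AddSubgroup.mem_bot] at this
    exact one_ne_zero this
  · have ht := AddSubgroup.eq_top_of_card_eq K.toAddSubgroup (by rw [h, Nat.card_eq_fintype_card, hF])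
    rw [eq_top_iff]
    intro x _
    have hx : x ∈ K.toAddSubgroup := by rw [ht]; trivial
    exact hx

theorem conj_mem {G Gi U GU V : Matrix (Fin 3) (Fin 3) F} (u g : Matrix.SpecialLinearGroup (Fin 3) F)
    (hu : (u : Matrix (Fin 3) (Fin 3) F) = U) (hg : (g : Matrix (Fin 3) (Fin 3) F) = G) (hgi : G * Gi = 1)
    (h1 : G * U = GU) (h2 : GU * Gi = V) : InM (Subgroup.closure ({u, g * u * g⁻¹} : Set (Matrix.SpecialLinearGroup (Fin 3) F))) V := by
  refine ⟨g * u * g⁻¹, Subgroup.subset_closure (Or.inr rfl), ?_⟩
  have hi : ((g⁻¹ : Matrix.SpecialLinearGroup (Fin 3) F) : Matrix (Fin 3) (Fin 3) F) = Gi := by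
    refine left_inv_eq_right_inv (a := G) ?_ hgi
    rw [← hg, ← Matrix.SpecialLinearGroup.coe_mul, inv_mul_cancel, Matrix.SpecialLinearGroup.coe_one]
  rw [Matrix.SpecialLinearGroup.coe_mul, Matrix.SpecialLinearGroup.coe_mul, hi, hu, hg, h1, h2]

/-- The conclusion. -/
def Pair (F : Type*) [Field F] : Prop :=
  ∃ u g : Matrix.SpecialLinearGroup (Fin 3) F, IsNilpotent ((u : Matrix (Fin 3) (Fin 3) F) - 1) ∧
    ((u : Matrix (Fin 3) (Fin 3) F) - 1) ^ (3 - 1) ≠ 0 ∧
    Subgroup.closure ({u, g * u * g⁻¹} : Set (Matrix.SpecialLinearGroup (Fin 3) F)) = ⊤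

theorem exists_pair_two (hF : Fintype.card F = 2) : Pair F := by
  have hchar : (2 : F) = 0 := by
    have h : ((Fintype.card F : ℕ) : F) = 0 := FiniteField.cast_card_eq_zero F
    rw [hF] at h
    push_cast at h
    exact h
  let u : Matrix.SpecialLinearGroup (Fin 3) F := ⟨uu 1 1 0, by
    exact uu_det _ _ _⟩
  have hgd : (!![0, 0, 1; 1, 0, 0; 1, 1, 0] : Matrix (Fin 3) (Fin 3) F).det = 1 := by
    simp [Matrix.det_fin_three]
    all_goals ring
  let g : Matrix.SpecialLinearGroup (Fin 3) F := ⟨_, hgd⟩
  refine ⟨u, g, (uu_regular one_ne_zero one_ne_zero).1, (uu_regular one_ne_zero one_ne_zero).2, ?_⟩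
  set M := Subgroup.closure ({u, g * u * g⁻¹} : Set (Matrix.SpecialLinearGroup (Fin 3) F))
  have iu : InM M !![1, 1, 0; 0, 1, 1; 0, 0, 1] := ⟨u, Subgroup.subset_closure (Or.inl rfl), rfl⟩
  have egi : (!![0, 0, 1; 1, 0, 0; 1, 1, 0] : Matrix (Fin 3) (Fin 3) F) * !![0, 1, 0; 0, 1, 1; 1, 0, 0] = 1 := (mm_eq (by ring)
      (by ring)
      (by ring)
      (by ring)
      (by ring)
      (by ring)
      (by ring)
      (by linear_combination 1 * hchar)
      (by ring)).trans one_eq
  have egu : (!![0, 0, 1; 1, 0, 0; 1, 1, 0] : Matrix (Fin 3) (Fin 3) F) * !![1, 1, 0; 0, 1, 1; 0, 0, 1] = !![0, 0, 1; 1, 1, 0; 1, 0, 1] := mm_eq (by ring)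
      (by ring)
      (by ring)
      (by ring)
      (by ring)
      (by ring)
      (by ring)
      (by linear_combination 1 * hchar)
      (by ring)
  have iv : InM M !![1, 0, 0; 0, 0, 1; 1, 1, 0] := conj_mem u g rfl rfl egi egu (mm_eq (by ring)
      (by ring)
      (by ring)
      (by ring)
      (by linear_combination 1 * hchar)
      (by ring)
      (by ring)
      (by ring)
      (by ring))
  have iU : InM M !![1, 1, 1; 0, 1, 1; 0, 0, 1] := iu.inv ((mm_eq (by ring)
      (by linear_combination 1 * hchar)
      (by linear_combination 1 * hchar)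
      (by ring)
      (by ring)
      (by linear_combination 1 * hchar)
      (by ring)
      (by ring)
      (by ring)).trans one_eq)
  have iV : InM M !![1, 0, 0; 1, 0, 1; 0, 1, 0] := iv.inv ((mm_eq (by ring)
      (by ring)
      (by ring)
      (by ring)
      (by ring)
      (by ring)
      (by linear_combination 1 * hchar)
      (by ring)
      (by ring)).trans one_eq)
  have a0 : InM M !![1, 0, 0; 0, 0, 1; 1, 1, 0] := iv
  have a1 : InM M !![1, 1, 0; 0, 0, 1; 1, 0, 1] := InM.step a0 iu (mm_eq (by ring)
      (by ring)
      (by ring)
      (by ring)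
      (by ring)
      (by ring)
      (by ring)
      (by linear_combination 1 * hchar)
      (by ring))
  have a2 : InM M !![1, 0, 1; 0, 0, 1; 1, 1, 1] := InM.step a1 iu (mm_eq (by ring)
      (by linear_combination 1 * hchar)
      (by ring)
      (by ring)
      (by ring)
      (by ring)
      (by ring)
      (by ring)
      (by ring))
  have a3 : InM M !![0, 1, 0; 1, 1, 0; 0, 1, 1] := InM.step a2 iv (mm_eq (by linear_combination 1 * hchar)
      (by ring)
      (by ring)
      (by ring)
      (by ring)
      (by ring)
      (by linear_combination 1 * hchar)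
      (by ring)
      (by ring))
  have a4 : InM M !![0, 1, 1; 1, 0, 1; 0, 1, 0] := InM.step a3 iu (mm_eq (by ring)
      (by ring)
      (by ring)
      (by ring)
      (by linear_combination 1 * hchar)
      (by ring)
      (by ring)
      (by ring)
      (by linear_combination 1 * hchar))
  have a5 : InM M !![1, 1, 1; 0, 1, 0; 0, 0, 1] := InM.step a4 iv (mm_eq (by ring)
      (by ring)
      (by ring)
      (by linear_combination 1 * hchar)
      (by ring)
      (by ring)
      (by ring)
      (by ring)
      (by ring))
  have b0 : InM M !![1, 0, 0; 0, 0, 1; 1, 1, 0] := iv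
  have b1 : InM M !![1, 1, 0; 0, 0, 1; 1, 0, 1] := InM.step b0 iu (mm_eq (by ring)
      (by ring)
      (by ring)
      (by ring)
      (by ring)
      (by ring)
      (by ring)
      (by linear_combination 1 * hchar)
      (by ring))
  have b2 : InM M !![1, 0, 1; 1, 1, 0; 0, 1, 0] := InM.step b1 iv (mm_eq (by ring)
      (by ring)
      (by ring)
      (by ring)
      (by ring)
      (by ring)
      (by linear_combination 1 * hchar)
      (by ring)
      (by ring))
  have b3 : InM M !![1, 1, 1; 1, 0, 1; 0, 1, 1] := InM.step b2 iu (mm_eq (by ring)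
      (by ring)
      (by ring)
      (by ring)
      (by linear_combination 1 * hchar)
      (by ring)
      (by ring)
      (by ring)
      (by ring))
  have b4 : InM M !![1, 0, 0; 1, 1, 1; 0, 1, 0] := InM.step b3 iu (mm_eq (by ring)
      (by linear_combination 1 * hchar)
      (by linear_combination 1 * hchar)
      (by ring)
      (by ring)
      (by ring)
      (by ring)
      (by ring)
      (by linear_combination 1 * hchar))
  have b5 : InM M !![1, 0, 0; 0, 1, 1; 0, 0, 1] := InM.step b4 iv (mm_eq (by ring)
      (by ring)
      (by ring)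
      (by linear_combination 1 * hchar)
      (by ring)
      (by ring)
      (by ring)
      (by ring)
      (by ring))
  have ih : InM M !![1, 0, 0; 0, 1, 0; 0, 0, 1] := by rw [one_eq]; exact InM.one
  have p12 : (1, (0 : F)) ∈ pairs M := ⟨1, by simpa [uu] using a5⟩
  have p23 : ((0 : F), 1) ∈ pairs M := ⟨0, by simpa [uu] using b5⟩
  refine top_of_stable (ne_zero_of_mul_eq_one (b := 1) (by ring)) (ne_zero_of_mul_eq_one (b := 1) (by ring)) (ne_zero_of_mul_eq_one (b := 1) (by ring)) ih (subring_eq_top_of_prime (p := 2) (by norm_num) hF _) (subring_eq_top_of_prime (p := 2) (by norm_num) hF _) (ne_zero_of_mul_eq_one (b := 1) (by ring)) p12 (ne_zero_of_mul_eq_one (b := 1) (by ring)) p23 iv ?_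
  simp

theorem exists_pair_three (hF : Fintype.card F = 3) : Pair F := by
  have hchar : (3 : F) = 0 := by
    have h : ((Fintype.card F : ℕ) : F) = 0 := FiniteField.cast_card_eq_zero F
    rw [hF] at h
    push_cast at h
    exact h
  let u : Matrix.SpecialLinearGroup (Fin 3) F := ⟨uu 1 1 0, by
    exact uu_det _ _ _⟩
  have hgd : (!![2, 2, 2; 1, 0, 2; 1, 0, 0] : Matrix (Fin 3) (Fin 3) F).det = 1 := by
    simp [Matrix.det_fin_three]
    all_goals linear_combination 1 * hchar
  let g : Matrix.SpecialLinearGroup (Fin 3) F := ⟨_, hgd⟩
  refine ⟨u, g, (uu_regular one_ne_zero one_ne_zero).1, (uu_regular one_ne_zero one_ne_zero).2, ?_⟩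
  set M := Subgroup.closure ({u, g * u * g⁻¹} : Set (Matrix.SpecialLinearGroup (Fin 3) F))
  have iu : InM M !![1, 1, 0; 0, 1, 1; 0, 0, 1] := ⟨u, Subgroup.subset_closure (Or.inl rfl), rfl⟩
  have egi : (!![2, 2, 2; 1, 0, 2; 1, 0, 0] : Matrix (Fin 3) (Fin 3) F) * !![0, 0, 1; 2, 1, 1; 0, 2, 1] = 1 := (mm_eq (by linear_combination 1 * hchar)
      (by linear_combination 2 * hchar)
      (by linear_combination 2 * hchar)
      (by ring)
      (by linear_combination 1 * hchar)
      (by linear_combination 1 * hchar)
      (by ring)
      (by ring)
      (by ring)).trans one_eq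
  have egu : (!![2, 2, 2; 1, 0, 2; 1, 0, 0] : Matrix (Fin 3) (Fin 3) F) * !![1, 1, 0; 0, 1, 1; 0, 0, 1] = !![2, 1, 1; 1, 1, 2; 1, 1, 0] := mm_eq (by ring)
      (by linear_combination 1 * hchar)
      (by linear_combination 1 * hchar)
      (by ring)
      (by ring)
      (by ring)
      (by ring)
      (by ring)
      (by ring)
  have iv : InM M !![2, 0, 1; 2, 2, 1; 2, 1, 2] := conj_mem u g rfl rfl egi egu (mm_eq (by ring)
      (by linear_combination 1 * hchar)
      (by linear_combination 1 * hchar)
      (by ring)
      (by linear_combination 1 * hchar)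
      (by linear_combination 1 * hchar)
      (by ring)
      (by ring)
      (by ring))
  have iU : InM M !![1, 2, 1; 0, 1, 2; 0, 0, 1] := iu.inv ((mm_eq (by ring)
      (by linear_combination 1 * hchar)
      (by linear_combination 1 * hchar)
      (by ring)
      (by ring)
      (by linear_combination 1 * hchar)
      (by ring)
      (by ring)
      (by ring)).trans one_eq)
  have iV : InM M !![0, 1, 1; 1, 2, 0; 1, 1, 1] := iv.inv ((mm_eq (by ring)
      (by linear_combination 1 * hchar)
      (by linear_combination 1 * hchar)
      (by linear_combination 1 * hchar)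
      (by linear_combination 2 * hchar)
      (by linear_combination 1 * hchar)
      (by linear_combination 1 * hchar)
      (by linear_combination 2 * hchar)
      (by linear_combination 1 * hchar)).trans one_eq)
  have a0 : InM M !![0, 1, 1; 1, 2, 0; 1, 1, 1] := iV
  have a1 : InM M !![0, 1, 2; 1, 0, 2; 1, 2, 2] := InM.step a0 iu (mm_eq (by ring)
      (by ring)
      (by ring)
      (by ring)
      (by linear_combination 1 * hchar)
      (by ring)
      (by ring)
      (by ring)
      (by ring))
  have a2 : InM M !![0, 1, 2; 0, 2, 2; 1, 0, 1] := InM.step a1 iv (mm_eq (by linear_combination 2 * hchar)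
      (by linear_combination 1 * hchar)
      (by linear_combination 1 * hchar)
      (by linear_combination 2 * hchar)
      (by ring)
      (by linear_combination 1 * hchar)
      (by linear_combination 3 * hchar)
      (by linear_combination 2 * hchar)
      (by linear_combination 2 * hchar))
  have a3 : InM M !![0, 1, 1; 0, 2, 0; 1, 2, 2] := InM.step a2 iU (mm_eq (by ring)
      (by ring)
      (by linear_combination 1 * hchar)
      (by ring)
      (by ring)
      (by linear_combination 2 * hchar)
      (by ring)
      (by ring)
      (by ring))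
  have a4 : InM M !![1, 0, 0; 1, 1, 2; 1, 0, 1] := InM.step a3 iv (mm_eq (by linear_combination 1 * hchar)
      (by linear_combination 1 * hchar)
      (by linear_combination 1 * hchar)
      (by linear_combination 1 * hchar)
      (by linear_combination 1 * hchar)
      (by ring)
      (by linear_combination 3 * hchar)
      (by linear_combination 2 * hchar)
      (by linear_combination 2 * hchar))
  have a5 : InM M !![1, 1, 0; 1, 2, 0; 1, 1, 1] := InM.step a4 iu (mm_eq (by ring)
      (by ring)
      (by ring)
      (by ring)
      (by ring)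
      (by linear_combination 1 * hchar)
      (by ring)
      (by ring)
      (by ring))
  have a6 : InM M !![1, 2, 2; 0, 1, 0; 0, 0, 1] := InM.step a5 iv (mm_eq (by linear_combination 1 * hchar)
      (by ring)
      (by ring)
      (by linear_combination 2 * hchar)
      (by linear_combination 1 * hchar)
      (by linear_combination 1 * hchar)
      (by linear_combination 2 * hchar)
      (by linear_combination 1 * hchar)
      (by linear_combination 1 * hchar))
  have b0 : InM M !![1, 1, 0; 0, 1, 1; 0, 0, 1] := iu
  have b1 : InM M !![1, 0, 1; 2, 0, 1; 1, 1, 1] := InM.step b0 iV (mm_eq (by ring)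
      (by linear_combination 1 * hchar)
      (by ring)
      (by ring)
      (by linear_combination 1 * hchar)
      (by ring)
      (by ring)
      (by ring)
      (by ring))
  have b2 : InM M !![1, 1, 1; 2, 2, 1; 1, 2, 2] := InM.step b1 iu (mm_eq (by ring)
      (by ring)
      (by ring)
      (by ring)
      (by ring)
      (by ring)
      (by ring)
      (by ring)
      (by ring))
  have b3 : InM M !![0, 0, 1; 1, 2, 0; 1, 0, 1] := InM.step b2 iv (mm_eq (by linear_combination 2 * hchar)
      (by linear_combination 1 * hchar)
      (by linear_combination 1 * hchar)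
      (by linear_combination 3 * hchar)
      (by linear_combination 1 * hchar)
      (by linear_combination 2 * hchar)
      (by linear_combination 3 * hchar)
      (by linear_combination 2 * hchar)
      (by linear_combination 2 * hchar))
  have b4 : InM M !![0, 0, 1; 1, 1, 2; 1, 2, 2] := InM.step b3 iU (mm_eq (by ring)
      (by ring)
      (by ring)
      (by ring)
      (by linear_combination 1 * hchar)
      (by linear_combination 1 * hchar)
      (by ring)
      (by ring)
      (by ring))
  have b5 : InM M !![2, 1, 2; 2, 1, 0; 1, 0, 1] := InM.step b4 iv (mm_eq (by ring)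
      (by ring)
      (by ring)
      (by linear_combination 2 * hchar)
      (by linear_combination 1 * hchar)
      (by linear_combination 2 * hchar)
      (by linear_combination 3 * hchar)
      (by linear_combination 2 * hchar)
      (by linear_combination 2 * hchar))
  have b6 : InM M !![2, 0, 0; 2, 0, 1; 1, 1, 1] := InM.step b5 iu (mm_eq (by ring)
      (by linear_combination 1 * hchar)
      (by linear_combination 1 * hchar)
      (by ring)
      (by linear_combination 1 * hchar)
      (by ring)
      (by ring)
      (by ring)
      (by ring))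
  have b7 : InM M !![1, 0, 2; 0, 1, 1; 0, 0, 1] := InM.step b6 iv (mm_eq (by linear_combination 1 * hchar)
      (by ring)
      (by ring)
      (by linear_combination 2 * hchar)
      (by ring)
      (by linear_combination 1 * hchar)
      (by linear_combination 2 * hchar)
      (by linear_combination 1 * hchar)
      (by linear_combination 1 * hchar))
  have ih : InM M !![1, 0, 0; 0, 1, 0; 0, 0, 1] := by rw [one_eq]; exact InM.one
  have p12 : (2, (0 : F)) ∈ pairs M := ⟨2, by simpa [uu] using a6⟩
  have p23 : ((0 : F), 1) ∈ pairs M := ⟨2, by simpa [uu] using b7⟩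
  refine top_of_stable (ne_zero_of_mul_eq_one (b := 1) (by ring)) (ne_zero_of_mul_eq_one (b := 1) (by ring)) (ne_zero_of_mul_eq_one (b := 1) (by ring)) ih (subring_eq_top_of_prime (p := 3) (by norm_num) hF _) (subring_eq_top_of_prime (p := 3) (by norm_num) hF _) (ne_zero_of_mul_eq_one (b := 2) (by linear_combination 1 * hchar)) p12 (ne_zero_of_mul_eq_one (b := 1) (by ring)) p23 iv ?_
  simp
  all_goals exact ne_zero_of_mul_eq_one (b := 2) (by linear_combination 1 * hchar)

theorem exists_pair_four (hF : Fintype.card F = 4) : Pair F := by
  have hchar : (2 : F) = 0 := by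
    have h : ((Fintype.card F : ℕ) : F) = 0 := FiniteField.cast_card_eq_zero F
    rw [hF] at h
    push_cast at h
    exact mul_self_eq_zero.1 (by linear_combination h)
  classical
  obtain ⟨γ, hγ⟩ := IsCyclic.exists_generator (α := Fˣ)
  have hord : orderOf γ = 3 := by
    rw [orderOf_eq_card_of_forall_mem_zpowers hγ, Nat.card_eq_fintype_card, Fintype.card_units, hF]
  set w : F := (γ : F) with hw
  have hmod : w ^ 2 + w + 1 = 0 := by
    have h3 : w ^ 3 = 1 := by rw [hw, ← Units.val_pow_eq_pow_val, ← hord, pow_orderOf_eq_one, Units.val_one]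
    have h1 : w - 1 ≠ 0 := fun h => by
      have : γ = 1 := Units.ext (sub_eq_zero.1 h)
      rw [this, orderOf_one] at hord
      omega
    exact (mul_eq_zero.1 (show (w - 1) * (w ^ 2 + w + 1) = 0 by linear_combination h3)).resolve_left h1
  have hg : ∀ x : F, x = w ∨ x = 1 + w → Subring.closure ({x} : Set F) = ⊤ := by
    intro x hx
    rw [eq_top_iff, ← Sp.closure_gen_eq_top hγ, Subring.closure_le]
    rintro z rfl
    rcases hx with rfl | rfl
    · exact Subring.subset_closure rfl
    · have := Subring.sub_mem _ (Subring.subset_closure (Set.mem_singleton (1 + w))) (Subring.one_mem _)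
      simpa using this
  let u : Matrix.SpecialLinearGroup (Fin 3) F := ⟨uu 1 1 0, by
    exact uu_det _ _ _⟩
  have hgd : (!![1 + w, 0, 0; w, 1, w; 1 + w, 0, w] : Matrix (Fin 3) (Fin 3) F).det = 1 := by
    simp [Matrix.det_fin_three]
    all_goals linear_combination 1 * hmod + (-1) * hchar
  let g : Matrix.SpecialLinearGroup (Fin 3) F := ⟨_, hgd⟩
  refine ⟨u, g, (uu_regular one_ne_zero one_ne_zero).1, (uu_regular one_ne_zero one_ne_zero).2, ?_⟩
  set M := Subgroup.closure ({u, g * u * g⁻¹} : Set (Matrix.SpecialLinearGroup (Fin 3) F))
  have iu : InM M !![1, 1, 0; 0, 1, 1; 0, 0, 1] := ⟨u, Subgroup.subset_closure (Or.inl rfl), rfl⟩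
  have egi : (!![1 + w, 0, 0; w, 1, w; 1 + w, 0, w] : Matrix (Fin 3) (Fin 3) F) * !![w, 0, 0; w, 1, 1; 1 + w, 0, 1 + w] = 1 := (mm_eq (by linear_combination 1 * hmod + (-1) * hchar)
      (by ring)
      (by ring)
      (by linear_combination 2 * hmod + (-1) * hchar)
      (by ring)
      (by linear_combination 1 * hmod)
      (by linear_combination 2 * hmod + (-1) * hchar)
      (by ring)
      (by linear_combination 1 * hmod + (-1) * hchar)).trans one_eq
  have egu : (!![1 + w, 0, 0; w, 1, w; 1 + w, 0, w] : Matrix (Fin 3) (Fin 3) F) * !![1, 1, 0; 0, 1, 1; 0, 0, 1] = !![1 + w, 1 + w, 0; w, 1 + w, 1 + w; 1 + w, 1 + w, w] := mm_eq (by ring)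
      (by ring)
      (by ring)
      (by ring)
      (by ring)
      (by ring)
      (by ring)
      (by ring)
      (by ring)
  have iv : InM M !![0, 1 + w, 1 + w; 0, 1 + w, 1; 1, 1 + w, w] := conj_mem u g rfl rfl egi egu (mm_eq (by linear_combination 2 * hmod + (-1) * hchar)
      (by ring)
      (by ring)
      (by linear_combination 3 * hmod + (-1) * hchar)
      (by ring)
      (by linear_combination 1 * hmod + w * hchar)
      (by linear_combination 3 * hmod + (-2) * hchar)
      (by ring)
      (by linear_combination 1 * hmod))
  have iU : InM M !![1, 1, 1; 0, 1, 1; 0, 0, 1] := iu.inv ((mm_eq (by ring)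
      (by linear_combination 1 * hchar)
      (by linear_combination 1 * hchar)
      (by ring)
      (by ring)
      (by linear_combination 1 * hchar)
      (by ring)
      (by ring)
      (by ring)).trans one_eq)
  have iV : InM M !![w, 1 + w, 1; 1, 1 + w, 0; 1 + w, 1 + w, 0] := iv.inv ((mm_eq (by linear_combination 1 * hmod + w * hchar)
      (by linear_combination 2 * hmod + w * hchar)
      (by ring)
      (by linear_combination (1 + w) * hchar)
      (by linear_combination 1 * hmod + w * hchar)
      (by ring)
      (by linear_combination 1 * hmod + w * hchar)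
      (by linear_combination 2 * hmod + w * hchar)
      (by ring)).trans one_eq)
  have a0 : InM M !![0, 1 + w, 1 + w; 0, 1 + w, 1; 1, 1 + w, w] := iv
  have a1 : InM M !![0, 1 + w, 0; 0, 1 + w, w; 1, w, 0] := InM.step a0 iU (mm_eq (by ring)
      (by ring)
      (by linear_combination (1 + w) * hchar)
      (by ring)
      (by ring)
      (by linear_combination 1 * hchar)
      (by ring)
      (by linear_combination 1 * hchar)
      (by linear_combination (1 + w) * hchar))
  have a2 : InM M !![0, w, 1 + w; w, 1 + w, 0; 0, w, 1] := InM.step a1 iv (mm_eq (by ring)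
      (by linear_combination 1 * hmod)
      (by ring)
      (by ring)
      (by linear_combination 2 * hmod + (-1) * hchar)
      (by linear_combination 1 * hmod)
      (by ring)
      (by linear_combination 1 * hmod)
      (by linear_combination w * hchar))
  have a3 : InM M !![1 + w, 1 + w, 1 + w; 0, 1 + w, w; 1, w, 0] := InM.step a2 iv (mm_eq (by ring)
      (by linear_combination 2 * hmod + (-1) * hchar)
      (by linear_combination 1 * hmod + (-1) * hchar)
      (by ring)
      (by linear_combination 2 * hmod + (-1) * hchar)
      (by linear_combination 1 * hmod)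
      (by ring)
      (by linear_combination 1 * hmod)
      (by linear_combination w * hchar))
  have a4 : InM M !![1 + w, 0, 0; 0, 1 + w, 1; 1, 1 + w, w] := InM.step a3 iu (mm_eq (by ring)
      (by linear_combination (1 + w) * hchar)
      (by linear_combination (1 + w) * hchar)
      (by ring)
      (by ring)
      (by linear_combination w * hchar)
      (by ring)
      (by ring)
      (by ring))
  have a5 : InM M !![1, w, 1 + w; 0, 1, 0; 0, 0, 1] := InM.step a4 iV (mm_eq (by linear_combination 1 * hmod + (-1) * hchar)
      (by linear_combination 1 * hmod)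
      (by ring)
      (by linear_combination (1 + w) * hchar)
      (by linear_combination 1 * hmod + w * hchar)
      (by ring)
      (by linear_combination 1 * hmod + w * hchar)
      (by linear_combination 2 * hmod + w * hchar)
      (by ring))
  have b0 : InM M !![w, 1 + w, 1; 1, 1 + w, 0; 1 + w, 1 + w, 0] := iV
  have b1 : InM M !![w, 1, w; 1, w, 1 + w; 1 + w, 0, 1 + w] := InM.step b0 iu (mm_eq (by ring)
      (by linear_combination w * hchar)
      (by linear_combination 1 * hchar)
      (by ring)
      (by linear_combination 1 * hchar)
      (by ring)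
      (by ring)
      (by linear_combination (1 + w) * hchar)
      (by ring))
  have b2 : InM M !![w, 1 + w, 1 + w; 1 + w, 0, 0; 1 + w, 0, 1 + w] := InM.step b1 iv (mm_eq (by ring)
      (by linear_combination 2 * hmod + (-1) * hchar)
      (by linear_combination 2 * hmod + (-1 - w) * hchar)
      (by ring)
      (by linear_combination 2 * hmod + w * hchar)
      (by linear_combination 1 * hmod + w * hchar)
      (by ring)
      (by linear_combination 2 * hmod + w * hchar)
      (by linear_combination 2 * hmod + (-1) * hchar))
  have b3 : InM M !![1 + w, 1, 1 + w; 0, w, w; 1 + w, 0, 1 + w] := InM.step b2 iv (mm_eq (by ring)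
      (by linear_combination 3 * hmod + (-1 + w) * hchar)
      (by linear_combination 2 * hmod + (-1) * hchar)
      (by ring)
      (by linear_combination 1 * hmod)
      (by linear_combination 1 * hmod)
      (by ring)
      (by linear_combination 2 * hmod + w * hchar)
      (by linear_combination 2 * hmod + (-1) * hchar))
  have b4 : InM M !![1 + w, w, 1; 0, w, 0; 1 + w, 1 + w, 0] := InM.step b3 iU (mm_eq (by ring)
      (by linear_combination 1 * hchar)
      (by linear_combination (1 + w) * hchar)
      (by ring)
      (by ring)
      (by linear_combination w * hchar)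
      (by ring)
      (by ring)
      (by linear_combination (1 + w) * hchar))
  have b5 : InM M !![1, 0, w; 0, 1, w; 0, 0, 1] := InM.step b4 iv (mm_eq (by ring)
      (by linear_combination 2 * hmod + w * hchar)
      (by linear_combination 1 * hmod + w * hchar)
      (by ring)
      (by linear_combination 1 * hmod + (-1) * hchar)
      (by ring)
      (by ring)
      (by linear_combination 2 * hmod + w * hchar)
      (by linear_combination 1 * hmod + w * hchar))
  have h0 : InM M !![0, 1 + w, 1 + w; 0, 1 + w, 1; 1, 1 + w, w] := iv
  have h1 : InM M !![0, 1 + w, 0; 0, 1 + w, w; 1, w, 1] := InM.step h0 iu (mm_eq (by ring)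
      (by ring)
      (by linear_combination (1 + w) * hchar)
      (by ring)
      (by ring)
      (by linear_combination 1 * hchar)
      (by ring)
      (by linear_combination 1 * hchar)
      (by linear_combination w * hchar))
  have h2 : InM M !![1 + w, w, 0; w, 1 + w, 0; 1 + w, 1, 1] := InM.step h1 iV (mm_eq (by ring)
      (by linear_combination 1 * hmod)
      (by ring)
      (by linear_combination 1 * hmod)
      (by linear_combination 2 * hmod + (-1) * hchar)
      (by ring)
      (by linear_combination w * hchar)
      (by linear_combination 1 * hmod + w * hchar)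
      (by ring))
  have h3 : InM M !![1 + w, 1, w; w, 1, 1 + w; 1 + w, w, 0] := InM.step h2 iu (mm_eq (by ring)
      (by linear_combination w * hchar)
      (by ring)
      (by ring)
      (by linear_combination w * hchar)
      (by ring)
      (by ring)
      (by linear_combination 1 * hchar)
      (by linear_combination 1 * hchar))
  have h4 : InM M !![1, 0, 1 + w; 0, 0, w; 1 + w, 1 + w, 1 + w] := InM.step h3 iV (mm_eq (by linear_combination 2 * hmod + (-1) * hchar)
      (by linear_combination 2 * hmod + w * hchar)
      (by ring)
      (by linear_combination 2 * hmod)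
      (by linear_combination 2 * hmod + w * hchar)
      (by ring)
      (by linear_combination 1 * hmod + (-1) * hchar)
      (by linear_combination 2 * hmod + (-1) * hchar)
      (by ring))
  have h5 : InM M !![1, 1, w; 0, 0, w; 1 + w, 0, 1 + w] := InM.step h4 iU (mm_eq (by ring)
      (by ring)
      (by linear_combination 1 * hchar)
      (by ring)
      (by ring)
      (by ring)
      (by ring)
      (by linear_combination (1 + w) * hchar)
      (by linear_combination (1 + w) * hchar))
  have h6 : InM M !![w, 1, 1; w, 1, 1 + w; 1 + w, 0, 1 + w] := InM.step h5 iv (mm_eq (by ring)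
      (by linear_combination 1 * hmod + w * hchar)
      (by linear_combination 1 * hmod)
      (by ring)
      (by linear_combination 1 * hmod + (-1) * hchar)
      (by linear_combination 1 * hmod + (-1 - w) * hchar)
      (by ring)
      (by linear_combination 2 * hmod + w * hchar)
      (by linear_combination 2 * hmod + (-1) * hchar))
  have h7 : InM M !![w, 1 + w, w; w, 1 + w, 0; 1 + w, 1 + w, 0] := InM.step h6 iU (mm_eq (by ring)
      (by ring)
      (by linear_combination 1 * hchar)
      (by ring)
      (by ring)
      (by linear_combination (1 + w) * hchar)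
      (by ring)
      (by ring)
      (by linear_combination (1 + w) * hchar))
  have h8 : InM M !![w, w, 1; 0, 1 + w, w; 0, 0, 1] := InM.step h7 iv (mm_eq (by ring)
      (by linear_combination 3 * hmod + (-1) * hchar)
      (by linear_combination 2 * hmod + (-1) * hchar)
      (by ring)
      (by linear_combination 2 * hmod + (-1) * hchar)
      (by linear_combination 1 * hmod)
      (by ring)
      (by linear_combination 2 * hmod + w * hchar)
      (by linear_combination 1 * hmod + w * hchar))
  have p12 : (w, (0 : F)) ∈ pairs M := ⟨1 + w, by simpa [uu] using a5⟩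
  have p23 : ((0 : F), w) ∈ pairs M := ⟨w, by simpa [uu] using b5⟩
  refine top_of_stable (ne_zero_of_mul_eq_one (b := 1 + w) (by linear_combination 1 * hmod + (-1) * hchar)) (ne_zero_of_mul_eq_one (b := w) (by linear_combination 1 * hmod + (-1) * hchar)) (ne_zero_of_mul_eq_one (b := 1) (by ring)) h8 (hg _ (Or.inr ((div_eq_iff (ne_zero_of_mul_eq_one (b := w) (by linear_combination 1 * hmod + (-1) * hchar))).2 (by linear_combination (-1) * hmod)))) (hg _ (Or.inr ((div_eq_iff (ne_zero_of_mul_eq_one (b := 1) (by ring))).2 (by ring)))) (ne_zero_of_mul_eq_one (b := 1 + w) (by linear_combination 1 * hmod + (-1) * hchar)) p12 (ne_zero_of_mul_eq_one (b := 1 + w) (by linear_combination 1 * hmod + (-1) * hchar)) p23 iv ?_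
  simp

theorem exists_pair_seven (hF : Fintype.card F = 7) : Pair F := by
  have hchar : (7 : F) = 0 := by
    have h : ((Fintype.card F : ℕ) : F) = 0 := FiniteField.cast_card_eq_zero F
    rw [hF] at h
    push_cast at h
    exact h
  have n2 : (2 : F) ≠ 0 := ne_zero_of_mul_eq_one (b := 4) (by linear_combination 1 * hchar)
  have n3 : (3 : F) ≠ 0 := ne_zero_of_mul_eq_one (b := 5) (by linear_combination 2 * hchar)
  have h31 : (3 : F) ^ 2 ≠ 1 := fun h => one_ne_zero (α := F) (by linear_combination h - hchar)
  refine exists_pair_of n3 h31 fun M hu hs => ?_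
  obtain ⟨-, hx⟩ := sm_parts n3 hs
  have hi : ((3 : F) ^ 2)⁻¹ = 4 := inv_eq_of_mul_eq_one_right (by linear_combination 5 * hchar)
  have hi1 : (3 : F)⁻¹ = 5 := inv_eq_of_mul_eq_one_right (by linear_combination 2 * hchar)
  have ex : xp (3 : F) = 3 := by
    rw [xp, div_eq_mul_inv, hi]; linear_combination (-293) * hchar
  have ey : yp (3 : F) = 0 := by
    rw [yp, hi]; linear_combination (-1) * hchar
  have iu : InM M !![1, 4, 4; 0, 1, 1; 0, 0, 1] := by
    convert hu using 1
    rw [um, ex, ey, uu]
    ext i j
    fin_cases i <;> fin_cases j <;> simp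
    all_goals first | (linear_combination 1 * hchar) | (linear_combination 1 * hchar)
  have is : InM M !![3, 0, 0; 0, 4, 0; 1, 0, 3] := by
    rw [sm, hi] at hs; exact hs
  have ix : InM M !![1, 0, 0; 0, 1, 0; 2, 0, 1] := by
    convert hx using 1
    rw [hi1]
    ext i j
    fin_cases i <;> fin_cases j <;> simp
    all_goals linear_combination 1 * hchar
  have iU : InM M !![1, 3, 0; 0, 1, 6; 0, 0, 1] := iu.inv ((mm_eq (by ring)
      (by linear_combination 1 * hchar)
      (by linear_combination 4 * hchar)
      (by ring)
      (by ring)
      (by linear_combination 1 * hchar)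
      (by ring)
      (by ring)
      (by ring)).trans one_eq)
  have iS : InM M !![5, 0, 0; 0, 2, 0; 3, 0, 5] := is.inv ((mm_eq (by linear_combination 2 * hchar)
      (by ring)
      (by ring)
      (by ring)
      (by linear_combination 1 * hchar)
      (by ring)
      (by linear_combination 2 * hchar)
      (by ring)
      (by linear_combination 2 * hchar)).trans one_eq)
  have a0 : InM M !![5, 0, 0; 0, 2, 0; 3, 0, 5] := iS
  have a1 : InM M !![5, 1, 0; 0, 2, 5; 3, 2, 5] := InM.step a0 iU (mm_eq (by ring)
      (by linear_combination 2 * hchar)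
      (by ring)
      (by ring)
      (by ring)
      (by linear_combination 1 * hchar)
      (by ring)
      (by linear_combination 1 * hchar)
      (by ring))
  have a2 : InM M !![1, 4, 0; 5, 1, 1; 0, 1, 1] := InM.step a1 is (mm_eq (by linear_combination 2 * hchar)
      (by ring)
      (by ring)
      (by ring)
      (by linear_combination 1 * hchar)
      (by linear_combination 2 * hchar)
      (by linear_combination 2 * hchar)
      (by linear_combination 1 * hchar)
      (by linear_combination 2 * hchar))
  have a3 : InM M !![1, 0, 3; 5, 2, 0; 0, 1, 0] := InM.step a2 iU (mm_eq (by ring)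
      (by linear_combination 1 * hchar)
      (by linear_combination 3 * hchar)
      (by ring)
      (by linear_combination 2 * hchar)
      (by linear_combination 1 * hchar)
      (by ring)
      (by ring)
      (by linear_combination 1 * hchar))
  have a4 : InM M !![0, 0, 3; 5, 2, 0; 0, 1, 0] := InM.step a3 ix (mm_eq (by linear_combination 1 * hchar)
      (by ring)
      (by ring)
      (by ring)
      (by ring)
      (by ring)
      (by ring)
      (by ring)
      (by ring))
  have a5 : InM M !![0, 0, 3; 5, 1, 1; 0, 1, 1] := InM.step a4 iu (mm_eq (by ring)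
      (by ring)
      (by ring)
      (by ring)
      (by linear_combination 3 * hchar)
      (by linear_combination 3 * hchar)
      (by ring)
      (by ring)
      (by ring))
  have a6 : InM M !![2, 0, 1; 0, 2, 5; 3, 2, 5] := InM.step a5 iS (mm_eq (by linear_combination 1 * hchar)
      (by ring)
      (by linear_combination 2 * hchar)
      (by linear_combination 4 * hchar)
      (by ring)
      (by ring)
      (by ring)
      (by ring)
      (by ring))
  have a7 : InM M !![2, 1, 2; 0, 2, 0; 3, 0, 5] := InM.step a6 iu (mm_eq (by ring)
      (by linear_combination 1 * hchar)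
      (by linear_combination 1 * hchar)
      (by ring)
      (by ring)
      (by linear_combination 1 * hchar)
      (by ring)
      (by linear_combination 2 * hchar)
      (by linear_combination 2 * hchar))
  have a8 : InM M !![1, 4, 6; 0, 1, 0; 0, 0, 1] := InM.step a7 is (mm_eq (by linear_combination 1 * hchar)
      (by ring)
      (by ring)
      (by ring)
      (by linear_combination 1 * hchar)
      (by ring)
      (by linear_combination 2 * hchar)
      (by ring)
      (by linear_combination 2 * hchar))
  have b0 : InM M !![3, 0, 0; 0, 4, 0; 1, 0, 3] := is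
  have b1 : InM M !![3, 5, 5; 0, 4, 4; 1, 4, 0] := InM.step b0 iu (mm_eq (by ring)
      (by linear_combination 1 * hchar)
      (by linear_combination 1 * hchar)
      (by ring)
      (by ring)
      (by ring)
      (by ring)
      (by ring)
      (by linear_combination 1 * hchar))
  have b2 : InM M !![0, 6, 1; 4, 2, 5; 3, 2, 0] := InM.step b1 is (mm_eq (by linear_combination 2 * hchar)
      (by linear_combination 2 * hchar)
      (by linear_combination 2 * hchar)
      (by ring)
      (by linear_combination 2 * hchar)
      (by linear_combination 1 * hchar)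
      (by ring)
      (by linear_combination 2 * hchar)
      (by ring))
  have b3 : InM M !![0, 6, 0; 4, 4, 2; 3, 0, 0] := InM.step b2 iu (mm_eq (by ring)
      (by ring)
      (by linear_combination 1 * hchar)
      (by ring)
      (by linear_combination 2 * hchar)
      (by linear_combination 3 * hchar)
      (by ring)
      (by linear_combination 2 * hchar)
      (by linear_combination 2 * hchar))
  have b4 : InM M !![0, 6, 0; 1, 4, 2; 3, 0, 0] := InM.step b3 ix (mm_eq (by ring)
      (by ring)
      (by ring)
      (by linear_combination 1 * hchar)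
      (by ring)
      (by ring)
      (by ring)
      (by ring)
      (by ring))
  have b5 : InM M !![0, 6, 1; 1, 0, 5; 3, 2, 0] := InM.step b4 iU (mm_eq (by ring)
      (by ring)
      (by linear_combination 5 * hchar)
      (by ring)
      (by linear_combination 1 * hchar)
      (by linear_combination 3 * hchar)
      (by ring)
      (by linear_combination 1 * hchar)
      (by ring))
  have b6 : InM M !![3, 5, 5; 6, 0, 4; 1, 4, 0] := InM.step b5 iS (mm_eq (by ring)
      (by linear_combination 1 * hchar)
      (by ring)
      (by linear_combination 2 * hchar)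
      (by ring)
      (by linear_combination 3 * hchar)
      (by linear_combination 2 * hchar)
      (by ring)
      (by ring))
  have b7 : InM M !![3, 0, 0; 6, 4, 4; 1, 0, 3] := InM.step b6 iU (mm_eq (by ring)
      (by linear_combination 2 * hchar)
      (by linear_combination 5 * hchar)
      (by ring)
      (by linear_combination 2 * hchar)
      (by ring)
      (by ring)
      (by linear_combination 1 * hchar)
      (by linear_combination 3 * hchar))
  have b8 : InM M !![1, 0, 0; 0, 1, 6; 0, 0, 1] := InM.step b7 iS (mm_eq (by linear_combination 2 * hchar)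
      (by ring)
      (by ring)
      (by linear_combination 6 * hchar)
      (by linear_combination 1 * hchar)
      (by linear_combination 2 * hchar)
      (by linear_combination 2 * hchar)
      (by ring)
      (by linear_combination 2 * hchar))
  have p12 : (4, (0 : F)) ∈ pairs M := ⟨6, by simpa [uu] using a8⟩
  have p23 : ((0 : F), 6) ∈ pairs M := ⟨0, by simpa [uu] using b8⟩
  refine top_of_stable (α := 1) (β := 1) (δ := 1) one_ne_zero one_ne_zero one_ne_zero (p := (0 : F)) (r := 0) (w := 0) (by rw [one_eq]; exact InM.one) (subring_eq_top_of_prime (p := 7) (by norm_num) hF _) (subring_eq_top_of_prime (p := 7) (by norm_num) hF _) (ne_zero_of_mul_eq_one (b := 2) (by linear_combination 1 * hchar)) p12 (ne_zero_of_mul_eq_one (b := 6) (by linear_combination 5 * hchar)) p23 is ?_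
  simp

end Cfsg.Agent.RegUnip.SL3
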