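/-
SL_3 over the field with 16 elements.
Main result (namespace `Cfsg.Agent.RegUnip.SL3`): `exists_pair_sixteen`.
-/
import Cfsg.Agent.Lib.RegUnip.SL3Small

set_option autoImplicit false
set_option linter.unusedSectionVars false

namespace Cfsg.Agent.RegUnip.SL3

open Matrix Cfsg.Agent.Transvect
open scoped MatrixGroups

attribute [-simp] app_apply

variable {F : Type*} [Field F] [Fintype F]

theorem exists_pair_sixteen (hF : Fintype.card F = 16) : Pair F := by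
  classical
  have hchar : (2 : F) = 0 := by
    have h : ((Fintype.card F : ℕ) : F) = 0 := FiniteField.cast_card_eq_zero F
    rw [hF] at h
    push_cast at h
    exact eq_zero_of_pow_eq_zero (n := 4) (by linear_combination h)
  obtain ⟨γ, hγ⟩ := IsCyclic.exists_generator (α := Fˣ)
  have hord : orderOf γ = 15 := by
    rw [orderOf_eq_card_of_forall_mem_zpowers hγ, Nat.card_eq_fintype_card, Fintype.card_units, hF]
  have h15 : (γ : F) ^ 15 = 1 := by rw [← Units.val_pow_eq_pow_val, ← hord, pow_orderOf_eq_one, Units.val_one]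
  have pne : ∀ k, 0 < k → k < 15 → (γ : F) ^ k - 1 ≠ 0 := fun k h0 h1 h => by
    have hd := orderOf_dvd_of_pow_eq_one (show γ ^ k = 1 from Units.ext (by
      rw [Units.val_pow_eq_pow_val, Units.val_one]; exact sub_eq_zero.1 h))
    rw [hord] at hd
    have := Nat.le_of_dvd h0 hd
    omega
  obtain ⟨δ, hδ, hmod⟩ : ∃ δ : Fˣ, (∀ x, x ∈ Subgroup.zpowers δ) ∧ (δ : F) ^ 4 + (δ : F) ^ 3 + 1 = 0 := by
    set z := (γ : F)
    have e3 : z ^ 2 + z + 1 ≠ 0 := fun h => pne 3 (by norm_num) (by norm_num) (by linear_combination (z - 1) * h)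
    have e5 : z ^ 4 + z ^ 3 + z ^ 2 + z + 1 ≠ 0 := fun h => pne 5 (by norm_num) (by norm_num) (by linear_combination (z - 1) * h)
    have e1 : z - 1 ≠ 0 := by simpa using pne 1 (by norm_num) (by norm_num)
    have h8 : (z ^ 8 - z ^ 7 + z ^ 5 - z ^ 4 + z ^ 3 - z + 1) = 0 := by
      have : (z - 1) * ((z ^ 2 + z + 1) * ((z ^ 4 + z ^ 3 + z ^ 2 + z + 1) * (z ^ 8 - z ^ 7 + z ^ 5 - z ^ 4 + z ^ 3 - z + 1))) = 0 := by
        linear_combination h15
      exact (mul_eq_zero.1 ((mul_eq_zero.1 ((mul_eq_zero.1 this).resolve_left e1)).resolve_left e3)).resolve_left e5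
    have : (z ^ 4 + z ^ 3 + 1) * (z ^ 4 + z + 1) = 0 := by
      linear_combination h8 + (z ^ 7 + z ^ 4 + z + z ^ 4) * hchar
    rcases mul_eq_zero.1 this with h | h
    · exact ⟨γ, hγ, h⟩
    · refine ⟨γ⁻¹, fun x => by rw [Subgroup.zpowers_inv]; exact hγ x, ?_⟩
      rw [Units.val_inv_eq_inv_val]
      change z⁻¹ ^ 4 + z⁻¹ ^ 3 + 1 = 0
      have hz : z ≠ 0 := γ.ne_zero
      field_simp
      linear_combination h
  set μ := (δ : F) with hμdef
  have hμ : μ ≠ 0 := δ.ne_zero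
  have hμ1 : μ ^ 2 ≠ 1 := fun h => (show (1 + μ ^ 2 : F) ≠ 0 from ne_zero_of_mul_eq_one (b := 1 + μ + μ ^ 2 + μ ^ 3) (by linear_combination μ * hmod + (μ ^ 2 + μ ^ 3) * hchar)) (by linear_combination h + hchar)
  refine exists_pair_of hμ hμ1 fun M hu hs => ?_
  obtain ⟨hd, hx⟩ := sm_parts hμ hs
  have hi : (μ ^ 2)⁻¹ = μ + μ ^ 2 := inv_eq_of_mul_eq_one_right (by linear_combination 1 * hmod + (-1) * hchar)
  have hi1 : μ⁻¹ = μ ^ 2 + μ ^ 3 := inv_eq_of_mul_eq_one_right (by linear_combination 1 * hmod + (-1) * hchar)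
  have ex : xp μ = μ + μ ^ 3 := by
    rw [xp, div_eq_mul_inv, hi]; linear_combination (-2 + 3 * μ ^ 2 - μ ^ 4) * hmod + (1 - μ ^ 2 - μ ^ 3) * hchar
  have ey : yp μ = 1 + μ + μ ^ 2 := by
    rw [yp, hi]; linear_combination (1 - 2 * μ - μ ^ 2) * hchar
  have iu : InM M !![1, μ + μ ^ 3, 1 + μ ^ 2 + μ ^ 3; 0, 1, 1; 0, 0, 1] := by
    convert hu using 1
    rw [um, ex, ey, uu]
    ext i j
    fin_cases i <;> fin_cases j <;> simp
    all_goals first | (linear_combination (μ + μ ^ 3) * hchar) | (linear_combination (1 + μ + μ ^ 2 + μ ^ 3) * hchar)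
  have is : InM M !![μ, 0, 0; 0, μ + μ ^ 2, 0; 1, 0, μ] := by rw [sm, hi] at hs; exact hs
  have idd : InM M !![μ, 0, 0; 0, μ + μ ^ 2, 0; 0, 0, μ] := by rw [hi] at hd; exact hd
  have edi : (!![μ, 0, 0; 0, μ + μ ^ 2, 0; 0, 0, μ] : Matrix (Fin 3) (Fin 3) F) * !![μ ^ 2 + μ ^ 3, 0, 0; 0, μ ^ 2, 0; 0, 0, μ ^ 2 + μ ^ 3] = 1 := (mm_eq (by linear_combination 1 * hmod + (-1) * hchar)
      (by ring)
      (by ring)
      (by ring)
      (by linear_combination 1 * hmod + (-1) * hchar)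
      (by ring)
      (by ring)
      (by ring)
      (by linear_combination 1 * hmod + (-1) * hchar)).trans one_eq
  have iU : InM M !![1, μ + μ ^ 3, 1 + μ + μ ^ 2; 0, 1, 1; 0, 0, 1] := iu.inv ((mm_eq (by ring)
      (by linear_combination (μ + μ ^ 3) * hchar)
      (by linear_combination (1 + μ + μ ^ 2 + μ ^ 3) * hchar)
      (by ring)
      (by ring)
      (by linear_combination 1 * hchar)
      (by ring)
      (by ring)
      (by ring)).trans one_eq)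
  have iS : InM M !![μ ^ 2 + μ ^ 3, 0, 0; 0, μ ^ 2, 0; μ + μ ^ 2, 0, μ ^ 2 + μ ^ 3] := is.inv ((mm_eq (by linear_combination 1 * hmod + (-1) * hchar)
      (by ring)
      (by ring)
      (by ring)
      (by linear_combination 1 * hmod + (-1) * hchar)
      (by ring)
      (by linear_combination (μ ^ 2 + μ ^ 3) * hchar)
      (by ring)
      (by linear_combination 1 * hmod + (-1) * hchar)).trans one_eq)
  have ius : InM M !![1 + μ + μ ^ 2 + μ ^ 3, μ + μ ^ 2 + μ ^ 3, 1 + μ; 1, μ + μ ^ 2, μ; 1, 0, μ] := iu.step is (mm_eq (by ring)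
      (by linear_combination μ * hmod + (-μ) * hchar)
      (by linear_combination 1 * hmod + (-1) * hchar)
      (by ring)
      (by ring)
      (by ring)
      (by ring)
      (by ring)
      (by ring))
  have ig : InM M !![1 + μ + μ ^ 2 + μ ^ 3, μ ^ 2 + μ ^ 3, 1 + μ ^ 3; 1, μ ^ 2 + μ ^ 3, 1 + μ ^ 3; 1, μ + μ ^ 3, 1 + μ + μ ^ 2 + μ ^ 3] := ius.step iu (mm_eq (by ring)
      (by linear_combination (2 + μ ^ 2) * hmod + (-1 + μ) * hchar)
      (by linear_combination (1 + μ + μ ^ 2) * hmod + (μ + μ ^ 2 + μ ^ 3) * hchar)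
      (by ring)
      (by linear_combination μ * hchar)
      (by linear_combination (μ + μ ^ 2) * hchar)
      (by ring)
      (by ring)
      (by ring))
  have iuS : InM M !![1 + μ + μ ^ 2, 1 + μ, 1 + μ + μ ^ 2 + μ ^ 3; μ + μ ^ 2, μ ^ 2, μ ^ 2 + μ ^ 3; μ + μ ^ 2, 0, μ ^ 2 + μ ^ 3] := iU.step iS (mm_eq (by linear_combination 1 * hmod + (-1 + μ ^ 2 + μ ^ 3) * hchar)
      (by linear_combination (-1 + μ) * hmod + (-μ + μ ^ 3) * hchar)
      (by linear_combination (1 + μ) * hmod + (-1 - μ) * hchar)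
      (by ring)
      (by ring)
      (by ring)
      (by ring)
      (by ring)
      (by ring))
  have igi : InM M !![1 + μ + μ ^ 2, 1 + μ + μ ^ 2, 0; μ + μ ^ 2, μ + μ ^ 3, 1 + μ; μ + μ ^ 2, μ + μ ^ 2 + μ ^ 3, 1 + μ + μ ^ 2] := iuS.step iU (mm_eq (by ring)
      (by linear_combination μ * hmod + (μ ^ 3) * hchar)
      (by linear_combination 1 * hmod + (1 + 2 * μ + 2 * μ ^ 2 + μ ^ 3) * hchar)
      (by ring)
      (by linear_combination μ * hmod + (-μ + μ ^ 2) * hchar)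
      (by linear_combination 1 * hmod + (-1 + 2 * μ ^ 2 + μ ^ 3) * hchar)
      (by ring)
      (by linear_combination μ * hmod + (-μ) * hchar)
      (by linear_combination 1 * hmod + (-1 + μ ^ 2 + μ ^ 3) * hchar))
  have egi : (!![1 + μ + μ ^ 2 + μ ^ 3, μ ^ 2 + μ ^ 3, 1 + μ ^ 3; 1, μ ^ 2 + μ ^ 3, 1 + μ ^ 3; 1, μ + μ ^ 3, 1 + μ + μ ^ 2 + μ ^ 3] : Matrix (Fin 3) (Fin 3) F) * !![1 + μ + μ ^ 2, 1 + μ + μ ^ 2, 0; μ + μ ^ 2, μ + μ ^ 3, 1 + μ; μ + μ ^ 2, μ + μ ^ 2 + μ ^ 3, 1 + μ + μ ^ 2] = 1 := (mm_eq (by linear_combination (2 + 3 * μ) * hmod + (-1 + 2 * μ ^ 2 + μ ^ 3) * hchar)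
      (by linear_combination (3 + μ + 2 * μ ^ 2) * hmod + (-1 + μ + μ ^ 2 + μ ^ 3) * hchar)
      (by linear_combination (1 + μ) * hmod + (μ ^ 2 + μ ^ 3) * hchar)
      (by linear_combination (1 + 2 * μ) * hmod + (μ ^ 2) * hchar)
      (by linear_combination (2 + 2 * μ ^ 2) * hmod + (-1 + μ) * hchar)
      (by linear_combination (1 + μ) * hmod + (μ ^ 2 + μ ^ 3) * hchar)
      (by linear_combination (1 + 2 * μ) * hmod + (2 * μ ^ 2 + μ ^ 3) * hchar)
      (by linear_combination (5 + 2 * μ ^ 2) * hmod + (-2 + μ + μ ^ 2 - μ ^ 3) * hchar)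
      (by linear_combination (2 + μ) * hmod + (-1 + μ + 2 * μ ^ 2 + μ ^ 3) * hchar)).trans one_eq
  set N := M.map SpecialLinearGroup.toGL
  obtain ⟨G, hG, hGm⟩ := ig.toGL
  obtain ⟨D, hD, hDm⟩ := idd.toGL
  obtain ⟨U, hU, hUm⟩ := iu.toGL
  obtain ⟨X, hX, hXm⟩ := hx.toGL
  have hGi : ∀ v, app G⁻¹ v = (!![1 + μ + μ ^ 2, 1 + μ + μ ^ 2, 0; μ + μ ^ 2, μ + μ ^ 3, 1 + μ; μ + μ ^ 2, μ + μ ^ 2 + μ ^ 3, 1 + μ + μ ^ 2] : Matrix (Fin 3) (Fin 3) F) *ᵥ v := fun v => (app G).injective (by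
    rw [app_app_inv, app_val, hGm, Matrix.mulVec_mulVec, egi, Matrix.one_mulVec])
  have hDi : ∀ v, app D⁻¹ v = (!![μ ^ 2 + μ ^ 3, 0, 0; 0, μ ^ 2, 0; 0, 0, μ ^ 2 + μ ^ 3] : Matrix (Fin 3) (Fin 3) F) *ᵥ v := fun v => (app D).injective (by
    rw [app_app_inv, app_val, hDm, Matrix.mulVec_mulVec, edi, Matrix.one_mulVec])
  have hT : tv (ee 2) ((-μ⁻¹) • LinearMap.proj 0) ∈ N := by
    suffices tv (ee (2 : Fin 3)) ((-μ⁻¹) • LinearMap.proj 0) = X by rwa [this]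
    refine gl_ext fun v => ?_
    rw [tv_apply (by simp [ee]), app_val, hXm]
    funext i
    fin_cases i <;> simp [ee, Matrix.mulVec, dotProduct, Fin.sum_univ_three] <;> ring
  have hratio : μ / (μ ^ 2)⁻¹ = μ ^ 3 := by rw [div_inv_eq_mul]; ring
  have hgen : Subring.closure ({μ / (μ ^ 2)⁻¹} : Set F) = ⊤ := by
    rw [hratio, eq_top_iff, ← Sp.closure_gen_eq_top hδ, Subring.closure_le]
    rintro z rfl
    have hl : μ ^ 3 ∈ Subring.closure ({μ ^ 3} : Set F) := Subring.subset_closure rfl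
    rw [SetLike.mem_coe, ← hμdef]
    have e : μ = (μ ^ 3) ^ 1 + (μ ^ 3) ^ 2 + (μ ^ 3) ^ 3 := by linear_combination (-2 + μ - μ ^ 3 + μ ^ 4 - μ ^ 5) * hmod + (1 + μ ^ 3) * hchar
    have h' := Subring.add_mem _ (Subring.add_mem _ (pow_mem hl 1) (pow_mem hl 2)) (pow_mem hl 3)
    rwa [← e] at h'
  have hfull : IsFull N (ee 2) := by
    refine isFull_third (r := -μ⁻¹) hG (neg_ne_zero.2 (inv_ne_zero hμ)) hT ?_ ?_ ?_ ?_ ?_ hD (μ := μ) (β := (μ ^ 2)⁻¹)
      ?_ ?_ ?_ ?_ hμ hgen ?_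
    · rw [hGi]; simp [ee, Matrix.mulVec, dotProduct, Fin.sum_univ_three]
    · rw [app_val, hGm]; simp [ee, Matrix.mulVec, dotProduct, Fin.sum_univ_three]; exact (show (1 + μ ^ 3 : F) ≠ 0 from ne_zero_of_mul_eq_one (b := 1 + μ ^ 2 + μ ^ 3) (by linear_combination (μ ^ 2) * hmod + (μ ^ 3) * hchar))
    · rw [app_val, hGm]; simp [ee, Matrix.mulVec, dotProduct, Fin.sum_univ_three]; exact (show (1 + μ ^ 3 : F) ≠ 0 from ne_zero_of_mul_eq_one (b := 1 + μ ^ 2 + μ ^ 3) (by linear_combination (μ ^ 2) * hmod + (μ ^ 3) * hchar))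
    · rw [hGi]; simp [ee, Matrix.mulVec, dotProduct, Fin.sum_univ_three]; exact (show (1 + μ + μ ^ 2 : F) ≠ 0 from ne_zero_of_mul_eq_one (b := μ + μ ^ 2 + μ ^ 3) (by linear_combination (1 + μ) * hmod + (-1 + μ ^ 2 + μ ^ 3) * hchar))
    · rw [hGi]; simp [ee, Matrix.mulVec, dotProduct, Fin.sum_univ_three]; exact (show (1 + μ + μ ^ 2 : F) ≠ 0 from ne_zero_of_mul_eq_one (b := μ + μ ^ 2 + μ ^ 3) (by linear_combination (1 + μ) * hmod + (-1 + μ ^ 2 + μ ^ 3) * hchar))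
    · rw [hDi, hi1]; funext i; fin_cases i <;> simp [ee, Matrix.mulVec, dotProduct, Fin.sum_univ_three]
    · rw [hDi, inv_inv]; funext i; fin_cases i <;> simp [ee, Matrix.mulVec, dotProduct, Fin.sum_univ_three]
      all_goals ring
    · rw [app_val, hDm]; funext i; fin_cases i <;> simp [ee, Matrix.mulVec, dotProduct, Fin.sum_univ_three]
    · rw [hDi, hi1]; funext i; fin_cases i <;> simp [ee, Matrix.mulVec, dotProduct, Fin.sum_univ_three]
    · rw [hratio]; exact fun h => (show (1 + μ ^ 3 : F) ≠ 0 from ne_zero_of_mul_eq_one (b := 1 + μ ^ 2 + μ ^ 3) (by linear_combination (μ ^ 2) * hmod + (μ ^ 3) * hchar)) (by linear_combination h + hchar)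
  have h2 : ee (2 : Fin 3) ∈ fullSub N := Or.inr hfull
  have hu2 := fullSub_app hU h2
  have hdu2 := fullSub_app hD hu2
  rw [app_val U, hUm, app_val D, hDm] at hdu2
  rw [app_val, hUm] at hu2
  have hne : μ - (μ ^ 2)⁻¹ ≠ 0 := by
    rw [hi]; exact fun h => (show (μ ^ 2 : F) ≠ 0 from ne_zero_of_mul_eq_one (b := μ + μ ^ 2) (by linear_combination 1 * hmod + (-1) * hchar)) (by linear_combination -h)
  have hc : (1 + μ ^ 2 + μ ^ 3 : F) ≠ 0 := (show (1 + μ ^ 2 + μ ^ 3 : F) ≠ 0 from ne_zero_of_mul_eq_one (b := 1 + μ ^ 3) (by linear_combination (μ ^ 2) * hmod + (μ ^ 3) * hchar))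
  apply top_of_fullSub
  -- μ·(u e₂) - d u e₂ = (μ - β) e₁
  have hb : ee (1 : Fin 3) ∈ fullSub N := by
    have := Submodule.smul_mem _ (μ - (μ ^ 2)⁻¹)⁻¹ (Submodule.sub_mem _ (Submodule.smul_mem _ μ hu2) hdu2)
    convert this using 1
    funext i
    fin_cases i <;> simp [ee, Matrix.mulVec, dotProduct, Fin.sum_univ_three, Matrix.vecHead, Matrix.vecTail, Matrix.col_apply]
    all_goals (rw [hi] at *; field_simp; rw [show (1 : F) - (1 + μ) = -μ by ring, div_neg, neg_neg, div_self hμ])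
  have ha : ee (0 : Fin 3) ∈ fullSub N := by
    have := Submodule.smul_mem _ (1 + μ ^ 2 + μ ^ 3)⁻¹ (Submodule.sub_mem _ (Submodule.sub_mem _ hu2 hb) h2)
    convert this using 1
    funext i
    fin_cases i <;> simp [ee, Matrix.mulVec, dotProduct, Fin.sum_univ_three, Matrix.vecHead, Matrix.vecTail, Matrix.col_apply]
    all_goals field_simp
  rw [eq_top_iff]
  intro v _
  rw [pi_eq_sum_univ' v, Fin.sum_univ_three]
  exact Submodule.add_mem _ (Submodule.add_mem _ (Submodule.smul_mem _ _ ha) (Submodule.smul_mem _ _ hb))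
    (Submodule.smul_mem _ _ h2)

end Cfsg.Agent.RegUnip.SL3
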