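/-
Root elements of SU_n(q) for a hyperbolic frame P_i, R_i, E and a regular unipotent element built from them.
Main objects (namespace `Cfsg.Agent.RegUnip.SU`): `T`, `sh`, `U`, `V`.
-/
import Cfsg.Agent.Lib.Unitary.Generation
import Cfsg.Agent.Lib.Unitary.Field

set_option autoImplicit false
set_option linter.unusedSectionVars false

namespace Cfsg.Agent.RegUnip.SU

open Cfsg.Agent.Unitary
open scoped Matrix

variable {F : Type*} [Field F] [Fintype F] {q n : ℕ} (hF : Fintype.card F = q ^ 2)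

local notation "hf" => Cfsg.hermForm n F q
local notation "σ" => Cfsg.Agent.Unitary.conjHom hF

section Rules

include hF

theorem σ_apply (x : F) : σ x = x ^ q := rfl

theorem σσ (x : F) : σ (σ x) = x := pow_q_pow_q hF x

theorem h_add_left (x y z : Fin n → F) : hf (x + y) z = hf x z + hf y z := (hermForm_isHerm hF n).add_left x y z

theorem h_add_right (x y z : Fin n → F) : hf x (y + z) = hf x y + hf x z := (hermForm_isHerm hF n).add_right hF x y z

theorem h_smul_left (c : F) (x z : Fin n → F) : hf (c • x) z = c * hf x z := (hermForm_isHerm hF n).smul_left c x z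

theorem h_smul_right (c : F) (x z : Fin n → F) : hf x (c • z) = σ c * hf x z :=
  (hermForm_isHerm hF n).smul_right c x z

theorem h_symm (x y : Fin n → F) : hf y x = σ (hf x y) := (hermForm_isHerm hF n).conj_symm x y

theorem h_zero_left (z : Fin n → F) : hf 0 z = 0 := by
  rw [← zero_smul F z, h_smul_left hF, zero_mul]

theorem h_zero_right (z : Fin n → F) : hf z 0 = 0 := by
  rw [← zero_smul F z, h_smul_right hF, map_zero, zero_mul]

theorem h_neg_left (x z : Fin n → F) : hf (-x) z = -hf x z := by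
  rw [← neg_one_smul F x, h_smul_left hF, neg_one_mul]

theorem h_neg_right (x z : Fin n → F) : hf z (-x) = -hf z x := by
  rw [← neg_one_smul F x, h_smul_right hF, map_neg, map_one, neg_one_mul]

theorem h_sub_left (x y z : Fin n → F) : hf (x - y) z = hf x z - hf y z := by
  rw [sub_eq_add_neg, h_add_left hF, h_neg_left hF, ← sub_eq_add_neg]

theorem h_sub_right (x y z : Fin n → F) : hf z (x - y) = hf z x - hf z y := by
  rw [sub_eq_add_neg, h_add_right hF, h_neg_right hF, ← sub_eq_add_neg]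

theorem h_symm_zero {x y : Fin n → F} (h : hf x y = 0) : hf y x = 0 := by
  rw [h_symm hF x y, h, map_zero]

theorem σ_norm (a : F) : σ (a * σ a) = a * σ a := by rw [map_mul, σσ hF, mul_comm]

theorem σ_skew_mul {c a : F} (hc : σ c = -c) (ha : σ a = a) : σ (c * a) = -(c * a) := by
  rw [map_mul, hc, ha, neg_mul]

end Rules

open Classical in
/-- The unitary transvection (junk value `1` outside its domain). -/
noncomputable def T (v : Fin n → F) (c : F) : Cfsg.SU n F q :=
  if h : hf v v = 0 ∧ σ c = -c then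
    suTransvection hF v h.1 c (by have := h.2; rw [σ_apply hF] at this; rw [this, add_neg_cancel])
  else 1

theorem T_apply {v : Fin n → F} {c : F} (hv : hf v v = 0) (hc : σ c = -c) (x : Fin n → F) :
    suAct (T hF v c) x = x + (c * hf x v) • v := by
  rw [T, dif_pos ⟨hv, hc⟩, suAct_suTransvection hF]

theorem T_fix {v x : Fin n → F} (h : hf x v = 0) (c : F) : suAct (T hF v c) x = x := by
  by_cases hh : hf v v = 0 ∧ σ c = -c
  · rw [T_apply hF hh.1 hh.2, h, mul_zero, zero_smul, add_zero]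
  · rw [T, dif_neg hh, suAct_one]

theorem T_zero (v : Fin n → F) : T hF v 0 = 1 := by
  refine suAct_ext fun x => ?_
  by_cases hv : hf v v = 0
  · rw [T_apply hF hv (by rw [map_zero, neg_zero]), suAct_one, zero_mul, zero_smul, add_zero]
  · rw [T, dif_neg (fun h => hv h.1)]

theorem T_conj (g : Cfsg.SU n F q) (v : Fin n → F) (c : F) :
    g * T hF v c * g⁻¹ = T hF (suAct g v) c := by
  by_cases h : hf v v = 0 ∧ σ c = -c
  · refine suAct_ext fun x => ?_
    have hv : hf (suAct g v) (suAct g v) = 0 := by rw [suAct_herm]; exact h.1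
    rw [suAct_mul, suAct_mul, T_apply hF h.1 h.2, T_apply hF hv h.2, suAct_add, suAct_smul, suAct_suAct_inv,
      ← suAct_herm g (suAct g⁻¹ x) v, suAct_suAct_inv]
  · have h' : ¬ (hf (suAct g v) (suAct g v) = 0 ∧ σ c = -c) := by rwa [suAct_herm]
    rw [T, dif_neg h, T, dif_neg h', mul_one, mul_inv_cancel]

theorem T_mul {v : Fin n → F} (hv : hf v v = 0) {a b : F} (ha : σ a = -a) (hb : σ b = -b) :
    T hF v a * T hF v b = T hF v (a + b) := by
  refine suAct_ext fun x => ?_
  rw [suAct_mul, T_apply hF hv hb, T_apply hF hv ha, T_apply hF hv (by rw [map_add, ha, hb, neg_add]),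
    h_add_left hF, h_smul_left hF, hv]
  module

theorem T_inv {v : Fin n → F} {a : F} (ha : σ a = -a) : (T hF v a)⁻¹ = T hF v (-a) := by
  by_cases hv : hf v v = 0
  · refine inv_eq_of_mul_eq_one_right ?_
    rw [T_mul hF hv ha (by rw [map_neg, ha]), add_neg_cancel, T_zero]
  · rw [T, dif_neg (fun h => hv h.1), T, dif_neg (fun h => hv h.1), inv_one]

theorem T_smul (v : Fin n → F) {a : F} (ha : a ≠ 0) (c : F) : T hF (a • v) c = T hF v (c * (a * σ a)) := by
  by_cases h : hf v v = 0 ∧ σ c = -c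
  · refine suAct_ext fun x => ?_
    rw [T_apply hF (by rw [h_smul_left hF, h_smul_right hF, h.1, mul_zero, mul_zero]) h.2,
      T_apply hF h.1 (σ_skew_mul hF h.2 (σ_norm hF a)), h_smul_right hF]
    module
  · have hn : a * σ a ≠ 0 := mul_ne_zero ha (fun e => ha (by rw [← σσ hF a, e, map_zero]))
    rw [T, dif_neg, T, dif_neg]
    · rintro ⟨h1, h2⟩
      refine h ⟨h1, mul_right_cancel₀ hn ?_⟩
      rw [map_mul, σ_norm hF] at h2
      rw [h2, neg_mul]
    · rintro ⟨h1, h2⟩
      refine h ⟨?_, h2⟩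
      rw [h_smul_left hF, h_smul_right hF] at h1
      rcases mul_eq_zero.1 h1 with h1 | h1
      · exact absurd h1 ha
      · rcases mul_eq_zero.1 h1 with h1 | h1
        · exact absurd (right_ne_zero_of_mul hn) (not_not_intro h1)
        · exact h1

/-- The short root element `x ↦ x + a h(x,v) u - σ(a) h(x,u) v`. -/
noncomputable def sh (d : F) (u v : Fin n → F) (a : F) : Cfsg.SU n F q :=
  T hF (v + (a / d) • u) d * T hF v (-d) * T hF u (-(a / d * σ (a / d) * d))

theorem T_add_smul {u v : Fin n → F} (hu : hf u u = 0) (hv : hf v v = 0) (huv : hf u v = 0) {d : F}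
    (hd : σ d = -d) (s : F) (x : Fin n → F) :
    suAct (T hF (v + s • u) d * T hF v (-d)) x =
      x + (d * s * hf x v) • u + (d * σ s * hf x u) • v + (d * (s * σ s) * hf x u) • u := by
  have hvu := h_symm_zero hF huv
  have hw : hf (v + s • u) (v + s • u) = 0 := by
    simp only [h_add_left hF, h_add_right hF, h_smul_left hF, h_smul_right hF, hu, hv, huv, hvu]; ring
  rw [suAct_mul, T_apply hF hw hd, T_apply hF hv (by rw [map_neg, hd])]
  simp only [h_add_left hF, h_add_right hF, h_smul_left hF, h_smul_right hF, hv, hvu]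
  module

theorem sh_apply {u v : Fin n → F} (hu : hf u u = 0) (hv : hf v v = 0) (huv : hf u v = 0) {d : F}
    (hd0 : d ≠ 0) (hd : σ d = -d) (a : F) (x : Fin n → F) :
    suAct (sh hF d u v a) x = x + (a * hf x v) • u - (σ a * hf x u) • v := by
  rw [sh, suAct_mul, T_apply hF hu (by rw [map_neg, map_mul, σ_norm hF, hd]; ring), T_add_smul hF hu hv huv hd]
  have e : d * σ (a / d) = -σ a := by rw [map_div₀, hd]; field_simp
  rw [mul_div_cancel₀ _ hd0, e]
  simp only [h_add_left hF, h_smul_left hF, hu, huv, mul_zero, add_zero]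
  module

theorem sh_mem {M : Subgroup (Cfsg.SU n F q)} {d : F} (hd : σ d = -d) {u v : Fin n → F} {a : F}
    (h1 : ∀ c, σ c = -c → T hF u c ∈ M) (h2 : ∀ c, σ c = -c → T hF v c ∈ M)
    (h3 : ∀ c, σ c = -c → T hF (v + (a / d) • u) c ∈ M) : sh hF d u v a ∈ M :=
  mul_mem (mul_mem (h3 d hd) (h2 _ (by rw [map_neg, hd])))
    (h1 _ (by rw [map_neg, map_mul, σ_norm hF, hd]; ring))

variable (n q) in
/-- A hyperbolic frame with one anisotropic vector. -/
structure Fr (l : ℕ) where
  P : ℕ → Fin n → F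
  R : ℕ → Fin n → F
  E : Fin n → F
  hPP : ∀ i j, hf (P i) (P j) = 0
  hRR : ∀ i j, hf (R i) (R j) = 0
  hPR : ∀ i j, hf (P i) (R j) = if i = j ∧ i ≤ l then 1 else 0
  hPE : ∀ i, hf (P i) E = 0
  hRE : ∀ i, hf (R i) E = 0
  hEE : hf E E = 1
  decomp : ∀ v, v = ∑ i ∈ Finset.range (l + 1), (hf v (R i) • P i + hf v (P i) • R i) + hf v E • E

/-- Parameters: a skew element and the Eichler parameters of the regular element. -/
structure Par where
  d : F
  a : F
  b : F
  hd0 : d ≠ 0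
  hd : σ d = -d
  ha : a ≠ 0
  hab : b + σ b + a * σ a = 0

variable {hF} {l : ℕ} (D : Fr (F := F) q n l) (p : Par (F := F) hF)

include hF in
theorem Fr.hRP (i j : ℕ) : hf (D.R i) (D.P j) = if i = j ∧ i ≤ l then 1 else 0 := by
  rw [h_symm hF, D.hPR]
  by_cases h : i = j ∧ i ≤ l
  · rw [if_pos h, if_pos ⟨h.1.symm, by omega⟩, map_one]
  · rw [if_neg h, if_neg (fun e => h ⟨e.1.symm, by omega⟩), map_zero]

include hF in
theorem Fr.hEP (i : ℕ) : hf D.E (D.P i) = 0 := h_symm_zero hF (D.hPE i)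

include hF in
theorem Fr.hER (i : ℕ) : hf D.E (D.R i) = 0 := h_symm_zero hF (D.hRE i)

/-- A simple root element. -/
noncomputable def Li (i : ℕ) : Cfsg.SU n F q := sh hF p.d (D.P i) (D.R (i + 1)) 1

theorem Li_apply (i : ℕ) (x : Fin n → F) :
    suAct (Li D p i) x = x + hf x (D.R (i + 1)) • D.P i - hf x (D.P i) • D.R (i + 1) := by
  rw [Li, sh_apply hF (D.hPP i i) (D.hRR _ _) (by rw [D.hPR, if_neg]; omega) p.hd0 p.hd, map_one, one_mul, one_mul]

theorem Li_P_ne {i j : ℕ} (h : j ≠ i + 1) : suAct (Li D p i) (D.P j) = D.P j := by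
  rw [Li_apply, D.hPP, D.hPR, if_neg (fun e => h e.1)]; module

theorem Li_P_succ {i : ℕ} (h : i < l) : suAct (Li D p i) (D.P (i + 1)) = D.P (i + 1) + D.P i := by
  rw [Li_apply, D.hPP, D.hPR, if_pos ⟨rfl, h⟩]; module

theorem Li_R_ne {i j : ℕ} (h : j ≠ i) : suAct (Li D p i) (D.R j) = D.R j := by
  rw [Li_apply, D.hRR, D.hRP (hF := hF), if_neg (fun e => h e.1)]; module

theorem Li_R_self {i : ℕ} (h : i ≤ l) : suAct (Li D p i) (D.R i) = D.R i - D.R (i + 1) := by
  rw [Li_apply, D.hRR, D.hRP (hF := hF), if_pos ⟨rfl, h⟩]; module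

theorem Li_E (i : ℕ) : suAct (Li D p i) D.E = D.E := by
  rw [Li_apply, D.hER (hF := hF), D.hEP (hF := hF)]; module

/-- The product of the simple root elements. -/
noncomputable def LP : ℕ → Cfsg.SU n F q
  | 0 => 1
  | k + 1 => Li D p k * LP k

theorem LP_succ (k : ℕ) : LP D p (k + 1) = Li D p k * LP D p k := rfl

theorem LP_P_zero (k : ℕ) : suAct (LP D p k) (D.P 0) = D.P 0 := by
  induction k with
  | zero => exact suAct_one _
  | succ k ih => rw [LP_succ, suAct_mul, ih, Li_P_ne D p (by omega)]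

theorem LP_E (k : ℕ) : suAct (LP D p k) D.E = D.E := by
  induction k with
  | zero => exact suAct_one _
  | succ k ih => rw [LP_succ, suAct_mul, ih, Li_E]

theorem LP_P (k : ℕ) : ∀ j, j < l → suAct (LP D p k) (D.P (j + 1)) =
    if j < k then D.P (j + 1) + D.P j else D.P (j + 1) := by
  induction k with
  | zero => intro j _; rw [if_neg (by omega)]; exact suAct_one _
  | succ k ih =>
    intro j hj
    rw [LP_succ, suAct_mul, ih j hj]
    rcases lt_trichotomy j k with h | rfl | h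
    · rw [if_pos h, if_pos (by omega), suAct_add, Li_P_ne D p (by omega), Li_P_ne D p (by omega)]
    · rw [if_neg (lt_irrefl j), if_pos (by omega), Li_P_succ D p hj]
    · rw [if_neg (by omega), if_neg (by omega), Li_P_ne D p (by omega)]

theorem LP_R_ge (k : ℕ) : ∀ j, k ≤ j → suAct (LP D p k) (D.R j) = D.R j := by
  induction k with
  | zero => intro j _; exact suAct_one _
  | succ k ih => intro j hj; rw [LP_succ, suAct_mul, ih j (by omega), Li_R_ne D p (by omega)]

theorem LP_R_pair (k : ℕ) : ∀ j, j < k → j ≤ l → suAct (LP D p k) (D.R j + D.R (j + 1)) = D.R j := by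
  induction k with
  | zero => intro j h; omega
  | succ k ih =>
    intro j hj hjn
    rw [LP_succ, suAct_mul]
    rcases Nat.lt_succ_iff_lt_or_eq.1 hj with h | rfl
    · rw [ih j h hjn, Li_R_ne D p (by omega)]
    · rw [suAct_add, LP_R_ge D p _ _ le_rfl, LP_R_ge D p _ _ (by omega), suAct_add, Li_R_self D p hjn, Li_R_ne D p (by omega)]
      module

/-- The Eichler element at the last pair, as a product of three root elements. -/
noncomputable def X : Cfsg.SU n F q :=
  sh hF p.d (D.P l) (p.a • D.E + D.R 0 + σ p.b • D.P 0) (-1) *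
    sh hF p.d (D.P l) (-D.R 0) (-1) * sh hF p.d (D.P l) (-(σ p.b • D.P 0)) (-1)

theorem X_apply (hl : 1 ≤ l) (x : Fin n → F) :
    suAct (X D p) x = x + hf x (D.P l) • (p.a • D.E + p.b • D.P l) - (σ p.a * hf x D.E) • D.P l := by
  have h0 : ¬ (l = 0 ∧ l ≤ l) := by omega
  have h0' : ¬ (0 = l ∧ 0 ≤ l) := by omega
  have v1 : hf (p.a • D.E + D.R 0 + σ p.b • D.P 0) (p.a • D.E + D.R 0 + σ p.b • D.P 0) = 0 := by
    simp only [h_add_left hF, h_add_right hF, h_smul_left hF, h_smul_right hF, D.hPP, D.hRR, D.hPR, D.hRP (hF := hF),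
      D.hPE, D.hRE, D.hEP (hF := hF), D.hER (hF := hF), D.hEE, σσ hF, Nat.zero_le, and_self, if_true]
    linear_combination p.hab
  have o1 : hf (D.P l) (p.a • D.E + D.R 0 + σ p.b • D.P 0) = 0 := by
    simp only [h_add_right hF, h_smul_right hF, D.hPP, D.hPR, D.hPE, if_neg h0]; ring
  have v2 : hf (-D.R 0) (-D.R 0) = 0 := by simp only [h_neg_left hF, h_neg_right hF, D.hRR, neg_zero]
  have o2 : hf (D.P l) (-D.R 0) = 0 := by rw [h_neg_right hF, D.hPR, if_neg h0, neg_zero]
  have v3 : hf (-(σ p.b • D.P 0)) (-(σ p.b • D.P 0)) = 0 := by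
    simp only [h_neg_left hF, h_neg_right hF, h_smul_left hF, h_smul_right hF, D.hPP, mul_zero, neg_zero]
  have o3 : hf (D.P l) (-(σ p.b • D.P 0)) = 0 := by rw [h_neg_right hF, h_smul_right hF, D.hPP, mul_zero, neg_zero]
  rw [X, suAct_mul, suAct_mul, sh_apply hF (D.hPP l l) v1 o1 p.hd0 p.hd, sh_apply hF (D.hPP l l) v2 o2 p.hd0 p.hd,
    sh_apply hF (D.hPP l l) v3 o3 p.hd0 p.hd]
  simp only [h_add_left hF, h_add_right hF, h_smul_left hF, h_smul_right hF, h_neg_left hF, h_neg_right hF,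
    h_sub_left hF, D.hPP, D.hRR, D.hPR, D.hRP (hF := hF), D.hPE, D.hRE, D.hEP (hF := hF), D.hER (hF := hF), σσ hF,
    map_neg, map_one, show (0 = l) ↔ False from ⟨fun e => by omega, False.elim⟩,
    show (l = 0) ↔ False from ⟨fun e => by omega, False.elim⟩, Nat.zero_le, and_self, false_and, if_true, if_false]
  module

/-- The regular unipotent element. -/
noncomputable def U : Cfsg.SU n F q := X D p * LP D p l

theorem U_P_zero (hl : 1 ≤ l) : suAct (U D p) (D.P 0) = D.P 0 := by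
  rw [U, suAct_mul, LP_P_zero, X_apply D p hl, D.hPP, D.hPE]; module

theorem U_P (j : ℕ) (hj : j < l) : suAct (U D p) (D.P (j + 1)) = D.P (j + 1) + D.P j := by
  rw [U, suAct_mul, LP_P D p l j hj, if_pos hj, X_apply D p (by omega), h_add_left hF, h_add_left hF,
    D.hPP, D.hPP, D.hPE, D.hPE]
  module

theorem U_R_pair (j : ℕ) (hj : j < l) : suAct (U D p) (D.R j + D.R (j + 1)) = D.R j := by
  rw [U, suAct_mul, LP_R_pair D p l j hj hj.le, X_apply D p (by omega), D.hRP (hF := hF), if_neg (by omega), D.hRE]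
  module

theorem U_R_last (hl : 1 ≤ l) : suAct (U D p) (D.R l) = D.R l + p.a • D.E + p.b • D.P l := by
  rw [U, suAct_mul, LP_R_ge D p l l le_rfl, X_apply D p hl, D.hRP (hF := hF), if_pos ⟨rfl, le_rfl⟩, D.hRE]
  module

theorem U_E (hl : 1 ≤ l) : suAct (U D p) D.E = D.E - σ p.a • D.P l := by
  rw [U, suAct_mul, LP_E, X_apply D p hl, D.hEP (hF := hF), D.hEE]
  module

/-- The element exchanging the two halves of one plane. -/
noncomputable def Ji (i : ℕ) : Cfsg.SU n F q :=
  T hF (D.P i) (-p.d⁻¹) * T hF (D.R i) p.d * T hF (D.P i) (-p.d⁻¹)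

theorem skew_inv : σ (-p.d⁻¹) = - -p.d⁻¹ := by rw [map_neg, map_inv₀, p.hd, inv_neg]

theorem Ji_fix {i : ℕ} {x : Fin n → F} (h1 : hf x (D.P i) = 0) (h2 : hf x (D.R i) = 0) :
    suAct (Ji D p i) x = x := by
  rw [Ji, suAct_mul, suAct_mul, T_fix hF h1, T_fix hF h2, T_fix hF h1]

theorem Ji_P {i : ℕ} (h : i ≤ l) : suAct (Ji D p i) (D.P i) = p.d • D.R i := by
  rw [Ji, suAct_mul, suAct_mul, T_fix hF (D.hPP i i), T_apply hF (D.hRR i i) p.hd,
    T_apply hF (D.hPP i i) (skew_inv p), h_add_left hF, h_smul_left hF, D.hPP, D.hPR, if_pos ⟨rfl, h⟩,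
    D.hRP (hF := hF), if_pos ⟨rfl, h⟩]
  have := p.hd0
  match_scalars <;> field_simp <;> ring

theorem Ji_R {i : ℕ} (h : i ≤ l) : suAct (Ji D p i) (D.R i) = -(p.d⁻¹ • D.P i) := by
  rw [Ji, suAct_mul, suAct_mul, T_apply hF (D.hPP i i) (skew_inv p), T_apply hF (D.hRR i i) p.hd,
    T_apply hF (D.hPP i i) (skew_inv p)]
  simp only [h_add_left hF, h_smul_left hF, D.hPP, D.hRR, D.hPR, D.hRP (hF := hF),
    h, and_self, if_true]
  have := p.hd0
  match_scalars <;> field_simp <;> ring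

/-- The product of the plane exchanges. -/
noncomputable def JP : ℕ → Cfsg.SU n F q
  | 0 => 1
  | k + 1 => Ji D p k * JP k

theorem JP_fix : ∀ (k : ℕ) (x : Fin n → F), (∀ i < k, hf x (D.P i) = 0 ∧ hf x (D.R i) = 0) → suAct (JP D p k) x = x := by
  intro k
  induction k with
  | zero => intro x _; exact suAct_one _
  | succ k ih =>
    intro x hx
    rw [JP, suAct_mul, ih x (fun i hi => hx i (by omega)), Ji_fix D p (hx k (by omega)).1 (hx k (by omega)).2]

theorem JP_PR : ∀ (k j : ℕ), j < k → k ≤ l + 1 → suAct (JP D p k) (D.P j) = p.d • D.R j ∧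
    suAct (JP D p k) (D.R j) = -(p.d⁻¹ • D.P j) := by
  intro k
  induction k with
  | zero => intro j h; omega
  | succ k ih =>
    intro j hj hk
    rw [JP, suAct_mul, suAct_mul]
    rcases Nat.lt_succ_iff_lt_or_eq.1 hj with h | rfl
    · obtain ⟨e1, e2⟩ := ih j h (by omega)
      have f : ∀ (i : ℕ), i ≠ j → hf (D.P j) (D.R i) = 0 ∧ hf (D.R j) (D.P i) = 0 := fun i hi =>
        ⟨by rw [D.hPR, if_neg (fun e => hi e.1.symm)], by rw [D.hRP (hF := hF), if_neg (fun e => hi e.1.symm)]⟩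
      have hne : k ≠ j := by omega
      rw [e1, e2]
      constructor
      · refine Ji_fix D p ?_ ?_
        · rw [h_smul_left hF, (f k hne).2, mul_zero]
        · rw [h_smul_left hF, D.hRR, mul_zero]
      · refine Ji_fix D p ?_ ?_
        · rw [h_neg_left hF, h_smul_left hF, D.hPP, mul_zero, neg_zero]
        · rw [h_neg_left hF, h_smul_left hF, (f k hne).1, mul_zero, neg_zero]
    · rw [JP_fix D p j (D.P j) (fun i hi => ⟨D.hPP _ _, by rw [D.hPR, if_neg]; omega⟩),
        JP_fix D p j (D.R j) (fun i hi => ⟨by rw [D.hRP (hF := hF), if_neg]; omega, D.hRR _ _⟩)]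
      exact ⟨Ji_P D p (by omega), Ji_R D p (by omega)⟩

/-- The conjugate of `U` by the exchange of the two halves. -/
noncomputable def V : Cfsg.SU n F q := JP D p (l + 1) * U D p * (JP D p (l + 1))⁻¹

theorem V_J (x : Fin n → F) :
    suAct (V D p) (suAct (JP D p (l + 1)) x) = suAct (JP D p (l + 1)) (suAct (U D p) x) := by
  rw [V, suAct_mul, suAct_mul, suAct_inv_suAct]

theorem J_P {j : ℕ} (h : j ≤ l) : suAct (JP D p (l + 1)) (D.P j) = p.d • D.R j := (JP_PR D p _ j (by omega) le_rfl).1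

theorem J_R {j : ℕ} (h : j ≤ l) : suAct (JP D p (l + 1)) (D.R j) = -(p.d⁻¹ • D.P j) :=
  (JP_PR D p _ j (by omega) le_rfl).2

theorem J_E : suAct (JP D p (l + 1)) D.E = D.E :=
  JP_fix D p _ _ (fun i _ => ⟨D.hEP (hF := hF) i, D.hER (hF := hF) i⟩)

theorem V_R (j : ℕ) (hj : j < l) : suAct (V D p) (D.R (j + 1)) = D.R (j + 1) + D.R j := by
  have h := V_J D p (D.P (j + 1))
  rw [J_P D p (by omega), U_P D p j hj, suAct_add, J_P D p (by omega), J_P D p (by omega), suAct_smul, ← smul_add] at h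
  exact smul_right_injective _ p.hd0 h

theorem V_P_pair (j : ℕ) (hj : j < l) : suAct (V D p) (D.P j + D.P (j + 1)) = D.P j := by
  have h := V_J D p (D.R j + D.R (j + 1))
  rw [U_R_pair D p j hj, suAct_add, J_R D p (by omega), J_R D p (by omega), ← neg_add, ← smul_add, ← neg_smul,
    suAct_smul, ← neg_smul] at h
  exact smul_right_injective _ (neg_ne_zero.2 (inv_ne_zero p.hd0)) h

theorem V_P_last (hl : 1 ≤ l) :
    suAct (V D p) (D.P l) = D.P l - (p.d * p.a) • D.E - (p.d * p.d * p.b) • D.R l := by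
  have h := V_J D p (D.R l)
  rw [U_R_last D p hl, suAct_add, suAct_add, suAct_smul, suAct_smul, J_R D p le_rfl, J_P D p le_rfl, J_E, ← neg_smul,
    suAct_smul] at h
  have h' := congrArg (fun x => (-p.d) • x) h
  simp only [smul_smul, neg_mul_neg, mul_inv_cancel₀ p.hd0, one_smul] at h'
  rw [h']
  have := p.hd0
  match_scalars <;> field_simp

theorem V_E (hl : 1 ≤ l) : suAct (V D p) D.E = D.E - (σ p.a * p.d) • D.R l := by
  have h := V_J D p D.E
  rw [J_E, U_E D p hl, suAct_sub, suAct_smul, J_E, J_P D p le_rfl, smul_smul] at h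
  exact h

theorem U_conj_T (hl : 1 ≤ l) {c : F} (hc : σ c = -c) :
    ∃ h : Cfsg.SU n F q, h * U D p * h⁻¹ = T hF (D.P 0) c * U D p := by
  obtain ⟨s, hs⟩ := exists_trace_eq hF (c := (1 : F)) (one_pow q)
  have hs' : s + σ s = 1 := hs
  set h0 := sh hF p.d (D.P 0) (D.P 1) (c * s) with hh0
  have key : U D p * h0 * (U D p)⁻¹ = h0 * T hF (D.P 0) c := by
    have e : U D p * h0 * (U D p)⁻¹ = sh hF p.d (D.P 0) (D.P 1 + D.P 0) (c * s) := by
      have e1 : U D p * h0 * (U D p)⁻¹ =
          (U D p * T hF (D.P 1 + (c * s / p.d) • D.P 0) p.d * (U D p)⁻¹) * (U D p * T hF (D.P 1) (-p.d) * (U D p)⁻¹) *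
          (U D p * T hF (D.P 0) (-(c * s / p.d * σ (c * s / p.d) * p.d)) * (U D p)⁻¹) := by
        rw [hh0, sh]; group
      rw [e1, T_conj, T_conj, T_conj, suAct_add, suAct_smul, U_P_zero D p hl, U_P D p 0 hl, sh]
    rw [e]
    refine suAct_ext fun x => ?_
    have i1 : hf (D.P 1 + D.P 0) (D.P 1 + D.P 0) = 0 := by
      simp only [h_add_left hF, h_add_right hF, D.hPP, add_zero]
    rw [suAct_mul, sh_apply hF (D.hPP 0 0) (D.hPP 1 1) (D.hPP 0 1) p.hd0 p.hd, T_apply hF (D.hPP 0 0) hc,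
      sh_apply hF (D.hPP 0 0) i1 (by rw [h_add_right hF, D.hPP, D.hPP, add_zero]) p.hd0 p.hd]
    simp only [h_add_left hF, h_add_right hF, h_smul_left hF, D.hPP, map_mul, hc]
    match_scalars
    · ring
    · linear_combination (c * hf x (D.P 0)) * hs'
    · ring
  refine ⟨h0⁻¹, ?_⟩
  rw [inv_inv, mul_assoc, mul_inv_eq_iff_eq_mul.1 key]
  simp only [← mul_assoc, inv_mul_cancel, one_mul]

/-- The frame in chain order. -/
def e (k : ℕ) : Fin n → F := if k ≤ l then D.P k else if k = l + 1 then D.E else D.R (2 * l + 2 - k)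

theorem N_pow (hl : 1 ≤ l) (m : ℕ) : m ≤ 2 * l + 2 →
    (∃ c : F, c ≠ 0 ∧ (((U D p : Matrix.SpecialLinearGroup (Fin n) F) : Matrix (Fin n) (Fin n) F) - 1) ^ m *ᵥ e D m = c • D.P 0) ∧
    (((U D p : Matrix.SpecialLinearGroup (Fin n) F) : Matrix (Fin n) (Fin n) F) - 1) ^ (m + 1) *ᵥ e D m = 0 := by
  set N := ((U D p : Matrix.SpecialLinearGroup (Fin n) F) : Matrix (Fin n) (Fin n) F) - 1 with hN
  have hNU : ∀ x, N *ᵥ x = suAct (U D p) x - x := fun x => by
    rw [hN, Matrix.sub_mulVec, Matrix.one_mulVec, suAct]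
  have hNP : N *ᵥ D.P 0 = 0 := by rw [hNU, U_P_zero D p hl, sub_self]
  have up : ∀ k, N ^ (k + 1) *ᵥ e D k = 0 → N ^ (k + 1 + 1) *ᵥ e D k = 0 := fun k h => by
    rw [pow_succ' N (k + 1), ← Matrix.mulVec_mulVec, h, Matrix.mulVec_zero]
  induction m using Nat.strong_induction_on with
  | _ m ih =>
    intro hm
    rcases m with _ | m
    · refine ⟨⟨1, one_ne_zero, by rw [pow_zero, Matrix.one_mulVec, e, if_pos (Nat.zero_le _), one_smul]⟩, ?_⟩
      rw [zero_add, pow_one, e, if_pos (Nat.zero_le _), hNP]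
    obtain ⟨⟨c, hc, h1⟩, h2⟩ := ih m (by omega) (by omega)
    have step : ∀ (c' : F) (rest : Fin n → F), c' ≠ 0 → N *ᵥ e D (m + 1) = c' • e D m + rest →
        N ^ m *ᵥ rest = 0 → N ^ (m + 1) *ᵥ rest = 0 →
        (∃ c : F, c ≠ 0 ∧ N ^ (m + 1) *ᵥ e D (m + 1) = c • D.P 0) ∧ N ^ (m + 1 + 1) *ᵥ e D (m + 1) = 0 := by
      intro c' rest hc' hN' r1 r2
      refine ⟨⟨c' * c, mul_ne_zero hc' hc, ?_⟩, ?_⟩
      · rw [pow_succ, ← Matrix.mulVec_mulVec, hN', Matrix.mulVec_add, Matrix.mulVec_smul, h1, r1, add_zero, smul_smul]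
      · rw [pow_succ, ← Matrix.mulVec_mulVec, hN', Matrix.mulVec_add, Matrix.mulVec_smul, h2, r2, smul_zero, add_zero]
    rcases lt_trichotomy m l with hlt | rfl | hgt
    · refine step 1 0 one_ne_zero ?_ (Matrix.mulVec_zero _) (Matrix.mulVec_zero _)
      rw [hNU, e, if_pos (by omega), e, if_pos hlt.le, U_P D p m hlt]; module
    · refine step (-σ p.a) 0 ?_ ?_ (Matrix.mulVec_zero _) (Matrix.mulVec_zero _)
      · exact neg_ne_zero.2 fun h => p.ha (by rw [← σσ hF p.a, h, map_zero])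
      · rw [hNU, e, if_neg (by omega), if_pos rfl, e, if_pos le_rfl, U_E D p hl]; module
    · rcases (show m = l + 1 ∨ l + 1 < m by omega) with rfl | hm2
      · obtain ⟨-, hP⟩ := ih l (by omega) (by omega)
        refine step p.a (p.b • e D l) p.ha ?_ ?_ ?_
        · rw [hNU, e, if_neg (by omega), if_neg (by omega), show 2 * l + 2 - (l + 1 + 1) = l by omega, e,
            if_neg (by omega), if_pos rfl, e, if_pos le_rfl, U_R_last D p hl]
          module
        · rw [Matrix.mulVec_smul, hP, smul_zero]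
        · rw [Matrix.mulVec_smul, up l hP, smul_zero]
      · have hp := U_R_pair D p (2 * l + 2 - (m + 1)) (by omega)
        rw [show 2 * l + 2 - (m + 1) + 1 = 2 * l + 2 - m by omega, suAct_add] at hp
        have e1 : e D (m + 1) = D.R (2 * l + 2 - (m + 1)) := by rw [e, if_neg (by omega), if_neg (by omega)]
        have e2 : e D m = D.R (2 * l + 2 - m) := by rw [e, if_neg (by omega), if_neg (by omega)]
        refine step (-1) (-(N *ᵥ e D m)) (neg_ne_zero.2 one_ne_zero) ?_ ?_ ?_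
        · rw [e1, e2, hNU, hNU, eq_sub_of_add_eq hp]; module
        · rw [Matrix.mulVec_neg, Matrix.mulVec_mulVec, ← pow_succ, h2, neg_zero]
        · rw [Matrix.mulVec_neg, Matrix.mulVec_mulVec, ← pow_succ, up m h2, neg_zero]

theorem U_regular (hl : 1 ≤ l) (hn : n = 2 * l + 3) :
    IsNilpotent (((U D p : Matrix.SpecialLinearGroup (Fin n) F) : Matrix (Fin n) (Fin n) F) - 1) ∧
    (((U D p : Matrix.SpecialLinearGroup (Fin n) F) : Matrix (Fin n) (Fin n) F) - 1) ^ (n - 1) ≠ 0 := by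
  set N := ((U D p : Matrix.SpecialLinearGroup (Fin n) F) : Matrix (Fin n) (Fin n) F) - 1 with hN
  constructor
  · refine ⟨2 * l + 3, Matrix.ext_iff_mulVec.2 fun v => ?_⟩
    have big : ∀ k, k ≤ 2 * l + 2 → N ^ (2 * l + 3) *ᵥ e D k = 0 := fun k hk => by
      rw [show 2 * l + 3 = (2 * l + 3 - (k + 1)) + (k + 1) by omega, pow_add, ← Matrix.mulVec_mulVec,
        (N_pow D p hl k hk).2, Matrix.mulVec_zero]
    rw [Matrix.zero_mulVec, D.decomp v, Matrix.mulVec_add, Matrix.mulVec_sum, Finset.sum_eq_zero, zero_add,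
      Matrix.mulVec_smul]
    · have := big (l + 1) (by omega)
      rw [e, if_neg (by omega), if_pos rfl] at this
      rw [this, smul_zero]
    · intro i hi
      rw [Finset.mem_range] at hi
      have hP := big i (by omega)
      rw [e, if_pos (by omega)] at hP
      have hR := big (2 * l + 2 - i) (by omega)
      rw [e, if_neg (by omega), if_neg (by omega), show 2 * l + 2 - (2 * l + 2 - i) = i by omega] at hR
      rw [Matrix.mulVec_add, Matrix.mulVec_smul, Matrix.mulVec_smul, hP, hR, smul_zero, smul_zero, add_zero]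
  · intro h
    obtain ⟨⟨c, hc, h1⟩, -⟩ := N_pow D p hl (2 * l + 2) le_rfl
    rw [show 2 * l + 2 = n - 1 by omega, h, Matrix.zero_mulVec] at h1
    have h0 : D.P 0 = 0 := (smul_eq_zero.1 h1.symm).resolve_left hc
    have := D.hPR 0 0
    rw [if_pos ⟨rfl, Nat.zero_le _⟩, h0, h_zero_left hF] at this
    exact zero_ne_one this

end Cfsg.Agent.RegUnip.SU
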