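/-
A subgroup of SU_n containing `U`, `V` and one root element contains every transvection.
Main results (namespace `Cfsg.Agent.RegUnip.SU`): `full_P0`, `eq_top_of_mem`.
-/
import Cfsg.Agent.Lib.RegUnip.SUBase

set_option autoImplicit false
set_option linter.unusedSectionVars false

namespace Cfsg.Agent.RegUnip.SU

open Cfsg.Agent.Unitary
open scoped Matrix

variable {F : Type*} [Field F] [Fintype F] {q n : ℕ} {hF : Fintype.card F = q ^ 2}

local notation "hf" => Cfsg.hermForm n F q
local notation "σ" => Cfsg.Agent.Unitary.conjHom hF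

variable {M : Subgroup (Cfsg.SU n F q)}

variable (hF M) in
/-- All transvections with centre `v` lie in `M`. -/
def Full (v : Fin n → F) : Prop := ∀ c, σ c = -c → T hF v c ∈ M

theorem conj_iff {g : Cfsg.SU n F q} (hg : g ∈ M) (v : Fin n → F) (c : F) :
    T hF (suAct g v) c ∈ M ↔ T hF v c ∈ M := by
  rw [← T_conj]
  constructor
  · intro h
    have := mul_mem (mul_mem (inv_mem hg) h) hg
    rwa [show g⁻¹ * (g * T hF v c * g⁻¹) * g = T hF v c by group] at this
  · intro h
    exact mul_mem (mul_mem hg h) (inv_mem hg)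

theorem Full.conj {g : Cfsg.SU n F q} (hg : g ∈ M) {v : Fin n → F} (h : Full hF M v) :
    Full hF M (suAct g v) := fun c hc => (conj_iff hg v c).2 (h c hc)

theorem Full.of_conj {g : Cfsg.SU n F q} (hg : g ∈ M) {v : Fin n → F} (h : Full hF M (suAct g v)) :
    Full hF M v := fun c hc => (conj_iff hg v c).1 (h c hc)

theorem Full.smul {v : Fin n → F} (h : Full hF M v) {a : F} (ha : a ≠ 0) : Full hF M (a • v) := fun c hc => by
  rw [T_smul hF v ha]
  exact h _ (σ_skew_mul hF hc (σ_norm hF a))

theorem Full.sh {d : F} (hd : σ d = -d) {u v : Fin n → F} (hu : Full hF M u) (hv : Full hF M v) {a : F}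
    (hw : Full hF M (v + (a / d) • u)) : sh hF d u v a ∈ M := sh_mem hF hd hu hv hw

variable {l : ℕ} (D : Fr (F := F) q n l) (p : Par (F := F) hF)

/-- The standard centres are one orbit. -/
theorem climb (hU : U D p ∈ M) (hV : V D p ∈ M) {c : F} (h0 : T hF (D.P 0) c ∈ M) :
    (∀ j ≤ l, T hF (D.P j) c ∈ M) ∧ ∀ j < l, T hF (D.P j + D.P (j + 1)) c ∈ M := by
  have hP : ∀ j ≤ l, T hF (D.P j) c ∈ M := by
    intro j
    induction j with
    | zero => intro _; exact h0
    | succ j ih =>
      intro hj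
      refine (conj_iff (mul_mem hV hU) _ c).1 ?_
      rw [suAct_mul, U_P D p j hj, add_comm, V_P_pair D p j hj]
      exact ih (by omega)
  exact ⟨hP, fun j hj => (conj_iff hV _ c).1 (by rw [V_P_pair D p j hj]; exact hP j hj.le)⟩

/-- The group of translations of the last pair is everything; so the root group at `P 0` is full. -/
theorem full_P0 {i : ℕ} (D : Fr (F := F) q n (i + 1)) (p : Par (F := F) hF) (hU : U D p ∈ M) (hV : V D p ∈ M)
    (h0 : T hF (D.P 0) p.d ∈ M)
    (hgen : ∀ x : F, σ x = x → x ≠ 0 →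
      ∃ k : ℕ, x = (p.d * p.d * ((p.d * p.d * p.b) * σ (p.d * p.d * p.b))) ^ k) :
    Full hF M (D.P 0) ∧ (∀ j ≤ i + 1, Full hF M (D.P j)) ∧
      (∀ s : F, Full hF M (D.P (i + 1) + s • D.P i)) ∧
      (∀ a : F, Full hF M (suAct (V D p) (D.P (i + 1)) + a • D.P i)) ∧
      (∀ a : F, Full hF M (suAct (U D p) (suAct (V D p) (D.P (i + 1))) + a • D.P i)) := by
  classical
  set t := p.d with ht
  have ht0 : t ≠ 0 := p.hd0
  have hts : σ t = -t := p.hd
  obtain ⟨hZP, hZPP⟩ := climb D p hU hV h0
  set P := D.P i with hP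
  set P' := D.P (i + 1) with hP'
  set z := suAct (V D p) P' with hz
  set y := suAct (U D p) z with hy
  set f := -(t * t * p.b) with hf_def
  set e := -(t * p.a) with he_def
  have hzval : z = P' + e • D.E + f • D.R (i + 1) := by
    rw [hz, hP', V_P_last D p (by omega), he_def, hf_def]; module
  have hyval : y = (P' + P) + e • (D.E - σ p.a • P') + f • (D.R (i + 1) + p.a • D.E + p.b • P') := by
    rw [hy, hzval, suAct_add, suAct_add, suAct_smul, suAct_smul, hP', hP, U_P D p i (by omega), U_E D p (by omega),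
      U_R_last D p (by omega)]
  have hb0 : p.b ≠ 0 := fun h => p.ha (by
    have := p.hab
    rw [h, map_zero, zero_add, zero_add] at this
    rcases mul_eq_zero.1 this with h' | h'
    · exact h'
    · rw [← σσ hF p.a, h', map_zero])
  have hf0 : f ≠ 0 := neg_ne_zero.2 (mul_ne_zero (mul_ne_zero ht0 ht0) hb0)
  have i1 : ¬ (i = i + 1 ∧ i ≤ i + 1) := by omega
  have i2 : ¬ (i + 1 = i ∧ i + 1 ≤ i + 1) := by omega
  have i3 : i + 1 = i + 1 ∧ i + 1 ≤ i + 1 := ⟨rfl, le_rfl⟩
  have PP : hf P P = 0 := D.hPP _ _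
  have PP' : hf P P' = 0 := D.hPP _ _
  have P'P : hf P' P = 0 := D.hPP _ _
  have P'P' : hf P' P' = 0 := D.hPP _ _
  have Pz : hf P z = 0 := by
    rw [hzval, h_add_right hF, h_add_right hF, h_smul_right hF, h_smul_right hF, PP', D.hPE, D.hPR, if_neg i1]; ring
  have zP : hf z P = 0 := h_symm_zero hF Pz
  have P'z : hf P' z = σ f := by
    rw [hzval, h_add_right hF, h_add_right hF, h_smul_right hF, h_smul_right hF, P'P', D.hPE, D.hPR, if_pos i3]; ring
  have zP' : hf z P' = f := by rw [h_symm hF P' z, P'z, σσ hF]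
  have zz : hf z z = 0 := by rw [hz, suAct_herm, P'P']
  have Py : hf P y = 0 := by
    rw [hyval]
    simp only [h_add_right hF, h_sub_right hF, h_smul_right hF, hP, hP', D.hPP, D.hPE, D.hPR, if_neg i1]
    ring
  have yP : hf y P = 0 := h_symm_zero hF Py
  have P'y : hf P' y = σ f := by
    rw [hyval]
    simp only [h_add_right hF, h_sub_right hF, h_smul_right hF, hP, hP', D.hPP, D.hPE, D.hPR, le_refl, and_self, if_true]
    ring
  have yy : hf y y = 0 := by rw [hy, suAct_herm, zz]
  set k := hf y z with hk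
  have Zz : T hF z t ∈ M := (conj_iff hV _ t).2 (hZP (i + 1) le_rfl)
  have Zy : T hF y t ∈ M := (conj_iff hU _ t).2 Zz
  have hts' : σ (-t) = - -t := by rw [map_neg, hts]
  have minus : ∀ v, T hF v t ∈ M → T hF v (-t) ∈ M := fun v h => by rw [← T_inv hF hts]; exact inv_mem h
  -- centre shifts give translations
  have tr : ∀ (w x : Fin n → F) (c : F), hf w w = 0 → hf P w = 0 → hf x P = 0 →
      suAct (T hF (w + c • P) t * T hF w (-t)) x = x + (t * c * hf x w) • P := by
    intro w x c ww Pw xP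
    rw [T_add_smul hF PP ww Pw hts c x, xP]
    module
  let A : F → Prop := fun a => ∃ g ∈ M, suAct g z = z + a • P ∧ suAct g P = P
  let B : F → Prop := fun s => ∃ g ∈ M, suAct g P' = P' + s • P ∧ suAct g P = P
  have fixP : ∀ (w : Fin n → F) (c : F), hf w w = 0 → hf P w = 0 →
      suAct (T hF (w + c • P) t * T hF w (-t)) P = P := fun w c ww Pw => by
    rw [tr w P c ww Pw PP, Pw, mul_zero, zero_smul, add_zero]
  have gA : ∀ a, A a → T hF (z + a • P) t * T hF z (-t) ∈ M := by
    rintro a ⟨g, hg, he, -⟩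
    refine mul_mem ?_ (minus z Zz)
    rw [← he]; exact (conj_iff hg z t).2 Zz
  have AB : ∀ a, A a → B (t * σ f * a) := fun a ha => ⟨_, gA a ha, by
    rw [tr z P' a zz Pz P'P, P'z]; module, fixP z a zz Pz⟩
  have AB' : ∀ a, A a → B (t * σ f * (t * k * a)) := by
    intro a ha
    have e1 : suAct (T hF (z + a • P) t * T hF z (-t)) y = y + (t * a * k) • P := tr z y a zz Pz yP
    have h2 : T hF (y + (t * a * k) • P) t ∈ M := by rw [← e1]; exact (conj_iff (gA a ha) y t).2 Zy
    exact ⟨_, mul_mem h2 (minus y Zy), by rw [tr y P' _ yy Py P'P, P'y]; module, fixP y _ yy Py⟩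
  have BA' : ∀ s, T hF (P' + s • P) t ∈ M → A (t * f * s) := fun s hs =>
    ⟨_, mul_mem hs (minus P' (hZP (i + 1) le_rfl)), by rw [tr P' z s P'P' PP' zP, zP']; module,
      fixP P' s P'P' PP'⟩
  have BA : ∀ s, B s → A (t * f * s) := by
    rintro s ⟨g, hg, he, -⟩
    refine BA' s ?_
    rw [← he]; exact (conj_iff hg P' t).2 (hZP (i + 1) le_rfl)
  let K : AddSubgroup F :=
    { carrier := {s | B s}
      zero_mem' := ⟨1, one_mem _, by rw [suAct_one, zero_smul, add_zero], suAct_one _⟩
      add_mem' := by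
        rintro a b ⟨g, hg, ga, gP⟩ ⟨h, hh, hb, hP2⟩
        refine ⟨g * h, mul_mem hg hh, ?_, by rw [suAct_mul, hP2, gP]⟩
        rw [suAct_mul, hb, suAct_add, suAct_smul, ga, gP, add_smul, add_assoc]
      neg_mem' := by
        rintro a ⟨g, hg, ga, gP⟩
        have gP' : suAct g⁻¹ P = P := by conv_lhs => rw [← gP, suAct_inv_suAct]
        refine ⟨g⁻¹, inv_mem hg, ?_, gP'⟩
        have h := congrArg (suAct g⁻¹) ga
        rw [suAct_inv_suAct, suAct_add, suAct_smul, gP'] at h
        rw [eq_sub_of_add_eq h.symm]; module }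
  set w1 := t * t * (f * σ f) with hw1
  have hw1' : w1 = t * t * ((t * t * p.b) * σ (t * t * p.b)) := by rw [hw1, hf_def, map_neg]; ring
  have hw1fix : σ w1 = w1 := by
    rw [hw1, map_mul, map_mul, hts, σ_norm hF]; ring
  have hw10 : w1 ≠ 0 := mul_ne_zero (mul_ne_zero ht0 ht0) (mul_ne_zero hf0 fun h => hf0 (by rw [← σσ hF f, h, map_zero]))
  let S : Subring F :=
    { carrier := {y | ∀ a ∈ K, y * a ∈ K}
      one_mem' := fun a ha => by rwa [one_mul]
      mul_mem' := fun {x y} hx hy a ha => by rw [mul_assoc]; exact hx _ (hy a ha)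
      zero_mem' := fun a _ => by rw [zero_mul]; exact K.zero_mem
      add_mem' := fun {x y} hx hy a ha => by rw [add_mul]; exact K.add_mem (hx a ha) (hy a ha)
      neg_mem' := fun {x} hx a ha => by rw [neg_mul]; exact K.neg_mem (hx a ha) }
  have hS1 : w1 ∈ S := fun a ha => by
    have h : t * σ f * (t * f * a) ∈ K := AB _ (BA a ha)
    rwa [show w1 * a = t * σ f * (t * f * a) by rw [hw1]; ring]
  set w2 := w1 * (t * k) with hw2
  have hS2 : w2 ∈ S := fun a ha => by
    have h : t * σ f * (t * k * (t * f * a)) ∈ K := AB' _ (BA a ha)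
    rwa [show w2 * a = t * σ f * (t * k * (t * f * a)) by rw [hw2, hw1]; ring]
  have hSK : ∀ x, σ x = x → x ∈ S := by
    intro x hx
    rcases eq_or_ne x 0 with rfl | hx0
    · exact S.zero_mem
    · obtain ⟨m, hm⟩ := hgen x hx hx0
      rw [← hw1'] at hm
      rw [hm]; exact pow_mem hS1 m
  have hk' : k + σ k ≠ 0 := by
    have hzf : f + σ f + e * σ e = 0 := by
      have h := zz
      rw [hzval] at h
      simp only [h_add_left hF, h_add_right hF, h_smul_left hF, h_smul_right hF, hP', D.hPP, D.hRR, D.hPE, D.hRE,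
        D.hEP (hF := hF), D.hER (hF := hF), D.hEE, D.hPR, D.hRP (hF := hF), le_refl, and_self, if_true] at h
      linear_combination h
    have hkv : k = σ f * (1 - e * σ p.a + f * p.b) + σ e * (e + f * p.a) + f := by
      rw [hk, hyval, hzval]
      simp only [h_add_left hF, h_add_right hF, h_sub_left hF, h_sub_right hF, h_smul_left hF, h_smul_right hF, hP, hP',
        D.hPP, D.hRR, D.hPE, D.hRE, D.hEP (hF := hF), D.hER (hF := hF), D.hEE, D.hPR, D.hRP (hF := hF), le_refl, and_self, if_true,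
        if_neg i1, if_neg i2]
      ring
    have : k + σ k = (f * σ f) * (p.b + σ p.b) := by
      rw [hkv]
      simp only [map_add, map_mul, map_sub, map_one, σσ hF]
      linear_combination 2 * hzf
    rw [this]
    refine mul_ne_zero (mul_ne_zero hf0 fun h => hf0 (by rw [← σσ hF f, h, map_zero])) ?_
    intro h
    have := p.hab
    rw [h, zero_add] at this
    rcases mul_eq_zero.1 this with h' | h'
    · exact p.ha h'
    · exact p.ha (by rw [← σσ hF p.a, h', map_zero])
  have hw2' : w2 - σ w2 ≠ 0 := by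
    rw [hw2, map_mul σ w1, hw1fix, map_mul, hts, show w1 * (t * k) - w1 * (-t * σ k) = w1 * t * (k + σ k) by ring]
    exact mul_ne_zero (mul_ne_zero hw10 ht0) hk'
  have hStop : ∀ x, x ∈ S := by
    intro x
    set b := (x - σ x) / (w2 - σ w2) with hbdef
    have hbfix : σ b = b := by
      rw [hbdef, map_div₀, map_sub, map_sub, σσ hF, σσ hF, ← neg_sub x, ← neg_sub w2, neg_div_neg_eq]
    have hafix : σ (x - b * w2) = x - b * w2 := by
      have hmul : b * (w2 - σ w2) = x - σ x := div_mul_cancel₀ _ hw2'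
      rw [map_sub, map_mul, hbfix]
      linear_combination hmul
    have h := S.add_mem (hSK _ hafix) (S.mul_mem (hSK _ hbfix) hS2)
    rwa [sub_add_cancel] at h
  have Bone : B w1 := by
    have h1 : A (t * f * 1) := BA' 1 (by rw [one_smul, add_comm]; exact hZPP i (by omega))
    have := AB _ h1
    rwa [show t * σ f * (t * f * 1) = w1 by rw [hw1]; ring] at this
  have Ball : ∀ s, B s := fun s => by
    have h : s / w1 * w1 ∈ K := hStop (s / w1) w1 Bone
    rwa [div_mul_cancel₀ _ hw10] at h
  have Aall : ∀ a, A a := fun a => by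
    have := BA _ (Ball (a / (t * f)))
    rwa [mul_div_cancel₀ _ (mul_ne_zero ht0 hf0)] at this
  -- full root group
  have key : ∀ c, σ c = -c → T hF P c ∈ M := by
    intro c hc
    obtain ⟨s, hs⟩ := exists_trace_eq hF (c := c / t)
      (by change σ (c / t) = c / t; rw [map_div₀, hc, hts, neg_div_neg_eq])
    have hs' : s + σ s = c / t := hs
    have Z : ∀ u, T hF (P' + u • P) t ∈ M := fun u => by
      obtain ⟨g, hg, he, -⟩ := Ball u
      rw [← he]; exact (conj_iff hg P' t).2 (hZP (i + 1) le_rfl)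
    have h1 : T hF ((P' + (1 : F) • P) + s • P) t * T hF (P' + (1 : F) • P) (-t) ∈ M :=
      mul_mem (by rw [add_assoc, ← add_smul]; exact Z _) (minus _ (Z 1))
    have h2 : T hF (P' + s • P) t * T hF P' (-t) ∈ M := mul_mem (Z s) (minus _ (hZP (i + 1) le_rfl))
    have heq : T hF ((P' + (1 : F) • P) + s • P) t * T hF (P' + (1 : F) • P) (-t) =
        T hF P c * (T hF (P' + s • P) t * T hF P' (-t)) := by
      have i0 : hf (P' + (1 : F) • P) (P' + (1 : F) • P) = 0 := by
        simp only [h_add_left hF, h_add_right hF, h_smul_left hF, h_smul_right hF, PP, PP', P'P, P'P']; ring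
      have i4 : hf P (P' + (1 : F) • P) = 0 := by
        simp only [h_add_right hF, h_smul_right hF, PP, PP']; ring
      refine suAct_ext fun x => ?_
      rw [T_add_smul hF PP i0 i4 hts s x, suAct_mul (T hF P c), T_add_smul hF PP P'P' PP' hts s x, T_apply hF PP hc]
      simp only [h_add_left hF, h_add_right hF, h_smul_left hF, h_smul_right hF, PP, P'P, map_one]
      have hc' : t * (s + σ s) = c := by rw [hs', mul_div_cancel₀ _ ht0]
      match_scalars
      · ring
      · linear_combination (hf x P) * hc'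
      · ring
    rw [heq] at h1
    have h3 := mul_mem h1 (inv_mem h2)
    rwa [mul_inv_cancel_right] at h3
  have h00 : Full hF M (D.P 0) := by
    intro c hc
    have down : ∀ j ≤ i, T hF (D.P j) c ∈ M → T hF (D.P 0) c ∈ M := by
      intro j
      induction j with
      | zero => intro _ h; exact h
      | succ j ih =>
        intro hj h
        refine ih (by omega) ?_
        have := (conj_iff (mul_mem hV hU) _ c).2 h
        rwa [suAct_mul, U_P D p j (by omega), add_comm (D.P (j + 1)), V_P_pair D p j (by omega)] at this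
    exact down i le_rfl (key c hc)
  have hFP : ∀ j ≤ i + 1, Full hF M (D.P j) := fun j hj c hc => (climb D p hU hV (h00 c hc)).1 j hj
  refine ⟨h00, hFP, fun s => ?_, fun a => ?_, fun a => ?_⟩
  · obtain ⟨g, hg, he, -⟩ := Ball s
    rw [← he]
    exact (hFP (i + 1) le_rfl).conj hg
  · obtain ⟨g, hg, he, -⟩ := Aall a
    change Full hF M (z + a • P)
    rw [← he]
    exact ((hFP (i + 1) le_rfl).conj hV).conj hg
  · have hk0 : k ≠ 0 := fun h => hk' (by rw [h, map_zero, add_zero])
    have e1 : suAct (T hF (z + (a / (t * k)) • P) t * T hF z (-t)) y = y + a • P := by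
      rw [tr z y _ zz Pz yP, ← hk, show t * (a / (t * k)) * k = a by field_simp]
    change Full hF M (y + a • P)
    rw [← e1]
    exact (((hFP (i + 1) le_rfl).conj hV).conj hU).conj (gA _ (Aall _))

/-- `Sh w`: vectors in `C` can be shifted by multiples of `w`, up to `P`. -/
def Shiftable (P w : Fin n → F) : Prop :=
  hf w P = 0 ∧ ∀ (r : F) (v : Fin n → F), hf v v = 0 → hf v P ≠ 0 → Full hF M v →
    ∃ c : F, Full hF M (v + r • w + c • P) ∧ hf (v + r • w + c • P) (v + r • w + c • P) = 0

theorem shiftable_of_full {d : F} (hd0 : d ≠ 0) (hd : σ d = -d) {P w : Fin n → F} (hP : hf P P = 0)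
    (hw : hf w w = 0) (hPw : hf P w = 0) (fP : Full hF M P) (fw : ∀ s : F, Full hF M (w + s • P)) :
    Shiftable (hF := hF) (M := M) P w := by
  refine ⟨h_symm_zero hF hPw, fun r v hv hvP hfv => ?_⟩
  set a := σ (-r / hf v P) with ha
  have hmem : sh hF d P w a ∈ M :=
    fP.sh hd (by simpa using fw 0) (fw _)
  have e : suAct (sh hF d P w a) v = v + r • w + (a * hf v w) • P := by
    rw [sh_apply hF hP hw hPw hd0 hd, ha, σσ hF, div_mul_cancel₀ _ hvP]
    module
  refine ⟨a * hf v w, ?_, ?_⟩
  · rw [← e]; exact hfv.conj hmem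
  · rw [← e, suAct_herm]; exact hv

theorem Shiftable.add {P w w' : Fin n → F} (hP : hf P P = 0) (h : Shiftable (hF := hF) (M := M) P w)
    (h' : Shiftable (hF := hF) (M := M) P w') : Shiftable (hF := hF) (M := M) P (w + w') := by
  refine ⟨by rw [h_add_left hF, h.1, h'.1, add_zero], fun r v hv hvP hfv => ?_⟩
  obtain ⟨c, h1, h2⟩ := h.2 r v hv hvP hfv
  obtain ⟨c', h3, h4⟩ := h'.2 r _ h2 (by
    rw [h_add_left hF, h_add_left hF, h_smul_left hF, h_smul_left hF, h.1, hP, mul_zero, mul_zero, add_zero, add_zero]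
    exact hvP) h1
  have e : v + r • w + c • P + r • w' + c' • P = v + r • (w + w') + (c + c') • P := by module
  exact ⟨c + c', e ▸ h3, by rw [← e]; exact h4⟩

theorem Shiftable.smul {P w : Fin n → F} (h : Shiftable (hF := hF) (M := M) P w) (a : F) :
    Shiftable (hF := hF) (M := M) P (a • w) := by
  refine ⟨by rw [h_smul_left hF, h.1, mul_zero], fun r v hv hvP hfv => ?_⟩
  obtain ⟨c, h1, h2⟩ := h.2 (r * a) v hv hvP hfv
  exact ⟨c, by rw [smul_smul]; exact h1, by rw [smul_smul]; exact h2⟩

theorem shiftable_self {P : Fin n → F} (hP : hf P P = 0) : Shiftable (hF := hF) (M := M) P P :=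
  ⟨hP, fun r v hv _ hfv => ⟨-r, by rw [add_assoc, ← add_smul, add_neg_cancel, zero_smul, add_zero]; exact hfv,
    by rw [add_assoc, ← add_smul, add_neg_cancel, zero_smul, add_zero]; exact hv⟩⟩

theorem shiftable_zero {P : Fin n → F} : Shiftable (hF := hF) (M := M) P 0 :=
  ⟨h_zero_left hF P, fun r v hv _ hfv => ⟨0, by rw [smul_zero, zero_smul, add_zero, add_zero]; exact hfv,
    by rw [smul_zero, zero_smul, add_zero, add_zero]; exact hv⟩⟩

/-- Correcting the `P`-coefficient by a transvection. -/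
theorem full_of_shift {P v : Fin n → F} (hP : hf P P = 0) (fP : Full hF M P) (hv : hf v v = 0) (hvP : hf v P ≠ 0)
    {c : F} (hc : hf (v + c • P) (v + c • P) = 0) (h : Full hF M (v + c • P)) : Full hF M v := by
  have hk : σ (-c / hf v P) = - (-c / hf v P) := by
    rw [h_add_left hF, h_add_right hF, h_add_right hF, h_smul_left hF, h_smul_right hF, h_smul_left hF,
      h_smul_right hF, hv, hP, h_symm hF v P] at hc
    have hσ : σ (hf v P) ≠ 0 := fun e => hvP (by rw [← σσ hF (hf v P), e, map_zero])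
    rw [map_div₀, map_neg, ← neg_div, neg_neg, div_eq_div_iff hσ hvP]
    linear_combination -hc
  have := h.conj (fP _ hk)
  rwa [T_apply hF hP hk, h_add_left hF, h_smul_left hF, hP, mul_zero, add_zero, div_mul_cancel₀ _ hvP, add_assoc,
    ← add_smul, add_neg_cancel, zero_smul, add_zero] at this

/-- All transvections lie in the group. -/
theorem full_all {i : ℕ} (D : Fr (F := F) q n (i + 1)) (p : Par (F := F) hF) (hU : U D p ∈ M) (hV : V D p ∈ M)
    (h0 : T hF (D.P 0) p.d ∈ M)
    (hgen : ∀ x : F, σ x = x → x ≠ 0 →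
      ∃ k : ℕ, x = (p.d * p.d * ((p.d * p.d * p.b) * σ (p.d * p.d * p.b))) ^ k)
    (v : Fin n → F) (hv : hf v v = 0) : Full hF M v := by
  classical
  obtain ⟨f00, fP, fPs, fz, fy⟩ := full_P0 D p hU hV h0 hgen
  set d := p.d
  have hd0 : d ≠ 0 := p.hd0
  have hd : σ d = -d := p.hd
  have hRP' := D.hRP (hF := hF)
  -- the last pair
  set P := D.P i with hP
  set P' := D.P (i + 1) with hP'
  set z := suAct (V D p) P' with hz
  set y := suAct (U D p) z with hy
  have i1 : ¬ (i = i + 1 ∧ i ≤ i + 1) := by omega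
  have i2 : ¬ (i + 1 = i ∧ i + 1 ≤ i + 1) := by omega
  have PP : hf P P = 0 := D.hPP _ _
  have hzval : z = P' - (d * p.a) • D.E - (d * d * p.b) • D.R (i + 1) := V_P_last D p (by omega)
  have hyval : y = (P' + P) - (d * p.a) • (D.E - σ p.a • P') - (d * d * p.b) • (D.R (i + 1) + p.a • D.E + p.b • P') := by
    rw [hy, hzval, suAct_sub, suAct_sub, suAct_smul, suAct_smul, hP', hP, U_P D p i (by omega), U_E D p (by omega),
      U_R_last D p (by omega)]
  have hb0 : p.b ≠ 0 := fun h => p.ha (by
    have := p.hab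
    rw [h, map_zero, zero_add, zero_add] at this
    rcases mul_eq_zero.1 this with h' | h'
    · exact h'
    · rw [← σσ hF p.a, h', map_zero])
  let W : Submodule F (Fin n → F) :=
    { carrier := {w | Shiftable (hF := hF) (M := M) P w}
      zero_mem' := shiftable_zero
      add_mem' := fun ha hb => ha.add PP hb
      smul_mem' := fun a _ h => h.smul a }
  have hWP : P ∈ W := shiftable_self PP
  have hWP' : P' ∈ W := shiftable_of_full hd0 hd PP (D.hPP _ _) (D.hPP _ _) (fP i (by omega)) fPs
  have hWz : z ∈ W := shiftable_of_full hd0 hd PP (by rw [hz, suAct_herm]; exact D.hPP _ _)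
    (by rw [hzval, h_sub_right hF, h_sub_right hF, h_smul_right hF, h_smul_right hF, D.hPP, D.hPE, D.hPR, if_neg i1]; ring)
    (fP i (by omega)) fz
  have hWy : y ∈ W := shiftable_of_full hd0 hd PP (by rw [hy, suAct_herm, hz, suAct_herm]; exact D.hPP _ _)
    (by
      rw [hyval]
      simp only [h_add_right hF, h_sub_right hF, h_smul_right hF, hP, hP', D.hPP, D.hPE, D.hPR, if_neg i1]
      ring)
    (fP i (by omega)) fy
  have hWE : D.E ∈ W := by
    have h1 : z - y + P - ((d * d * p.b * p.b - d * p.a * σ p.a)) • P' = (d * d * p.b * p.a) • D.E := by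
      rw [hzval, hyval]; module
    have hne : d * d * p.b * p.a ≠ 0 := mul_ne_zero (mul_ne_zero (mul_ne_zero hd0 hd0) hb0) p.ha
    have h2 := W.smul_mem (d * d * p.b * p.a)⁻¹ (W.sub_mem (W.add_mem (W.sub_mem hWz hWy) hWP) (W.smul_mem (d * d * p.b * p.b - d * p.a * σ p.a) hWP'))
    rwa [h1, smul_smul, inv_mul_cancel₀ hne, one_smul] at h2
  have hWR' : D.R (i + 1) ∈ W := by
    have h1 : P' - z - (d * p.a) • D.E = (d * d * p.b) • D.R (i + 1) := by rw [hzval]; module
    have hne : d * d * p.b ≠ 0 := mul_ne_zero (mul_ne_zero hd0 hd0) hb0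
    have h2 := W.smul_mem (d * d * p.b)⁻¹ (W.sub_mem (W.sub_mem hWP' hWz) (W.smul_mem (d * p.a) hWE))
    rwa [h1, smul_smul, inv_mul_cancel₀ hne, one_smul] at h2
  -- a vector with a nonzero coefficient at R i
  set x := suAct (V D p) z with hx
  have fx : Full hF M x := ((fP (i + 1) le_rfl).conj hV).conj hV
  have hxx : hf x x = 0 := by rw [hx, suAct_herm, hz, suAct_herm]; exact D.hPP _ _
  set f := -(d * d * p.b) with hf_def
  have hf0 : f ≠ 0 := neg_ne_zero.2 (mul_ne_zero (mul_ne_zero hd0 hd0) hb0)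
  obtain ⟨mid, hmid, hxval⟩ : ∃ mid ∈ W, x = f • D.R i + mid := by
    refine ⟨z - (d * p.a) • (D.E - (σ p.a * d) • D.R (i + 1)) - (d * d * p.b) • D.R (i + 1),
      W.sub_mem (W.sub_mem hWz (W.smul_mem _ (W.sub_mem hWE (W.smul_mem _ hWR')))) (W.smul_mem _ hWR'), ?_⟩
    rw [hx]
    conv_lhs => rw [hzval]
    rw [suAct_sub, suAct_sub, suAct_smul, suAct_smul, ← hz, V_E D p (by omega), V_R D p i (by omega), hf_def]
    module
  have RPi : hf (D.R i) P = 1 := by rw [hP, hRP', if_pos ⟨rfl, by omega⟩]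
  have step1 : ∀ w ∈ W, ∀ c : F, hf (D.R i + w + c • P) (D.R i + w + c • P) = 0 → Full hF M (D.R i + w + c • P) := by
    intro w hw c hc
    have hxP : hf x P ≠ 0 := by
      rw [hxval, h_add_left hF, h_smul_left hF, RPi, (hmid : Shiftable (hF := hF) (M := M) P mid).1, mul_one, add_zero]
      exact hf0
    obtain ⟨c', h1, h2⟩ := (W.sub_mem (W.smul_mem f hw) hmid : Shiftable (hF := hF) (M := M) P _).2 1 x hxx hxP fx
    have e1 : x + (1 : F) • (f • w - mid) + c' • P = f • (D.R i + w + (c' / f) • P) := by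
      rw [hxval, smul_add, smul_add, smul_smul, mul_div_cancel₀ _ hf0]; module
    rw [e1] at h1 h2
    have h3 := h1.smul (inv_ne_zero hf0)
    rw [smul_smul, inv_mul_cancel₀ hf0, one_smul] at h3
    rw [h_smul_left hF, h_smul_right hF] at h2
    have h4 : hf (D.R i + w + (c' / f) • P) (D.R i + w + (c' / f) • P) = 0 :=
      ((mul_eq_zero.1 h2).resolve_left hf0 |> mul_eq_zero.1).resolve_left
        (fun h => hf0 (by rw [← σσ hF f, h, map_zero]))
    refine full_of_shift PP (fP i (by omega)) hc ?_ (c := c' / f - c) ?_ ?_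
    · rw [h_add_left hF, h_add_left hF, h_smul_left hF, RPi, (hw : Shiftable (hF := hF) (M := M) P w).1, PP,
        mul_zero, add_zero, add_zero]
      exact one_ne_zero
    · rwa [add_assoc, ← add_smul, add_sub_cancel]
    · rwa [add_assoc, ← add_smul, add_sub_cancel]
  have fRi : Full hF M (D.R i) := by
    have h := step1 0 W.zero_mem 0 (by rw [zero_smul, add_zero, add_zero]; exact D.hRR _ _)
    rwa [zero_smul, add_zero, add_zero] at h
  -- all the R
  have fR : ∀ j ≤ i + 1, Full hF M (D.R j) := by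
    have top : Full hF M (D.R (i + 1)) := Full.of_conj (mul_mem hU hV) (by
      rw [suAct_mul, V_R D p i (by omega), add_comm (D.R (i + 1)), U_R_pair D p i (by omega)]; exact fRi)
    have down : ∀ m ≤ i + 1, Full hF M (D.R (i + 1 - m)) := by
      intro m
      induction m with
      | zero => intro _; exact top
      | succ m ih =>
        intro hm
        have h := (ih (by omega)).conj (mul_mem hU hV)
        rwa [show i + 1 - m = (i + 1 - (m + 1)) + 1 by omega, suAct_mul, V_R D p _ (by omega),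
          add_comm (D.R (i + 1 - (m + 1) + 1)), U_R_pair D p _ (by omega)] at h
    intro j hj
    have := down (i + 1 - j) (by omega)
    rwa [show i + 1 - (i + 1 - j) = j by omega] at this
  -- the lines of every pair
  have PPs : ∀ j ≤ i, ∀ s : F, Full hF M (D.P (j + 1) + s • D.P j) := by
    have down : ∀ m ≤ i, ∀ s : F, Full hF M (D.P (i - m + 1) + s • D.P (i - m)) := by
      intro m
      induction m with
      | zero => intro _ s; exact fPs s
      | succ m ih =>
        intro hm s
        have h := (ih (by omega) s).conj (mul_mem hV hU)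
        rw [show i - m = i - (m + 1) + 1 by omega, suAct_mul, suAct_add, suAct_smul, suAct_add, suAct_smul,
          U_P D p _ (by omega), U_P D p _ (by omega), add_comm (D.P (i - (m + 1) + 1 + 1)),
          V_P_pair D p _ (by omega), add_comm (D.P (i - (m + 1) + 1)) (D.P (i - (m + 1))), V_P_pair D p _ (by omega)] at h
        exact h
    intro j hj s
    have := down (i - j) (by omega) s
    rwa [show i - (i - j) = j by omega] at this
  have PPs' : ∀ j ≤ i, ∀ s : F, Full hF M (D.P j + s • D.P (j + 1)) := by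
    intro j hj s
    rcases eq_or_ne s 0 with rfl | hs
    · rw [zero_smul, add_zero]; exact fP j (by omega)
    · have h := (PPs j hj s⁻¹).smul hs
      rwa [smul_add, smul_smul, mul_inv_cancel₀ hs, one_smul, add_comm] at h
  have ne1 : ∀ j, ¬ (j = j + 1 ∧ j ≤ i + 1) := fun j => by omega
  have ne2 : ∀ j, ¬ (j + 1 = j ∧ j + 1 ≤ i + 1) := fun j => by omega
  have RPs : ∀ j ≤ i, ∀ a : F, Full hF M (D.R (j + 1) + a • D.P j) := by
    intro j hj a
    have hmem : sh hF d (D.P j) (D.P (j + 1)) a ∈ M :=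
      (fP j (by omega)).sh hd (fP (j + 1) (by omega)) (PPs j hj _)
    have := (fR (j + 1) (by omega)).conj hmem
    rwa [sh_apply hF (D.hPP _ _) (D.hPP _ _) (D.hPP _ _) hd0 hd, hRP', if_pos ⟨rfl, by omega⟩, hRP',
      if_neg (ne2 j), mul_one, mul_zero, zero_smul, sub_zero] at this
  have RRs : ∀ j ≤ i, ∀ c : F, Full hF M (D.R j + c • D.R (j + 1)) := by
    intro j hj c
    have hmem : sh hF d (D.P j) (D.R (j + 1)) (σ (-c)) ∈ M :=
      (fP j (by omega)).sh hd (fR (j + 1) (by omega)) (RPs j hj _)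
    have := (fR j (by omega)).conj hmem
    rwa [sh_apply hF (D.hPP _ _) (D.hRR _ _) (by rw [D.hPR, if_neg (ne1 j)]) hd0 hd, D.hRR, hRP',
      if_pos ⟨rfl, by omega⟩, σσ hF, mul_zero, zero_smul, add_zero, mul_one, neg_smul, sub_neg_eq_add] at this
  have RRs' : ∀ j ≤ i, ∀ c : F, Full hF M (D.R (j + 1) + c • D.R j) := by
    intro j hj s
    rcases eq_or_ne s 0 with rfl | hs
    · rw [zero_smul, add_zero]; exact fR _ (by omega)
    · have h := (RRs j hj s⁻¹).smul hs
      rwa [smul_add, smul_smul, mul_inv_cancel₀ hs, one_smul, add_comm] at h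
  have PRs : ∀ j ≤ i, ∀ a : F, Full hF M (D.P (j + 1) + a • D.R j) := by
    intro j hj a
    have hmem : sh hF d (D.R j) (D.R (j + 1)) a ∈ M :=
      (fR j (by omega)).sh hd (fR (j + 1) (by omega)) (RRs' j hj _)
    have := (fP (j + 1) (by omega)).conj hmem
    rwa [sh_apply hF (D.hRR _ _) (D.hRR _ _) (D.hRR _ _) hd0 hd, D.hPR, if_pos ⟨rfl, by omega⟩, D.hPR,
      if_neg (ne2 j), mul_one, mul_zero, zero_smul, sub_zero] at this
  -- vectors R j + a E + c P j
  have REs : ∀ m ≤ i, ∀ a c : F, hf (D.R (i - m) + a • D.E + c • D.P (i - m)) (D.R (i - m) + a • D.E + c • D.P (i - m)) = 0 →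
      Full hF M (D.R (i - m) + a • D.E + c • D.P (i - m)) := by
    intro m
    induction m with
    | zero => intro _ a c hc; exact step1 _ (W.smul_mem a hWE) c hc
    | succ m ih =>
      intro hm a c hc
      obtain ⟨j, hj⟩ : ∃ j, i - (m + 1) = j := ⟨_, rfl⟩
      have hj' : i - m = j + 1 := by omega
      have hji : j < i := by omega
      rw [hj] at hc ⊢
      have iR : ∀ k, k ≤ i + 1 → hf (D.R k) (D.R k + a • D.E + c • D.P k) = σ c := fun k hk => by
        rw [h_add_right hF, h_add_right hF, h_smul_right hF, h_smul_right hF, D.hRR, D.hRE, hRP', if_pos ⟨rfl, hk⟩]; ring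
      have hiso : hf (D.R (j + 1) + a • D.E + c • D.P (j + 1)) (D.R (j + 1) + a • D.E + c • D.P (j + 1)) = 0 := by
        rw [← hc]
        simp only [h_add_left hF, h_add_right hF, h_smul_left hF, h_smul_right hF, D.hPP, D.hRR, D.hPE, D.hRE,
          D.hEP (hF := hF), D.hER (hF := hF), D.hEE, D.hPR, hRP', eq_self_iff_true, true_and, show j ≤ i + 1 by omega, if_true,
          show j + 1 ≤ i + 1 by omega]
      have h := ih (by omega) a c (by rw [hj']; exact hiso)
      rw [hj'] at h
      -- move R (j+1) to R j and P (j+1) to P j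
      have m1 : sh hF d (D.R j) (D.P (j + 1)) 1 ∈ M := (fR j (by omega)).sh hd (fP _ (by omega)) (PRs j (by omega) _)
      have m2 : sh hF d (D.P j) (D.R (j + 1)) 1 ∈ M := (fP j (by omega)).sh hd (fR _ (by omega)) (RPs j (by omega) _)
      have h2 := (h.conj m1).conj m2
      rw [sh_apply hF (D.hRR j j) (D.hPP _ _) (by rw [hRP', if_neg (ne1 j)]) hd0 hd,
        sh_apply hF (D.hPP _ _) (D.hRR _ _) (by rw [D.hPR, if_neg (ne1 j)]) hd0 hd] at h2
      simp only [h_add_left hF, h_sub_left hF, h_smul_left hF, D.hPP, D.hRR, D.hEP (hF := hF), D.hER (hF := hF),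
        D.hPR, hRP', show ¬ (j = j + 1) by omega, show ¬ (j + 1 = j) by omega, false_and, if_false, eq_self_iff_true, true_and, show j ≤ i + 1 by omega, if_true,
        show j + 1 ≤ i + 1 by omega, map_one] at h2
      have m3 : sh hF d (D.P (j + 1)) (D.P j) (-c) ∈ M := (fP _ (by omega)).sh hd (fP j (by omega)) (PPs' j (by omega) _)
      have h3 := h2.conj m3
      rw [sh_apply hF (D.hPP _ _) (D.hPP _ _) (D.hPP _ _) hd0 hd] at h3
      simp only [h_add_left hF, h_sub_left hF, h_smul_left hF, D.hPP, D.hRR, D.hEP (hF := hF),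
        D.hPR, hRP', show ¬ (j = j + 1) by omega, show ¬ (j + 1 = j) by omega, false_and, if_false, eq_self_iff_true, true_and, show j ≤ i + 1 by omega, if_true,
        show j + 1 ≤ i + 1 by omega] at h3
      convert h3 using 1
      module
  -- shifts at P 0
  have P0P0 : hf (D.P 0) (D.P 0) = 0 := D.hPP _ _
  have line : ∀ j, 1 ≤ j → j ≤ i + 1 → ∀ s : F, Full hF M (D.P j + s • D.P 0) ∧ Full hF M (D.R j + s • D.P 0) := by
    have hPline : ∀ j, 1 ≤ j → j ≤ i + 1 → ∀ s : F, Full hF M (D.P j + s • D.P 0) := by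
      intro j hj
      induction j, hj using Nat.le_induction with
      | base => intro _ s; exact PPs 0 (Nat.zero_le _) s
      | succ j hj ih =>
        intro hji s
        have m1 : sh hF d (D.P (j + 1)) (D.R j) 1 ∈ M := by
          refine (fP _ (by omega)).sh hd (fR j (by omega)) ?_
          rcases eq_or_ne (1 / d : F) 0 with h | h
          · rw [h, zero_smul, add_zero]; exact fR j (by omega)
          · have := (PRs j (by omega) (1 / d)⁻¹).smul h
            rwa [smul_add, smul_smul, mul_inv_cancel₀ h, one_smul, add_comm] at this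
        have m2 : sh hF d (D.P j) (D.R (j + 1)) (-1) ∈ M :=
          (fP j (by omega)).sh hd (fR _ (by omega)) (RPs j (by omega) _)
        have h := ((ih (by omega) s).conj m1).conj m2
        rw [sh_apply hF (D.hPP _ _) (D.hRR _ _) (by rw [D.hPR, if_neg (ne1 j)]) hd0 hd,
          sh_apply hF (D.hPP _ _) (D.hRR _ _) (by rw [D.hPR, if_neg (ne2 j)]) hd0 hd] at h
        simp only [h_add_left hF, h_sub_left hF, h_smul_left hF, D.hPP, D.hPR, show ¬ (j = j + 1) by omega, show ¬ (j + 1 = j) by omega, false_and, if_false,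
          eq_self_iff_true, true_and, show j ≤ i + 1 by omega, if_true, show j + 1 ≤ i + 1 by omega,
          if_neg (show ¬ (0 = j ∧ 0 ≤ i + 1) by omega), if_neg (show ¬ (0 = j + 1 ∧ 0 ≤ i + 1) by omega),
          map_neg, map_one] at h
        convert h using 1
        module
    intro j hj hji s
    refine ⟨hPline j hj hji s, ?_⟩
    have hdi : σ (-d⁻¹) = - -d⁻¹ := by rw [map_neg, map_inv₀, hd, inv_neg]
    have h := ((hPline j hj hji (d * s)).conj (fR j hji d hd)).conj (fP j hji _ hdi)
    rw [T_apply hF (D.hRR _ _) hd, T_apply hF (D.hPP _ _) hdi] at h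
    simp only [h_add_left hF, h_smul_left hF, D.hPP, D.hPR, hRP', eq_self_iff_true, true_and, show j ≤ i + 1 by omega, if_true,
      if_neg (show ¬ (0 = j ∧ 0 ≤ i + 1) by omega)] at h
    have h' := h.smul (inv_ne_zero hd0)
    convert h' using 1
    match_scalars <;> field_simp <;> ring
  let W0 : Submodule F (Fin n → F) :=
    { carrier := {w | Shiftable (hF := hF) (M := M) (D.P 0) w}
      zero_mem' := shiftable_zero
      add_mem' := fun ha hb => ha.add P0P0 hb
      smul_mem' := fun a _ h => h.smul a }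
  have hW0 : ∀ j, 1 ≤ j → j ≤ i + 1 → D.P j ∈ W0 ∧ D.R j ∈ W0 := fun j hj hji =>
    ⟨shiftable_of_full hd0 hd P0P0 (D.hPP _ _) (D.hPP _ _) f00 (fun s => (line j hj hji s).1),
      shiftable_of_full hd0 hd P0P0 (D.hRR _ _) (by rw [D.hPR, if_neg]; omega) f00 (fun s => (line j hj hji s).2)⟩
  have main : ∀ v, hf v v = 0 → hf v (D.P 0) ≠ 0 → Full hF M v := by
    intro v hv hvP
    set r := hf v (D.P 0)
    set a := r⁻¹ * hf v D.E with ha
    obtain ⟨c0, hc0⟩ := exists_trace_eq hF (c := -(a * σ a))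
      (by change σ (-(a * σ a)) = -(a * σ a); rw [map_neg, σ_norm hF])
    have hc0' : c0 + σ c0 = -(a * σ a) := hc0
    have hu0 : hf (D.R 0 + a • D.E + c0 • D.P 0) (D.R 0 + a • D.E + c0 • D.P 0) = 0 := by
      simp only [h_add_left hF, h_add_right hF, h_smul_left hF, h_smul_right hF, D.hPP, D.hRR, D.hPE, D.hRE,
        D.hEP (hF := hF), D.hER (hF := hF), D.hEE, D.hPR, hRP', Nat.zero_le, and_self, if_true]
      linear_combination hc0'
    have fu : Full hF M (D.R 0 + a • D.E + c0 • D.P 0) := by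
      have h := REs i le_rfl a c0
      rw [Nat.sub_self] at h
      exact h hu0
    have huP : hf (D.R 0 + a • D.E + c0 • D.P 0) (D.P 0) ≠ 0 := by
      simp only [h_add_left hF, h_smul_left hF, D.hPP, D.hEP (hF := hF), hRP', Nat.zero_le, and_self, if_true]
      simp
    set w := ∑ j ∈ Finset.range (i + 1), (hf v (D.R (j + 1)) • D.P (j + 1) + hf v (D.P (j + 1)) • D.R (j + 1)) with hw
    have hwW : w ∈ W0 := W0.sum_mem fun j hj => by
      rw [Finset.mem_range] at hj
      exact W0.add_mem (W0.smul_mem _ (hW0 _ (by omega) (by omega)).1) (W0.smul_mem _ (hW0 _ (by omega) (by omega)).2)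
    obtain ⟨c, h1, h2⟩ := (hwW : Shiftable (hF := hF) (M := M) (D.P 0) w).2 r⁻¹ _ hu0 huP fu
    have hdec : v = w + (hf v (D.R 0) • D.P 0 + r • D.R 0) + hf v D.E • D.E := by
      conv_lhs => rw [D.decomp v, Finset.sum_range_succ']
    have e1 : D.R 0 + a • D.E + c0 • D.P 0 + r⁻¹ • w + c • D.P 0 =
        r⁻¹ • (v + (r * (c0 + c) - hf v (D.R 0)) • D.P 0) := by
      conv_rhs => arg 2; arg 1; rw [hdec]
      rw [ha]
      match_scalars <;> field_simp <;> ring
    rw [e1] at h1 h2
    have h3 := h1.smul hvP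
    rw [smul_smul, mul_inv_cancel₀ hvP, one_smul] at h3
    rw [h_smul_left hF, h_smul_right hF] at h2
    have hr : σ r⁻¹ ≠ 0 := fun h => inv_ne_zero hvP (by rw [← σσ hF r⁻¹, h, map_zero])
    have h4 := (mul_eq_zero.1 ((mul_eq_zero.1 h2).resolve_left (inv_ne_zero hvP))).resolve_left hr
    exact full_of_shift P0P0 f00 hv hvP h4 h3
  by_cases hvP : hf v (D.P 0) ≠ 0
  · exact main v hv hvP
  push Not at hvP
  rcases eq_or_ne (hf v (D.R 0)) 0 with hR0 | hR0
  swap
  · -- v meets R 0
    set c := d * hf v (D.R 0)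
    have hmem := fR 0 (by omega) d hd
    refine Full.of_conj hmem (main _ ?_ ?_)
    · rw [suAct_herm]; exact hv
    · rw [T_apply hF (D.hRR _ _) hd, h_add_left hF, h_smul_left hF, hvP, hRP', if_pos ⟨rfl, by omega⟩, zero_add, mul_one]
      exact mul_ne_zero hd0 hR0
  rcases eq_or_ne v 0 with rfl | hv0
  · intro c hc
    have : T hF (0 : Fin n → F) c = 1 := suAct_ext fun x => by
      rw [T_apply hF (h_zero_left hF _) hc, suAct_one, smul_zero, add_zero]
    rw [this]; exact one_mem _
  obtain ⟨w, hw, hvw⟩ : ∃ w, hf w (D.P 0) = 0 ∧ hf v w ≠ 0 := by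
    by_contra hc
    push Not at hc
    apply hv0
    rw [D.decomp v, Finset.sum_eq_zero fun j hj => ?_, zero_add, hc D.E (D.hEP (hF := hF) 0), zero_smul]
    rw [Finset.mem_range] at hj
    rcases eq_or_ne j 0 with rfl | hj0
    · rw [hR0, hvP, zero_smul, zero_smul, add_zero]
    · rw [hc (D.R j) (by rw [hRP', if_neg]; omega), hc (D.P j) (D.hPP _ _), zero_smul, zero_smul, add_zero]
  obtain ⟨b, hb⟩ := exists_trace_eq hF (c := -(hf w w + (hf w (D.R 0) + σ (hf w (D.R 0)))))
    (by
      change σ _ = _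
      simp only [map_neg, map_add, σσ hF, ← h_symm hF w w]
      ring)
  have hb' : b + σ b = -(hf w w + (hf w (D.R 0) + σ (hf w (D.R 0)))) := hb
  set u := D.R 0 + w + b • D.P 0 with hu
  have PwR : hf (D.R 0) w = σ (hf w (D.R 0)) := h_symm hF _ _
  have P0w : hf (D.P 0) w = 0 := h_symm_zero hF hw
  have huu : hf u u = 0 := by
    simp only [hu, h_add_left hF, h_add_right hF, h_smul_left hF, h_smul_right hF, D.hPP, D.hRR, D.hPR, hRP', hw,
      P0w, PwR, Nat.zero_le, and_self, if_true]
    linear_combination hb'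
  have huP : hf u (D.P 0) = 1 := by
    simp only [hu, h_add_left hF, h_smul_left hF, D.hPP, hRP', hw, Nat.zero_le, and_self, if_true]
    simp
  have hvu : hf v u ≠ 0 := by
    rw [hu, h_add_right hF, h_add_right hF, h_smul_right hF, hR0, hvP, mul_zero, add_zero, zero_add]
    exact hvw
  refine Full.of_conj (main u huu (by rw [huP]; exact one_ne_zero) d hd) (main _ ?_ ?_)
  · rw [suAct_herm]; exact hv
  · rw [T_apply hF huu hd, h_add_left hF, h_smul_left hF, hvP, huP, zero_add, mul_one]
    exact mul_ne_zero hd0 hvu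

theorem eq_top_of_mem {i : ℕ} (D : Fr (F := F) q n (i + 1)) (p : Par (F := F) hF) (hn : 4 ≤ n) (hU : U D p ∈ M)
    (hV : V D p ∈ M) (h0 : T hF (D.P 0) p.d ∈ M)
    (hgen : ∀ x : F, σ x = x → x ≠ 0 →
      ∃ k : ℕ, x = (p.d * p.d * ((p.d * p.d * p.b) * σ (p.d * p.d * p.b))) ^ k) : M = ⊤ := by
  rw [eq_top_iff, ← transvectionGroup_eq_top hF (Or.inl hn), transvectionGroup, Subgroup.closure_le]
  rintro A ⟨v, c, hv, hA⟩
  rcases eq_or_ne v 0 with rfl | hv0
  · have : A = 1 := suAct_ext fun x => by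
      rw [suAct_one, suAct, hA, transvection_mulVec, smul_zero, add_zero]
    rw [this]; exact one_mem _
  have hU' : IsUnitary q (Cfsg.unitaryTransvection n q v c) := by
    rw [← hA]; exact A.2
  have hc := (transvection_isometry_iff hF v hv0 hv c).1 hU'
  have hc' : σ c = -c := by rw [σ_apply hF]; linear_combination hc
  have : A = T hF v c := suAct_ext fun x => by
    rw [T_apply hF hv hc', suAct, hA, transvection_mulVec]
  rw [this]
  exact full_all D p hU hV h0 hgen v hv c hc'

end Cfsg.Agent.RegUnip.SU
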