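/-
SU_n(q), n = 2l+3 ≥ 5, is generated by three conjugate regular unipotent elements.
Main results (namespace `Cfsg.Agent.RegUnip.SU`): `exists_frame`, `exists_fixed_gen`, `exists_par`, `exists_three`.
-/
import Cfsg.Agent.Lib.RegUnip.SUGen

set_option autoImplicit false
set_option linter.unusedSectionVars false

namespace Cfsg.Agent.RegUnip.SU

open Cfsg.Agent.Unitary
open scoped Matrix

variable {F : Type*} [Field F] [Fintype F] {q n : ℕ}

variable (F n) in
/-- The standard basis, zero out of range. -/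
def stdVec (k : ℕ) : Fin n → F := if h : k < n then Pi.single ⟨k, h⟩ 1 else 0

theorem h_stdVec (hF : Fintype.card F = q ^ 2) (a b : ℕ) :
    Cfsg.hermForm n F q (stdVec F n a) (stdVec F n b) = if a = b ∧ a < n then 1 else 0 := by
  by_cases hb : b < n
  · rw [stdVec, stdVec, dif_pos hb, hermForm_single_right hF]
    by_cases ha : a < n
    · rw [dif_pos ha, Pi.single_apply]
      simp [ha, Fin.ext_iff, eq_comm]
    · rw [dif_neg ha, if_neg (fun h => ha h.2)]; rfl
  · rw [stdVec, stdVec, dif_neg hb, h_zero_right hF, if_neg]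
    rintro ⟨rfl, h⟩
    exact hb h

/-- A frame of the standard hermitian space of odd dimension. -/
theorem exists_frame (hF : Fintype.card F = q ^ 2) {l : ℕ} (hn : n = 2 * l + 3) : Nonempty (Fr (F := F) q n l) := by
  obtain ⟨ε, hε⟩ := exists_norm_eq hF (c := (-1 : F)) (by rw [neg_pow_q hF, one_pow])
  obtain ⟨lam, hlam⟩ := exists_trace_eq hF (c := (-1 : F)) (by rw [neg_pow_q hF, one_pow])
  set σ := Cfsg.Agent.Unitary.conjHom hF with hσ
  have hε' : ε * σ ε = -1 := by rw [hσ, σ_apply hF, ← pow_succ', hε]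
  have hlam' : lam + σ lam = -1 := hlam
  set e := stdVec F n with he
  have hee := h_stdVec (F := F) (n := n) hF
  let P : ℕ → Fin n → F := fun i => if i ≤ l then e (2 * i) + ε • e (2 * i + 1) else 0
  let R : ℕ → Fin n → F := fun i => if i ≤ l then e (2 * i) + lam • P i else 0
  have Peq : ∀ i ≤ l, P i = e (2 * i) + ε • e (2 * i + 1) := fun i h => if_pos h
  have Req : ∀ i ≤ l, R i = e (2 * i) + lam • P i := fun i h => if_pos h
  have P0 : ∀ i, ¬ i ≤ l → P i = 0 := fun i h => if_neg h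
  have R0 : ∀ i, ¬ i ≤ l → R i = 0 := fun i h => if_neg h
  -- pairings with basis vectors
  have Pe : ∀ i ≤ l, ∀ j ≤ l, Cfsg.hermForm n F q (P i) (e (2 * j)) = if i = j then 1 else 0 := by
    intro i hi j hj
    rw [Peq i hi, h_add_left hF, h_smul_left hF, hee, hee, if_neg (show ¬ (2 * i + 1 = 2 * j ∧ 2 * i + 1 < n) by omega)]
    by_cases h : i = j
    · rw [if_pos h, if_pos (by omega), mul_zero, add_zero]
    · rw [if_neg h, if_neg (by omega), mul_zero, add_zero]
  have hPP : ∀ i j, Cfsg.hermForm n F q (P i) (P j) = 0 := by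
    intro i j
    by_cases hi : i ≤ l
    swap
    · rw [P0 i hi, h_zero_left hF]
    by_cases hj : j ≤ l
    swap
    · rw [P0 j hj, h_zero_right hF]
    rw [Peq j hj, h_add_right hF, h_smul_right hF, Pe i hi j hj, Peq i hi, h_add_left hF, h_smul_left hF, hee, hee,
      if_neg (show ¬ (2 * i = 2 * j + 1 ∧ 2 * i < n) by omega)]
    by_cases h : i = j
    · rw [if_pos h, if_pos (by omega)]
      linear_combination hε'
    · rw [if_neg h, if_neg (by omega)]; ring
  have eP : ∀ i ≤ l, ∀ j ≤ l, Cfsg.hermForm n F q (e (2 * j)) (P i) = if i = j then 1 else 0 := by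
    intro i hi j hj
    rw [h_symm hF, Pe i hi j hj]
    split_ifs
    exacts [map_one _, map_zero _]
  refine ⟨⟨P, R, e (2 * l + 2), hPP, ?_, ?_, ?_, ?_, ?_, ?_⟩⟩
  · intro i j
    by_cases hi : i ≤ l
    swap
    · rw [R0 i hi, h_zero_left hF]
    by_cases hj : j ≤ l
    swap
    · rw [R0 j hj, h_zero_right hF]
    rw [Req i hi, Req j hj, h_add_left hF, h_add_right hF, h_add_right hF, h_smul_left hF, h_smul_right hF,
      h_smul_left hF, h_smul_right hF, hPP, Pe i hi j hj, eP j hj i hi, hee]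
    by_cases h : i = j
    · rw [if_pos h, if_pos h.symm, if_pos (by omega)]
      linear_combination hlam'
    · rw [if_neg h, if_neg (Ne.symm h), if_neg (by omega)]; ring
  · intro i j
    by_cases hi : i ≤ l
    swap
    · rw [P0 i hi, h_zero_left hF, if_neg (fun h => hi h.2)]
    by_cases hj : j ≤ l
    swap
    · rw [R0 j hj, h_zero_right hF, if_neg]; omega
    rw [Req j hj, h_add_right hF, h_smul_right hF, hPP, Pe i hi j hj, mul_zero, add_zero]
    simp [hi]
  · intro i
    by_cases hi : i ≤ l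
    · rw [Peq i hi, h_add_left hF, h_smul_left hF, hee, hee, if_neg (by omega), if_neg (by omega)]; ring
    · rw [P0 i hi, h_zero_left hF]
  · intro i
    by_cases hi : i ≤ l
    · rw [Req i hi, Peq i hi]
      simp only [h_add_left hF, h_smul_left hF, he, hee]
      rw [if_neg (by omega), if_neg (by omega)]; ring
    · rw [R0 i hi, h_zero_left hF]
  · rw [hee, if_pos]; omega
  · intro v
    set w := v - (∑ i ∈ Finset.range (l + 1), (Cfsg.hermForm n F q v (R i) • P i + Cfsg.hermForm n F q v (P i) • R i) +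
      Cfsg.hermForm n F q v (e (2 * l + 2)) • e (2 * l + 2)) with hw
    suffices w = 0 by rwa [hw, sub_eq_zero] at this
    have hsum : ∀ z, Cfsg.hermForm n F q (∑ i ∈ Finset.range (l + 1),
          (Cfsg.hermForm n F q v (R i) • P i + Cfsg.hermForm n F q v (P i) • R i)) z =
        ∑ i ∈ Finset.range (l + 1), (Cfsg.hermForm n F q v (R i) * Cfsg.hermForm n F q (P i) z +
          Cfsg.hermForm n F q v (P i) * Cfsg.hermForm n F q (R i) z) := fun z => by
      rw [(hermForm_isHerm hF n).sum_left]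
      simp only [h_add_left hF, h_smul_left hF]
    have hPR : ∀ i ≤ l, ∀ j ≤ l, Cfsg.hermForm n F q (P i) (R j) = if i = j then 1 else 0 := by
      intro i hi j hj
      rw [Req j hj, h_add_right hF, h_smul_right hF, hPP, Pe i hi j hj, mul_zero, add_zero]
    have hRR : ∀ i ≤ l, ∀ j ≤ l, Cfsg.hermForm n F q (R i) (R j) = 0 := by
      intro i hi j hj
      rw [Req i hi, Req j hj, h_add_left hF, h_add_right hF, h_add_right hF, h_smul_left hF, h_smul_right hF,
        h_smul_left hF, h_smul_right hF, hPP, Pe i hi j hj, eP j hj i hi, hee]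
      by_cases h : i = j
      · rw [if_pos h, if_pos h.symm, if_pos (by omega)]
        linear_combination hlam'
      · rw [if_neg h, if_neg (Ne.symm h), if_neg (by omega)]; ring
    have hEP : ∀ j ≤ l, Cfsg.hermForm n F q (e (2 * l + 2)) (P j) = 0 := by
      intro j hj
      rw [Peq j hj, h_add_right hF, h_smul_right hF, he, hee, hee, if_neg (by omega), if_neg (by omega)]; ring
    have hER : ∀ j ≤ l, Cfsg.hermForm n F q (e (2 * l + 2)) (R j) = 0 := by
      intro j hj
      rw [Req j hj, h_add_right hF, h_smul_right hF, hEP j hj, he, hee, if_neg (by omega)]; ring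
    have wP : ∀ j ≤ l, Cfsg.hermForm n F q w (P j) = 0 := by
      intro j hj
      rw [hw, h_sub_left hF, h_add_left hF, h_smul_left hF, hsum, hEP j hj, mul_zero, add_zero, sub_eq_zero,
        Finset.sum_eq_single_of_mem j (Finset.mem_range.2 (by omega))]
      · rw [hPP, h_symm hF (P j) (R j), hPR j hj j hj, if_pos rfl, map_one, mul_zero, mul_one, zero_add]
      · intro i hi hne
        rw [Finset.mem_range] at hi
        rw [hPP, h_symm hF (P j) (R i), hPR j hj i (by omega), if_neg (Ne.symm hne), map_zero, mul_zero, mul_zero, add_zero]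
    have wR : ∀ j ≤ l, Cfsg.hermForm n F q w (R j) = 0 := by
      intro j hj
      rw [hw, h_sub_left hF, h_add_left hF, h_smul_left hF, hsum, hER j hj, mul_zero, add_zero, sub_eq_zero,
        Finset.sum_eq_single_of_mem j (Finset.mem_range.2 (by omega))]
      · rw [hPR j hj j hj, if_pos rfl, hRR j hj j hj, mul_zero, mul_one, add_zero]
      · intro i hi hne
        rw [Finset.mem_range] at hi
        rw [hPR i (by omega) j hj, if_neg hne, hRR i (by omega) j hj, mul_zero, mul_zero, add_zero]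
    have wE : Cfsg.hermForm n F q w (e (2 * l + 2)) = 0 := by
      rw [hw, h_sub_left hF, h_add_left hF, h_smul_left hF, hsum, Finset.sum_eq_zero]
      · rw [he, hee, if_pos (by omega), zero_add, mul_one, sub_self]
      · intro i hi
        rw [Finset.mem_range] at hi
        rw [h_symm hF (e (2 * l + 2)) (P i), h_symm hF (e (2 * l + 2)) (R i), hEP i (by omega), hER i (by omega), map_zero,
          mul_zero, mul_zero, add_zero]
    have wev : ∀ k, k ≤ l → Cfsg.hermForm n F q w (e (2 * k)) = 0 ∧ Cfsg.hermForm n F q w (e (2 * k + 1)) = 0 := by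
      intro k hk
      have h1 := wR k hk
      rw [Req k hk, h_add_right hF, h_smul_right hF, wP k hk, mul_zero, add_zero] at h1
      have h2 := wP k hk
      rw [Peq k hk, h_add_right hF, h_smul_right hF, h1, zero_add] at h2
      refine ⟨h1, (mul_eq_zero.1 h2).resolve_left fun h => ?_⟩
      rw [h, mul_zero] at hε'
      exact one_ne_zero (α := F) (by linear_combination hε')
    funext k
    rw [← hermForm_single_right hF w k]
    have hk : (Pi.single k 1 : Fin n → F) = e k.val := by rw [he, stdVec, dif_pos k.isLt]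
    rw [hk]
    rcases (show k.val = 2 * l + 2 ∨ ∃ m ≤ l, k.val = 2 * m ∨ k.val = 2 * m + 1 by
      have := k.isLt
      rcases eq_or_ne k.val (2 * l + 2) with h | h
      · exact Or.inl h
      · exact Or.inr ⟨k.val / 2, by omega, by omega⟩) with h | ⟨m, hm, h | h⟩
    · rw [h]; exact wE
    · rw [h]; exact (wev m hm).1
    · rw [h]; exact (wev m hm).2

/-- A generator of the multiplicative group of the fixed field. -/
theorem exists_fixed_gen (hF : Fintype.card F = q ^ 2) : ∃ κ : F, κ ≠ 0 ∧ κ ^ q = κ ∧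
    ∀ x : F, x ^ q = x → x ≠ 0 → ∃ k : ℕ, x = κ ^ k := by
  obtain ⟨γ, hγ⟩ := IsCyclic.exists_generator (α := Fˣ)
  refine ⟨(γ : F) ^ (q + 1), pow_ne_zero _ γ.ne_zero, pow_q_succ_fixed hF _, fun x hx hx0 => ?_⟩
  obtain ⟨y, hy⟩ := exists_norm_eq hF hx
  have hy0 : y ≠ 0 := fun h => hx0 (by rw [← hy, h, zero_pow (Nat.succ_ne_zero q)])
  obtain ⟨k, hk⟩ := mem_powers_iff_mem_zpowers.2 (hγ (Units.mk0 y hy0))
  have hk' : y = (γ : F) ^ k := (congrArg Units.val hk).symm.trans (Units.val_pow_eq_pow_val γ k)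
  exact ⟨k, by rw [← hy, hk', ← pow_mul, ← pow_mul, mul_comm]⟩

/-- A norm-one element which is not `±1`. -/
theorem exists_norm_one_sq_ne (hF : Fintype.card F = q ^ 2) : ∃ z : F, z ^ (q + 1) = 1 ∧ z * z ≠ 1 := by
  obtain ⟨γ, hγ⟩ := IsCyclic.exists_generator (α := Fˣ)
  have hq := two_le_q hF
  have hord : orderOf γ = q ^ 2 - 1 := by
    rw [orderOf_eq_card_of_forall_mem_zpowers hγ, card_units hF]
  have hfac : q ^ 2 - 1 = (q - 1) * (q + 1) := by
    rw [mul_comm]; simpa using Nat.sq_sub_sq q 1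
  refine ⟨((γ ^ (q - 1) : Fˣ) : F), ?_, ?_⟩
  · rw [← Units.val_pow_eq_pow_val, ← pow_mul, ← hfac, ← hord, pow_orderOf_eq_one, Units.val_one]
  · rw [← Units.val_mul, ← pow_add, ne_eq, Units.val_eq_one]
    intro h
    have hd := orderOf_dvd_of_pow_eq_one h
    rw [hord, hfac] at hd
    have hle := Nat.le_of_dvd (by omega) hd
    have : (q - 1) * 3 ≤ (q - 1) * (q + 1) := Nat.mul_le_mul_left _ (by omega)
    omega

theorem exists_par (hF : Fintype.card F = q ^ 2) : ∃ p : Par (F := F) hF, ∀ x : F, Cfsg.Agent.Unitary.conjHom hF x = x → x ≠ 0 →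
    ∃ k : ℕ, x = (p.d * p.d * ((p.d * p.d * p.b) * Cfsg.Agent.Unitary.conjHom hF (p.d * p.d * p.b))) ^ k := by
  obtain ⟨d, hd0, hd⟩ := exists_skew hF
  obtain ⟨κ, hκ0, hκ, hgen⟩ := exists_fixed_gen hF
  obtain ⟨z, hz, hz2⟩ := exists_norm_one_sq_ne hF
  set σ := Cfsg.Agent.Unitary.conjHom hF with hσ
  have hdσ : σ d = -d := hd
  have hκσ : σ κ = κ := hκ
  have hN : (κ / d ^ 6) ^ q = κ / d ^ 6 := by
    change σ (κ / d ^ 6) = _
    rw [map_div₀, map_pow, hdσ, hκσ]; ring
  have hN0 : κ / d ^ 6 ≠ 0 := div_ne_zero hκ0 (pow_ne_zero _ hd0)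
  obtain ⟨b0, hb0⟩ := exists_norm_eq hF hN
  have hb0' : b0 * σ b0 = κ / d ^ 6 := by rw [hσ, σ_apply hF, ← pow_succ', hb0]
  have hz' : z * σ z = 1 := by rw [hσ, σ_apply hF, ← pow_succ', hz]
  obtain ⟨b, hb, hbt⟩ : ∃ b : F, b * σ b = κ / d ^ 6 ∧ b + σ b ≠ 0 := by
    by_cases h : b0 + σ b0 = 0
    · refine ⟨b0 * z, by rw [map_mul, ← hb0']; linear_combination (b0 * σ b0) * hz', fun h' => hz2 ?_⟩
      rw [map_mul, eq_neg_of_add_eq_zero_right h] at h'
      have hb00 : b0 ≠ 0 := fun e => hN0 (by rw [← hb0', e, zero_mul])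
      have hzz : z = σ z := mul_left_cancel₀ hb00 (by linear_combination h')
      rwa [← hzz] at hz'
    · exact ⟨b0, hb0', h⟩
  have hfix : (-(b + σ b)) ^ q = -(b + σ b) := by
    change σ (-(b + σ b)) = _
    rw [map_neg, map_add, σσ hF, add_comm]
  obtain ⟨a, ha⟩ := exists_norm_eq hF hfix
  have ha' : a * σ a = -(b + σ b) := by rw [hσ, σ_apply hF, ← pow_succ', ha]
  have ha0 : a ≠ 0 := fun e => hbt (by rw [e, zero_mul] at ha'; exact neg_eq_zero.1 ha'.symm)
  refine ⟨⟨d, a, b, hd0, hd, ha0, by linear_combination ha'⟩, fun x hx hx0 => ?_⟩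
  obtain ⟨k, hk⟩ := hgen x hx hx0
  refine ⟨k, ?_⟩
  change x = (d * d * ((d * d * b) * σ (d * d * b))) ^ k
  rw [hk, map_mul, map_mul, hdσ, show d * d * (d * d * b * (-d * -d * σ b)) = d ^ 6 * (b * σ b) by ring, hb,
    mul_div_cancel₀ _ (pow_ne_zero _ hd0)]

/-- `SU_n(q)`, `n = 2l+3` with `l ≥ 1`, is generated by three conjugate regular unipotent elements. -/
theorem exists_three (hF : Fintype.card F = q ^ 2) {l : ℕ} (hl : 1 ≤ l) (hn : n = 2 * l + 3) :
    ∃ u g h : ↥(Cfsg.SU n F q), (IsNilpotent (((u : Matrix.SpecialLinearGroup (Fin n) F) : Matrix (Fin n) (Fin n) F) - 1) ∧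
      (((u : Matrix.SpecialLinearGroup (Fin n) F) : Matrix (Fin n) (Fin n) F) - 1) ^ (n - 1) ≠ 0) ∧
      Subgroup.closure ({u, g * u * g⁻¹, h * u * h⁻¹} : Set ↥(Cfsg.SU n F q)) = ⊤ := by
  obtain ⟨p, hp⟩ := exists_par hF
  obtain ⟨i, rfl⟩ : ∃ i, l = i + 1 := ⟨l - 1, by omega⟩
  obtain ⟨D⟩ := exists_frame (F := F) (n := n) hF hn
  obtain ⟨h, hh⟩ := U_conj_T D p (by omega) (c := p.d) p.hd
  refine ⟨U D p, JP D p (i + 1 + 1), h, U_regular D p (by omega) hn, ?_⟩
  set M := Subgroup.closure ({U D p, JP D p (i + 1 + 1) * U D p * (JP D p (i + 1 + 1))⁻¹, h * U D p * h⁻¹} :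
    Set ↥(Cfsg.SU n F q))
  have hU : U D p ∈ M := Subgroup.subset_closure (Or.inl rfl)
  have hV : V D p ∈ M := Subgroup.subset_closure (Or.inr (Or.inl rfl))
  have hT : T hF (D.P 0) p.d ∈ M := by
    have h3 : h * U D p * h⁻¹ ∈ M := Subgroup.subset_closure (Or.inr (Or.inr rfl))
    rw [hh] at h3
    have := mul_mem h3 (inv_mem hU)
    rwa [mul_inv_cancel_right] at this
  exact eq_top_of_mem D p (by omega) hU hV hT hp

end Cfsg.Agent.RegUnip.SU
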