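/-
SU_3(q) in coordinates of a hyperbolic frame (P, E, R), and generation criteria.
Main results (namespace `Cfsg.Agent.RegUnip.SU3`): `elt`, `top_of_full`, `top_of_loop`, `uu_regular`.
-/
import Cfsg.Agent.Lib.RegUnip.SUMain
import Cfsg.Agent.Lib.Unitary.Group

set_option autoImplicit false
set_option linter.unusedSectionVars false

namespace Cfsg.Agent.RegUnip.SU3

open Cfsg.Agent.Unitary Cfsg.Agent.RegUnip.SU
open scoped Matrix

variable {F : Type*} [Field F] [Fintype F] {q : ℕ} {hF : Fintype.card F = q ^ 2}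

local notation "hf" => Cfsg.hermForm 3 F q
local notation "σ" => Cfsg.Agent.Unitary.conjHom hF

/-- The hermitian form in frame coordinates. -/
def g3 (s : F →+* F) (x y : Fin 3 → F) : F := x 0 * s (y 2) + x 1 * s (y 1) + x 2 * s (y 0)

/-- Isometry of determinant one, in frame coordinates. -/
def Good (s : F →+* F) (C : Matrix (Fin 3) (Fin 3) F) : Prop :=
  C.det = 1 ∧ ∀ x y, g3 s (C *ᵥ x) (C *ᵥ y) = g3 s x y

theorem Good.mul {s : F →+* F} {C C' : Matrix (Fin 3) (Fin 3) F} (h : Good s C) (h' : Good s C') :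
    Good s (C * C') :=
  ⟨by rw [Matrix.det_mul, h.1, h'.1, one_mul], fun x y => by
    rw [← Matrix.mulVec_mulVec, ← Matrix.mulVec_mulVec, h.2, h'.2]⟩

/-- It is enough to check the form on the columns. -/
theorem good_of_cols {s : F →+* F} {C : Matrix (Fin 3) (Fin 3) F} (hd : C.det = 1)
    (h00 : C 0 0 * s (C 2 0) + C 1 0 * s (C 1 0) + C 2 0 * s (C 0 0) = 0)
    (h01 : C 0 0 * s (C 2 1) + C 1 0 * s (C 1 1) + C 2 0 * s (C 0 1) = 0)
    (h02 : C 0 0 * s (C 2 2) + C 1 0 * s (C 1 2) + C 2 0 * s (C 0 2) = 1)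
    (h10 : C 0 1 * s (C 2 0) + C 1 1 * s (C 1 0) + C 2 1 * s (C 0 0) = 0)
    (h11 : C 0 1 * s (C 2 1) + C 1 1 * s (C 1 1) + C 2 1 * s (C 0 1) = 1)
    (h12 : C 0 1 * s (C 2 2) + C 1 1 * s (C 1 2) + C 2 1 * s (C 0 2) = 0)
    (h20 : C 0 2 * s (C 2 0) + C 1 2 * s (C 1 0) + C 2 2 * s (C 0 0) = 1)
    (h21 : C 0 2 * s (C 2 1) + C 1 2 * s (C 1 1) + C 2 2 * s (C 0 1) = 0)
    (h22 : C 0 2 * s (C 2 2) + C 1 2 * s (C 1 2) + C 2 2 * s (C 0 2) = 0) : Good s C := by
  refine ⟨hd, fun x y => ?_⟩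
  simp only [g3, Matrix.mulVec, dotProduct, Fin.sum_univ_three, map_add, map_mul]
  linear_combination (x 0 * s (y 0)) * h00 + (x 0 * s (y 1)) * h01 + (x 0 * s (y 2)) * h02 +
    (x 1 * s (y 0)) * h10 + (x 1 * s (y 1)) * h11 + (x 1 * s (y 2)) * h12 +
    (x 2 * s (y 0)) * h20 + (x 2 * s (y 1)) * h21 + (x 2 * s (y 2)) * h22

/-- The unipotent matrix with parameters `a`, `b`. -/
def uu (s : F →+* F) (a b : F) : Matrix (Fin 3) (Fin 3) F := !![1, -s a, b; 0, 1, a; 0, 0, 1]

theorem uu_good {a b : F} (h : b + σ b + a * σ a = 0) : Good σ (uu σ a b) := by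
  apply good_of_cols <;>
    simp [uu, Matrix.det_fin_three, σσ hF, -conjHom_apply]
  · linear_combination h

theorem uu_mul {a b c e : F} : uu σ a b * uu σ c e = uu σ (a + c) (b + e - c * σ a) := by
  ext i j
  fin_cases i <;> fin_cases j <;> simp [uu, Matrix.mul_apply, Fin.sum_univ_three, -conjHom_apply] <;> ring

theorem uu_zero : uu σ (0 : F) 0 = 1 := by
  ext i j
  fin_cases i <;> fin_cases j <;> simp [uu, -conjHom_apply]

section Frame

variable (D : Fr (F := F) q 3 0)

/-- The frame as a matrix. -/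
def Bm : Matrix (Fin 3) (Fin 3) F := Matrix.of fun i j => ![D.P 0, D.E, D.R 0] j i

/-- The vector with given frame coordinates. -/
def vecOf (x : Fin 3 → F) : Fin 3 → F := x 0 • D.P 0 + x 1 • D.E + x 2 • D.R 0

theorem Bm_mulVec (x : Fin 3 → F) : Bm D *ᵥ x = vecOf D x := by
  funext i
  simp [Bm, vecOf, Matrix.mulVec, dotProduct, Fin.sum_univ_three]
  ring

include hF in
theorem vecOf_coord (z : Fin 3 → F) : vecOf D ![hf z (D.R 0), hf z D.E, hf z (D.P 0)] = z := by
  conv_rhs => rw [D.decomp z]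
  simp [vecOf]
  module

theorem Bm_det (hF : Fintype.card F = q ^ 2) : IsUnit (Bm D).det :=
  (Matrix.isUnit_iff_isUnit_det _).1 (Matrix.mulVec_surjective_iff_isUnit.1 fun z =>
    ⟨_, (Bm_mulVec D _).trans (vecOf_coord (hF := hF) D z)⟩)

include hF in
theorem h_vecOf (x y : Fin 3 → F) : hf (vecOf D x) (vecOf D y) = g3 σ x y := by
  simp only [vecOf, g3, h_add_left hF, h_add_right hF, h_smul_left hF, h_smul_right hF, D.hPP, D.hRR, D.hPR,
    D.hRP (hF := hF), D.hPE, D.hRE, D.hEP (hF := hF), D.hER (hF := hF), D.hEE, le_refl, and_self, if_true]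
  ring

theorem vecOf_smul (c : F) (x : Fin 3 → F) : c • vecOf D x = vecOf D (c • x) := by
  simp only [vecOf, Pi.smul_apply, smul_eq_mul]
  module

theorem conj_isUnitary {C : Matrix (Fin 3) (Fin 3) F} (h : Good σ C) : IsUnitary q (Bm D * C * (Bm D)⁻¹) := by
  intro u v
  have key : ∀ u, (Bm D * C * (Bm D)⁻¹) *ᵥ u = vecOf D (C *ᵥ ((Bm D)⁻¹ *ᵥ u)) := fun u => by
    rw [← Matrix.mulVec_mulVec, ← Matrix.mulVec_mulVec, Bm_mulVec]
  have back : ∀ u, vecOf D ((Bm D)⁻¹ *ᵥ u) = u := fun u => by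
    rw [← Bm_mulVec, Matrix.mulVec_mulVec, Matrix.mul_nonsing_inv _ (Bm_det D hF), Matrix.one_mulVec]
  rw [key, key, h_vecOf (hF := hF), h.2, ← h_vecOf (hF := hF), back, back]

variable (hF) in
open Classical in
/-- The element of SU_3 with given coordinate matrix (junk value `1`). -/
noncomputable def elt (C : Matrix (Fin 3) (Fin 3) F) : Cfsg.SU 3 F q :=
  if h : Good σ C then suOfUnitary (Bm D * C * (Bm D)⁻¹) (conj_isUnitary D h)
    (by
      rw [Matrix.det_mul_right_comm, Matrix.mul_nonsing_inv _ (Bm_det D hF), Matrix.det_mul, Matrix.det_one, one_mul, h.1])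
  else 1

theorem elt_apply {C : Matrix (Fin 3) (Fin 3) F} (h : Good σ C) (x : Fin 3 → F) :
    suAct (elt hF D C) (vecOf D x) = vecOf D (C *ᵥ x) := by
  rw [elt, dif_pos h, suAct, suOfUnitary_val, ← Bm_mulVec, ← Bm_mulVec, Matrix.mulVec_mulVec, Matrix.mulVec_mulVec,
    Matrix.mul_assoc, Matrix.nonsing_inv_mul _ (Bm_det D hF), Matrix.mul_one]

include hF in
theorem ext_vecOf {g h : Cfsg.SU 3 F q} (H : ∀ x, suAct g (vecOf D x) = suAct h (vecOf D x)) : g = h :=
  suAct_ext fun z => by rw [← vecOf_coord (hF := hF) D z]; exact H _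

theorem elt_mul {C C' : Matrix (Fin 3) (Fin 3) F} (h : Good σ C) (h' : Good σ C') :
    elt hF D C * elt hF D C' = elt hF D (C * C') :=
  ext_vecOf (hF := hF) D fun x => by
    rw [suAct_mul, elt_apply D h', elt_apply D h, elt_apply D (h.mul h'), Matrix.mulVec_mulVec]

theorem elt_one : elt hF D 1 = 1 :=
  ext_vecOf (hF := hF) D fun x => by
    rw [elt_apply D ⟨Matrix.det_one, fun x y => by rw [Matrix.one_mulVec, Matrix.one_mulVec]⟩, suAct_one,
      Matrix.one_mulVec]

theorem elt_uu_inv {a b : F} (h : b + σ b + a * σ a = 0) :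
    (elt hF D (uu σ a b))⁻¹ = elt hF D (uu σ (-a) (σ b)) := by
  refine inv_eq_of_mul_eq_one_right ?_
  rw [elt_mul D (uu_good h) (uu_good (by rw [σσ hF, map_neg]; linear_combination h)), uu_mul, add_neg_cancel,
    show b + σ b - -a * σ a = 0 by linear_combination h, uu_zero, elt_one]

theorem vec_P : vecOf D ![1, 0, 0] = D.P 0 := by simp [vecOf]

theorem vec_R : vecOf D ![0, 0, 1] = D.R 0 := by simp [vecOf]

theorem T_P {c : F} (hc : σ c = -c) : T hF (D.P 0) c = elt hF D (uu σ 0 c) :=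
  ext_vecOf (hF := hF) D fun x => by
    rw [elt_apply D (uu_good (by rw [hc]; ring)), T_apply hF (D.hPP 0 0) hc, ← vec_P D, h_vecOf (hF := hF)]
    simp only [vecOf, g3, uu, Matrix.mulVec, dotProduct, Fin.sum_univ_three]
    simp [-conjHom_apply]
    module

theorem uu_P {a b : F} (h : b + σ b + a * σ a = 0) : suAct (elt hF D (uu σ a b)) (D.P 0) = D.P 0 := by
  rw [← vec_P D, elt_apply D (uu_good h)]
  congr 1
  funext i
  fin_cases i <;> simp [uu, Matrix.mulVec, dotProduct, Fin.sum_univ_three]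

variable {M : Subgroup (Cfsg.SU 3 F q)}

theorem top_core {a b : F} (hab : b + σ b + a * σ a = 0) (ha : a ≠ 0) (hu : elt hF D (uu σ a b) ∈ M)
    (hq : 3 ≤ q) (hP : Full hF M (D.P 0)) (hR : Full hF M (D.R 0)) : M = ⊤ := by
  classical
  obtain ⟨d, hd0, hd'⟩ := exists_skew hF
  have hd : σ d = -d := hd'
  let X : Set F := {x | ∀ y, y + σ y + x * σ x = 0 → Full hF M (vecOf D ![y, x, 1])}
  have lift : ∀ x y, y + σ y + x * σ x = 0 → Full hF M (vecOf D ![y, x, 1]) → x ∈ X := by
    intro x y hy hfull y' hy'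
    have hc : σ (y' - y) = -(y' - y) := by rw [map_sub]; linear_combination hy' - hy
    have := hfull.conj (hP _ hc)
    rw [T_P D hc, elt_apply D (uu_good (by rw [hc]; ring))] at this
    convert this using 2
    funext i
    fin_cases i <;> simp [uu, Matrix.mulVec, dotProduct, Fin.sum_univ_three, -conjHom_apply]
  have h0 : (0 : F) ∈ X := lift 0 0 (by rw [map_zero]; ring) (by rw [vec_R]; exact hR)
  have iso : ∀ x : F, ∃ y, y + σ y + x * σ x = 0 := fun x => by
    obtain ⟨y, hy⟩ := exists_trace_eq hF (c := -(x * σ x)) (by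
      change σ _ = _; rw [map_neg, σ_norm hF])
    exact ⟨y, by have hy' : y + σ y = -(x * σ x) := hy; linear_combination hy'⟩
  have htr : ∀ x ∈ X, a + x ∈ X := by
    intro x hx
    obtain ⟨y, hy⟩ := iso x
    have := (hx y hy).conj hu
    rw [elt_apply D (uu_good hab)] at this
    refine lift _ (y - σ a * x + b) ?_ ?_
    · simp only [map_add, map_sub, map_mul, σσ hF]; linear_combination hy + hab
    · convert this using 2
      funext i
      fin_cases i <;> simp [uu, Matrix.mulVec, dotProduct, Fin.sum_univ_three, -conjHom_apply] <;> ring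
  -- the exchanges and the torus of the plane
  have J : ∀ e : F, σ e = -e → e ≠ 0 →
      ∃ g ∈ M, ∀ x0 x1 x2 : F, suAct g (vecOf D ![x0, x1, x2]) = vecOf D ![-(x2 / e), x1, e * x0] := by
    intro e he he0
    have he' : σ (-e⁻¹) = - -e⁻¹ := by rw [map_neg, map_inv₀, he, inv_neg]
    refine ⟨T hF (D.P 0) (-e⁻¹) * T hF (D.R 0) e * T hF (D.P 0) (-e⁻¹),
      mul_mem (mul_mem (hP _ he') (hR _ he)) (hP _ he'), fun x0 x1 x2 => ?_⟩
    rw [suAct_mul, suAct_mul, T_apply hF (D.hPP 0 0) he', T_apply hF (D.hRR 0 0) he, T_apply hF (D.hPP 0 0) he']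
    simp only [vecOf, h_add_left hF, h_smul_left hF, D.hPP, D.hRR, D.hPR, D.hRP (hF := hF), D.hEP (hF := hF),
      D.hER (hF := hF), le_refl, and_self, if_true, Matrix.cons_val_zero, Matrix.cons_val_one, Matrix.head_cons,
      Matrix.cons_val]
    match_scalars <;> field_simp <;> ring
  have hmul : ∀ ρ, σ ρ = ρ → ρ ≠ 0 → ∀ x ∈ X, ρ * x ∈ X := by
    intro ρ hρ hρ0 x hx
    obtain ⟨y, hy⟩ := iso x
    obtain ⟨g1, hg1, e1⟩ := J d hd hd0
    obtain ⟨g2, hg2, e2⟩ := J (-(ρ * d)) (by rw [map_neg, map_mul, hρ, hd, mul_neg]) (neg_ne_zero.2 (mul_ne_zero hρ0 hd0))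
    have := ((hx y hy).conj (mul_mem hg1 hg2)).smul hρ0
    rw [suAct_mul, e2, e1, vecOf_smul] at this
    refine lift _ (ρ * ρ * y) ?_ ?_
    · simp only [map_mul, hρ]; linear_combination (ρ * ρ) * hy
    · convert this using 2
      funext i
      fin_cases i <;> simp <;> field_simp
  -- a second direction
  have hb0 : b ≠ 0 := fun h => by
    rw [h, map_zero, zero_add, zero_add] at hab
    rcases mul_eq_zero.1 hab with h' | h'
    · exact ha h'
    · exact ha (by rw [← σσ hF a, h', map_zero])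
  have hbb : b + σ b ≠ 0 := fun h => by
    rw [h, zero_add] at hab
    rcases mul_eq_zero.1 hab with h' | h'
    · exact ha h'
    · exact ha (by rw [← σσ hF a, h', map_zero])
  set w := 1 + d * b with hw
  have hwK : σ w ≠ w := fun h => by
    rw [hw, map_add, map_one, map_mul, hd] at h
    exact hbb ((mul_eq_zero.1 (show d * (b + σ b) = 0 by linear_combination -h)).resolve_left hd0)
  have hw0 : w ≠ 0 := fun h => hwK (by rw [h, map_zero])
  have hv : a / w ∈ X := by
    have hf' := (h0 0 (by rw [map_zero]; ring)).conj hu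
    rw [elt_apply D (uu_good hab)] at hf'
    have h2 := (hf'.conj (hR d hd)).smul (inv_ne_zero hw0)
    have e : vecOf D ![b / w, a / w, 1] =
        w⁻¹ • suAct (T hF (D.R 0) d) (vecOf D (uu σ a b *ᵥ ![0, 0, 1])) := by
      rw [T_apply hF (D.hRR 0 0) hd]
      simp only [uu, vecOf, Matrix.mulVec, dotProduct, Fin.sum_univ_three]
      simp [h_add_left hF, h_smul_left hF, D.hRR, D.hPR, D.hER (hF := hF), -conjHom_apply]
      match_scalars <;> field_simp
      rw [hw]
    have hisow : hf (vecOf D ![b / w, a / w, 1]) (vecOf D ![b / w, a / w, 1]) = 0 := by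
      rw [e, h_smul_left hF, h_smul_right hF, suAct_herm, ← elt_apply D (uu_good hab), suAct_herm, vec_R, D.hRR]
      ring
    rw [h_vecOf (hF := hF)] at hisow
    refine lift _ (b / w) ?_ (e ▸ h2)
    simp [g3, -conjHom_apply] at hisow
    simp only [map_div₀]
    linear_combination hisow
  have hall : ∀ x : F, x ∈ X := by
    intro x
    have hK : ∀ j, σ j = j → ∀ x ∈ X, j * a + x ∈ X := by
      intro j hj x hx
      rcases eq_or_ne j 0 with rfl | hj0
      · rwa [zero_mul, zero_add]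
      · have := hmul j hj hj0 _ (htr _ (hmul j⁻¹ (by rw [map_inv₀, hj]) (inv_ne_zero hj0) x hx))
        rwa [mul_add, mul_inv_cancel_left₀ hj0] at this
    set X' := x / a
    set w' := w⁻¹ with hw'
    have hw'K : w' - σ w' ≠ 0 := sub_ne_zero.2 fun h => hwK (by rw [hw', map_inv₀] at h; exact (inv_injective h).symm)
    set i := (X' - σ X') / (w' - σ w') with hi
    have hifix : σ i = i := by
      rw [hi, map_div₀, map_sub, map_sub, σσ hF, σσ hF, ← neg_sub X', ← neg_sub w', neg_div_neg_eq]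
    have hjfix : σ (X' - i * w') = X' - i * w' := by
      have hm : i * (w' - σ w') = X' - σ X' := div_mul_cancel₀ _ hw'K
      rw [map_sub, map_mul, hifix]
      linear_combination hm
    rcases eq_or_ne i 0 with hi0 | hi0
    · have := hK _ hjfix _ h0
      rwa [hi0, zero_mul, sub_zero, add_zero, div_mul_cancel₀ _ ha] at this
    · have := hK _ hjfix _ (hmul i hifix hi0 _ hv)
      rwa [show (X' - i * w') * a + i * (a / w) = x by rw [hw', sub_mul, div_mul_cancel₀ _ ha]; ring] at this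
  rw [eq_top_iff, ← transvectionGroup_eq_top hF (Or.inr (Or.inl ⟨rfl, hq⟩)), transvectionGroup, Subgroup.closure_le]
  rintro A ⟨v, c, hv', hA⟩
  rcases eq_or_ne v 0 with rfl | hv0
  · have : A = 1 := suAct_ext fun x => by
      rw [suAct_one, suAct, hA, transvection_mulVec, smul_zero, add_zero]
    rw [this]; exact one_mem _
  have hU' : IsUnitary q (Cfsg.unitaryTransvection 3 q v c) := by
    rw [← hA]; exact A.2
  have hc := (transvection_isometry_iff hF v hv0 hv' c).1 hU'
  have hc' : σ c = -c := by rw [σ_apply hF]; linear_combination hc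
  have : A = T hF v c := suAct_ext fun x => by
    rw [T_apply hF hv' hc', suAct, hA, transvection_mulVec]
  rw [this]
  refine (show Full hF M v from ?_) c hc'
  have hiso := hv'
  rw [← vecOf_coord (hF := hF) D v, h_vecOf (hF := hF)] at hiso
  simp [g3, -conjHom_apply] at hiso
  rw [← vecOf_coord (hF := hF) D v]
  set r := hf v (D.P 0) with hr
  set y := hf v (D.R 0)
  set x := hf v D.E
  rcases eq_or_ne r 0 with hr0 | hr0
  · rw [hr0, map_zero, mul_zero, zero_mul, zero_add, add_zero, mul_eq_zero] at hiso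
    have hx0 : x = 0 := hiso.elim id fun h => by rw [← σσ hF x, h, map_zero]
    have hy0 : y ≠ 0 := fun h => hv0 (by
      rw [← vecOf_coord (hF := hF) D v]
      change vecOf D ![y, x, r] = 0
      simp [h, hx0, hr0, vecOf])
    rw [hx0, hr0, show vecOf D ![y, 0, 0] = y • D.P 0 by simp [vecOf]]
    exact hP.smul hy0
  · have hσr : σ r ≠ 0 := fun h => hr0 (by rw [← σσ hF r, h, map_zero])
    have := (hall (x / r) (y / r) (by rw [map_div₀, map_div₀]; field_simp; linear_combination hiso)).smul hr0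
    rw [vecOf_smul] at this
    convert this using 2
    funext i
    fin_cases i <;> simp <;> field_simp

/-- A full root group, a regular element of it and a motion off the line suffice. -/
theorem top_of_full {a b : F} (hab : b + σ b + a * σ a = 0) (ha : a ≠ 0) (hu : elt hF D (uu σ a b) ∈ M)
    (hq : 3 ≤ q) (hP : Full hF M (D.P 0)) {g : Cfsg.SU 3 F q} (hg : g ∈ M)
    (hgP : hf (suAct g (D.P 0)) (D.P 0) ≠ 0) : M = ⊤ := by
  set z := suAct g (D.P 0) with hz
  set r := hf z (D.P 0)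
  set x0 := hf z D.E / r with hx0
  set y0 := hf z (D.R 0) / r with hy0
  have hσr : σ r ≠ 0 := fun h => hgP (by rw [← σσ hF r, h, map_zero])
  have hzz : hf z z = 0 := by rw [hz, suAct_herm, D.hPP]
  have hzv : z = r • vecOf D ![y0, x0, 1] := by
    conv_lhs => rw [← vecOf_coord (hF := hF) D z]
    rw [vecOf_smul]
    congr 1
    funext i
    fin_cases i <;> simp [hx0, hy0, mul_div_cancel₀ _ hgP] <;> rfl
  have hiso : y0 + σ y0 + x0 * σ x0 = 0 := by
    rw [hzv, h_smul_left hF, h_smul_right hF, h_vecOf (hF := hF)] at hzz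
    have h3 := ((mul_eq_zero.1 hzz).resolve_left hgP |> mul_eq_zero.1).resolve_left hσr
    simp [g3, -conjHom_apply] at h3
    linear_combination h3
  set w := elt hF D (uu σ x0 y0) with hw
  have hwR : suAct w (D.R 0) = vecOf D ![y0, x0, 1] := by
    rw [hw, ← vec_R D, elt_apply D (uu_good hiso)]
    congr 1
    funext i
    fin_cases i <;> simp [uu, Matrix.mulVec, dotProduct, Fin.sum_univ_three]
  let N : Subgroup (Cfsg.SU 3 F q) := M.comap (MulAut.conj w).toMonoidHom
  have hmemN : ∀ h, h ∈ N ↔ w * h * w⁻¹ ∈ M := fun h => Iff.rfl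
  set b' := b + a * σ x0 - x0 * σ a with hb'
  have hab' : b' + σ b' + a * σ a = 0 := by
    simp only [hb', map_add, map_sub, map_mul, σσ hF]; linear_combination hab
  have hN : N = ⊤ := by
    refine top_core D hab' ha ?_ hq ?_ ?_
    · have e : w * elt hF D (uu σ a b') = elt hF D (uu σ a b) * w := by
        rw [hw, elt_mul D (uu_good hiso) (uu_good hab'), elt_mul D (uu_good hab) (uu_good hiso), uu_mul, uu_mul,
          add_comm x0 a]
        congr 2
        rw [hb']; ring
      rw [hmemN, e, mul_inv_cancel_right]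
      exact hu
    · intro c hc
      rw [hmemN, T_conj, uu_P D hiso]
      exact hP c hc
    · intro c hc
      rw [hmemN, T_conj, hwR]
      have h1 := (hP.conj hg).smul (inv_ne_zero hgP)
      rw [← hz, hzv, smul_smul, inv_mul_cancel₀ hgP, one_smul] at h1
      exact h1 c hc
  rw [eq_top_iff]
  intro h _
  have : w⁻¹ * h * w ∈ N := hN ▸ Subgroup.mem_top _
  rw [hmemN] at this
  simpa [mul_assoc] using this

/-- One transvection and a scalar of generating norm suffice. -/
theorem top_of_loop {a b : F} (hab : b + σ b + a * σ a = 0) (ha : a ≠ 0) (hu : elt hF D (uu σ a b) ∈ M)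
    (hq : 3 ≤ q) {c0 : F} (hc0 : σ c0 = -c0) (hc00 : c0 ≠ 0) (hT : elt hF D (uu σ 0 c0) ∈ M)
    {g : Cfsg.SU 3 F q} (hg : g ∈ M) {α : F} (hα : α ≠ 0) (hgα : suAct g (D.P 0) = α • D.P 0)
    (hgen : ∀ x : F, σ x = x → x ≠ 0 → ∃ k : ℕ, x = (α * σ α) ^ k)
    {g' : Cfsg.SU 3 F q} (hg' : g' ∈ M) (hgP : hf (suAct g' (D.P 0)) (D.P 0) ≠ 0) : M = ⊤ := by
  refine top_of_full D hab ha hu hq ?_ hg' hgP
  have hpow : ∀ k : ℕ, T hF (D.P 0) (c0 * (α * σ α) ^ k) ∈ M := by
    intro k
    induction k with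
    | zero => rw [pow_zero, mul_one, T_P D hc0]; exact hT
    | succ k ih =>
      have hk : σ (c0 * (α * σ α) ^ k) = -(c0 * (α * σ α) ^ k) :=
        σ_skew_mul hF hc0 (by rw [map_pow, σ_norm hF])
      have := mul_mem (mul_mem hg ih) (inv_mem hg)
      rwa [T_conj, hgα, T_smul hF (D.P 0) hα, mul_assoc, ← pow_succ] at this
  intro c hc
  rcases eq_or_ne c 0 with rfl | hc'
  · rw [T_zero]; exact one_mem _
  obtain ⟨k, hk⟩ := hgen (c / c0) (by rw [map_div₀, hc, hc0, neg_div_neg_eq]) (div_ne_zero hc' hc00)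
  rw [show c = c0 * (α * σ α) ^ k by rw [← hk, mul_div_cancel₀ _ hc00]]
  exact hpow k

/-- The unipotent with `a ≠ 0` is regular. -/
theorem uu_regular {a b : F} (hab : b + σ b + a * σ a = 0) (ha : a ≠ 0) :
    IsNilpotent ((((elt hF D (uu σ a b)) : Matrix.SpecialLinearGroup (Fin 3) F) : Matrix (Fin 3) (Fin 3) F) - 1) ∧
    ((((elt hF D (uu σ a b)) : Matrix.SpecialLinearGroup (Fin 3) F) : Matrix (Fin 3) (Fin 3) F) - 1) ^ (3 - 1) ≠ 0 := by
  have hB := Bm_det D hF
  have e : (((elt hF D (uu σ a b)) : Matrix.SpecialLinearGroup (Fin 3) F) : Matrix (Fin 3) (Fin 3) F) - 1 =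
      Bm D * (uu σ a b - 1) * (Bm D)⁻¹ := by
    rw [elt, dif_pos (uu_good hab), suOfUnitary_val, mul_sub, mul_one, sub_mul, Matrix.mul_nonsing_inv _ hB]
  set N := uu σ a b - 1 with hN
  have h2 : N ^ 2 = !![0, 0, -(σ a * a); 0, 0, 0; 0, 0, 0] := by
    ext i j
    fin_cases i <;> fin_cases j <;> simp [hN, uu, pow_two, Matrix.mul_apply, Fin.sum_univ_three, -conjHom_apply]
  have hpow : ∀ k : ℕ, (Bm D * N * (Bm D)⁻¹) ^ k = Bm D * N ^ k * (Bm D)⁻¹ := by
    intro k
    induction k with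
    | zero => rw [pow_zero, pow_zero, mul_one, Matrix.mul_nonsing_inv _ hB]
    | succ k ih =>
      rw [pow_succ, ih, pow_succ]
      simp only [mul_assoc]
      rw [← mul_assoc (Bm D)⁻¹ (Bm D), Matrix.nonsing_inv_mul _ hB, one_mul]
  rw [e]
  constructor
  · refine ⟨3, ?_⟩
    rw [hpow, pow_succ, h2, show !![0, 0, -(σ a * a); 0, 0, 0; 0, 0, 0] * N = 0 by
      ext i j
      fin_cases i <;> fin_cases j <;> simp [hN, uu, Matrix.mul_apply, Fin.sum_univ_three, -conjHom_apply],
      mul_zero, zero_mul]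
  · rw [show (3 - 1 : ℕ) = 2 from rfl, hpow, h2]
    intro h
    have h' : (Bm D)⁻¹ * (Bm D * !![0, 0, -(σ a * a); 0, 0, 0; 0, 0, 0] * (Bm D)⁻¹) * Bm D = 0 := by
      rw [h, mul_zero, zero_mul]
    simp only [← mul_assoc, Matrix.nonsing_inv_mul _ hB, one_mul] at h'
    rw [mul_assoc, Matrix.nonsing_inv_mul _ hB, mul_one] at h'
    have h'' := congrFun (congrFun h' 0) 2
    simp [-conjHom_apply] at h''
    exact ha h''

end Frame

end Cfsg.Agent.RegUnip.SU3
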