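/-
Bookkeeping for explicit words in SU_3(q).
Main results (namespace `Cfsg.Agent.RegUnip.SU3`): `mm_eq`, `InM`, `InM.step`, `Good.of_mul_eq_one`, `InM.inv`.
-/
import Cfsg.Agent.Lib.RegUnip.SU3Base

set_option autoImplicit false
set_option linter.unusedSectionVars false

namespace Cfsg.Agent.RegUnip.SU3

open Cfsg.Agent.Unitary Cfsg.Agent.RegUnip.SU
open scoped Matrix

variable {F : Type*} [Field F] [Fintype F] {q : ℕ} {hF : Fintype.card F = q ^ 2}

local notation "σ" => Cfsg.Agent.Unitary.conjHom hF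

/-- Equality of a product of explicit matrices, entry by entry. -/
theorem mm_eq {a00 a01 a02 a10 a11 a12 a20 a21 a22 b00 b01 b02 b10 b11 b12 b20 b21 b22
    c00 c01 c02 c10 c11 c12 c20 c21 c22 : F}
    (h00 : a00 * b00 + a01 * b10 + a02 * b20 = c00) (h01 : a00 * b01 + a01 * b11 + a02 * b21 = c01)
    (h02 : a00 * b02 + a01 * b12 + a02 * b22 = c02) (h10 : a10 * b00 + a11 * b10 + a12 * b20 = c10)
    (h11 : a10 * b01 + a11 * b11 + a12 * b21 = c11) (h12 : a10 * b02 + a11 * b12 + a12 * b22 = c12)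
    (h20 : a20 * b00 + a21 * b10 + a22 * b20 = c20) (h21 : a20 * b01 + a21 * b11 + a22 * b21 = c21)
    (h22 : a20 * b02 + a21 * b12 + a22 * b22 = c22) :
    (!![a00, a01, a02; a10, a11, a12; a20, a21, a22] : Matrix (Fin 3) (Fin 3) F) *
      !![b00, b01, b02; b10, b11, b12; b20, b21, b22] = !![c00, c01, c02; c10, c11, c12; c20, c21, c22] := by
  subst h00 h01 h02 h10 h11 h12 h20 h21 h22
  ext i j
  fin_cases i <;> fin_cases j <;> simp [Matrix.mul_apply, Fin.sum_univ_three]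

theorem one_eq : (!![1, 0, 0; 0, 1, 0; 0, 0, 1] : Matrix (Fin 3) (Fin 3) F) = 1 := by
  ext i j
  fin_cases i <;> fin_cases j <;> simp

theorem Good.of_mul_eq_one {s : F →+* F} {A B : Matrix (Fin 3) (Fin 3) F} (hA : Good s A) (h : A * B = 1) :
    Good s B := by
  refine ⟨?_, fun x y => ?_⟩
  · have := congrArg Matrix.det h
    rwa [Matrix.det_mul, hA.1, one_mul, Matrix.det_one] at this
  · rw [← hA.2 (B *ᵥ x) (B *ᵥ y), Matrix.mulVec_mulVec, Matrix.mulVec_mulVec, h, Matrix.one_mulVec, Matrix.one_mulVec]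

variable (hF) in
/-- A coordinate matrix of an element of `M`. -/
def InM (D : Fr (F := F) q 3 0) (M : Subgroup (Cfsg.SU 3 F q)) (X : Matrix (Fin 3) (Fin 3) F) : Prop :=
  Good σ X ∧ elt hF D X ∈ M

theorem InM.step {D : Fr (F := F) q 3 0} {M : Subgroup (Cfsg.SU 3 F q)} {X Y Z : Matrix (Fin 3) (Fin 3) F}
    (hX : InM hF D M X) (hY : InM hF D M Y) (h : X * Y = Z) : InM hF D M Z := by
  subst h
  exact ⟨hX.1.mul hY.1, elt_mul D hX.1 hY.1 ▸ mul_mem hX.2 hY.2⟩

theorem InM.inv {D : Fr (F := F) q 3 0} {M : Subgroup (Cfsg.SU 3 F q)} {X Y : Matrix (Fin 3) (Fin 3) F}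
    (hX : InM hF D M X) (h : X * Y = 1) : InM hF D M Y := by
  have hY := hX.1.of_mul_eq_one h
  have e : elt hF D X * elt hF D Y = 1 := by rw [elt_mul D hX.1 hY, h, elt_one]
  exact ⟨hY, inv_eq_of_mul_eq_one_right e ▸ inv_mem hX.2⟩

end Cfsg.Agent.RegUnip.SU3
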