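/-
Two conjugate regular unipotent elements of SU_3(q) with diagonal square of the product.
Main results (namespace `Cfsg.Agent.RegUnip.SU3`): `Dat`, `Dat.exists_pair`, `Dat.top_of_closure`.
-/
import Cfsg.Agent.Lib.RegUnip.SU3Base

set_option autoImplicit false
set_option linter.unusedSectionVars false

namespace Cfsg.Agent.RegUnip.SU3

open Cfsg.Agent.Unitary Cfsg.Agent.RegUnip.SU
open scoped Matrix

variable {F : Type*} [Field F] [Fintype F] {q : ℕ} {hF : Fintype.card F = q ^ 2}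

local notation "σ" => Cfsg.Agent.Unitary.conjHom hF

variable (hF) in
/-- Parameters of the construction: `μ` of norm `-1`, a skew `k`, and `a` of norm `-(μ + 1/μ)^3/k`. -/
structure Dat where
  μ : F
  k : F
  a : F
  hμ0 : μ ≠ 0
  hμ : σ μ = -μ⁻¹
  hm : μ ^ 2 + 1 ≠ 0
  hk0 : k ≠ 0
  hk : σ k = -k
  ha : a * σ a = -(μ + μ⁻¹) ^ 3 / k

variable (P : Dat (F := F) hF)

namespace Dat

/-- The sum `μ + 1/μ`. -/
def m : F := P.μ + P.μ⁻¹

/-- The parameter `b` of the first element. -/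
def b : F := (P.μ ^ 3 + 3 * P.μ) / P.k

/-- The parameter `b` of its conjugate with the same `a`. -/
def b' : F := P.m ^ 2 * P.μ / P.k

/-- The product of the two elements. -/
def sm : Matrix (Fin 3) (Fin 3) F := !![P.μ, 0, 0; 0, -(P.μ ^ 2)⁻¹, 0; P.k * P.μ, 0, -P.μ]

/-- Its square. -/
def tm : Matrix (Fin 3) (Fin 3) F := !![P.μ ^ 2, 0, 0; 0, (P.μ ^ 4)⁻¹, 0; 0, 0, P.μ ^ 2]

/-- The conjugating element. -/
def gm : Matrix (Fin 3) (Fin 3) F :=
  !![(P.μ + 1) / (P.μ * P.m), -σ P.a / (P.μ * P.m), P.m / P.k;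
    -(P.k * P.μ * P.a) / P.m ^ 2, -1, 0;
    P.k / P.m, 0, 0]

theorem m_ne : P.m ≠ 0 := by
  intro h
  apply P.hm
  have := P.hμ0
  rw [m] at h
  field_simp at h
  linear_combination h

theorem m_skew : σ P.m = -P.m := by
  rw [m, map_add, map_inv₀, P.hμ, inv_neg, inv_inv]; ring

theorem a_ne : P.a ≠ 0 := fun h => by
  have := P.ha
  rw [h, zero_mul] at this
  exact P.m_ne (eq_zero_of_pow_eq_zero (n := 3) (neg_eq_zero.1 ((div_eq_zero_iff.1 this.symm).resolve_right P.hk0)))

theorem ha_mul : P.a * σ P.a * P.k = -P.m ^ 3 := by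
  rw [P.ha, div_mul_cancel₀ _ P.hk0]; rfl

theorem hab : P.b + σ P.b + P.a * σ P.a = 0 := by
  rw [P.ha, b, map_div₀, map_add, map_pow, map_mul, map_ofNat, P.hμ, P.hk]
  have := P.hμ0
  have := P.hk0
  field_simp
  ring

theorem hab' : P.b' + σ P.b' + P.a * σ P.a = 0 := by
  rw [P.ha, b', map_div₀, map_mul, map_pow, P.m_skew, P.hμ, P.hk, m]
  have := P.hμ0
  have := P.hk0
  field_simp
  ring

theorem sm_good : Good σ P.sm := by
  have := P.hμ0
  apply good_of_cols <;> simp [sm, Matrix.det_fin_three, P.hμ, P.hk, -conjHom_apply] <;> field_simp <;> ring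

theorem sm_sq : P.sm * P.sm = P.tm := by
  have := P.hμ0
  ext i j
  fin_cases i <;> fin_cases j <;> simp [sm, tm, Matrix.mul_apply, Fin.sum_univ_three] <;> field_simp <;> ring

theorem gm_good : Good σ P.gm := by
  have := P.hμ0
  have := P.hk0
  have := P.a_ne
  have := P.hm
  have : 1 + P.μ ^ 2 ≠ 0 := by rw [add_comm]; exact P.hm
  have hm' : P.m = (P.μ ^ 2 + 1) / P.μ := by rw [m]; field_simp
  have hσa : σ P.a = -((P.μ ^ 2 + 1) / P.μ) ^ 3 / (P.k * P.a) := by
    rw [← hm', ← P.ha_mul]; field_simp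
  apply good_of_cols <;>
    simp [gm, hm', hσa, Matrix.det_fin_three, P.hμ, P.hk, σσ hF, map_div₀, -conjHom_apply] <;> field_simp <;>
    (try ring_nf) <;> (try field_simp) <;> (try ring)

theorem main_eq : uu σ P.a P.b * P.gm * uu σ P.a P.b' = P.sm * P.gm := by
  have := P.hμ0
  have := P.hk0
  have := P.a_ne
  have := P.hm
  have : 1 + P.μ ^ 2 ≠ 0 := by rw [add_comm]; exact P.hm
  have hm' : P.m = (P.μ ^ 2 + 1) / P.μ := by rw [m]; field_simp
  have hσa : σ P.a = -((P.μ ^ 2 + 1) / P.μ) ^ 3 / (P.k * P.a) := by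
    rw [← hm', ← P.ha_mul]; field_simp
  ext i j
  fin_cases i <;> fin_cases j <;>
    simp [uu, gm, sm, b, b', hm', hσa, Matrix.mul_apply, Fin.sum_univ_three, -conjHom_apply] <;> field_simp <;> ring

/-- A pair of conjugates generating a group containing `u` and the product element. -/
theorem exists_pair (D : Fr (F := F) q 3 0)
    (htop : ∀ M : Subgroup (Cfsg.SU 3 F q), elt hF D (uu σ P.a P.b) ∈ M → elt hF D P.sm ∈ M → M = ⊤) :
    ∃ u g : ↥(Cfsg.SU 3 F q), (IsNilpotent (((u : Matrix.SpecialLinearGroup (Fin 3) F) : Matrix (Fin 3) (Fin 3) F) - 1) ∧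
      (((u : Matrix.SpecialLinearGroup (Fin 3) F) : Matrix (Fin 3) (Fin 3) F) - 1) ^ (3 - 1) ≠ 0) ∧
      Subgroup.closure ({u, g * u * g⁻¹} : Set ↥(Cfsg.SU 3 F q)) = ⊤ := by
  obtain ⟨s, hs⟩ := exists_trace_eq hF (c := (1 : F)) (one_pow q)
  have hs' : s + σ s = 1 := hs
  set δ := P.b' - P.b with hδ
  have hδs : σ δ = -δ := by
    rw [hδ, map_sub]; linear_combination P.hab' - P.hab
  set N := P.a * σ P.a with hN
  have hNσ : σ N = N := σ_norm hF P.a
  have hN0 : N ≠ 0 := mul_ne_zero P.a_ne (fun e => P.a_ne (by rw [← σσ hF P.a, e, map_zero]))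
  set c := P.a * (s * δ / N) with hc
  obtain ⟨e, he⟩ := exists_trace_eq hF (c := -(c * σ c)) (by change σ _ = _; rw [map_neg, σ_norm hF])
  have he' : e + σ e + c * σ c = 0 := by
    have he'' : e + σ e = -(c * σ c) := he
    linear_combination he''
  set u := elt hF D (uu σ P.a P.b) with hu
  set h := elt hF D (uu σ c e) with hh
  set G := elt hF D P.gm with hG
  have hconj : h * u = elt hF D (uu σ P.a P.b') * h := by
    rw [hh, hu, elt_mul D (uu_good he') (uu_good P.hab), elt_mul D (uu_good P.hab') (uu_good he'), uu_mul, uu_mul,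
      add_comm c P.a]
    congr 2
    have hσc : σ c = σ P.a * (σ s * -δ / N) := by rw [hc, map_mul, map_div₀, map_mul, hδs, hNσ]
    have h1 : c * σ P.a - P.a * σ c = δ := by
      rw [hσc, hc, show P.a * (s * δ / N) * σ P.a - P.a * (σ P.a * (σ s * -δ / N)) = (s + σ s) * δ * (N / N) by
        rw [hN]; ring, hs', div_self hN0, one_mul, mul_one]
    linear_combination h1
  refine ⟨u, G * h, uu_regular D P.hab P.a_ne, htop _ (Subgroup.subset_closure (Or.inl rfl)) ?_⟩
  have hv : G * h * u * (G * h)⁻¹ ∈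
      Subgroup.closure ({u, G * h * u * (G * h)⁻¹} : Set ↥(Cfsg.SU 3 F q)) := Subgroup.subset_closure (Or.inr rfl)
  have hS : u * (G * h * u * (G * h)⁻¹) = elt hF D P.sm := by
    rw [show u * (G * h * u * (G * h)⁻¹) = u * G * (h * u * h⁻¹) * G⁻¹ by group, hconj, mul_inv_cancel_right,
      mul_inv_eq_iff_eq_mul, hu, hG, elt_mul D (uu_good P.hab) P.gm_good,
      elt_mul D ((uu_good P.hab).mul P.gm_good) (uu_good P.hab'), elt_mul D P.sm_good P.gm_good, P.main_eq]
  rw [← hS]
  exact mul_mem (Subgroup.subset_closure (Or.inl rfl)) hv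

/-- The product element moves the line of `P`. -/
theorem sm_moves (D : Fr (F := F) q 3 0) :
    Cfsg.hermForm 3 F q (suAct (elt hF D P.sm) (D.P 0)) (D.P 0) ≠ 0 := by
  rw [← vec_P D, elt_apply D P.sm_good, h_vecOf (hF := hF)]
  simp [g3, sm, Matrix.mulVec, dotProduct, Fin.sum_univ_three, P.hk0, P.hμ0, -conjHom_apply]

/-- If `μ⁻⁶` generates the field as a ring then `u` and the product generate. -/
theorem top_of_closure (D : Fr (F := F) q 3 0) (hq : 3 ≤ q)
    (hlam : Subring.closure ({(P.μ ^ 6)⁻¹} : Set F) = ⊤) (M : Subgroup (Cfsg.SU 3 F q))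
    (hu : elt hF D (uu σ P.a P.b) ∈ M) (hS : elt hF D P.sm ∈ M) : M = ⊤ := by
  classical
  set lam := (P.μ ^ 6)⁻¹ with hl
  have hμ0 := P.hμ0
  have hσl : σ lam = P.μ ^ 6 := by
    rw [hl, map_inv₀, map_pow, P.hμ, (show Even 6 by decide).neg_pow, inv_pow, inv_inv]
  have htg : Good σ P.tm := P.sm_sq ▸ P.sm_good.mul P.sm_good
  have ht : elt hF D P.tm ∈ M := by
    rw [← P.sm_sq, ← elt_mul D P.sm_good P.sm_good]; exact mul_mem hS hS
  let A : AddSubgroup F :=
    { carrier := {x | ∃ b, b + σ b + x * σ x = 0 ∧ elt hF D (uu σ x b) ∈ M}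
      zero_mem' := ⟨0, by rw [map_zero]; ring, by rw [uu_zero, elt_one]; exact one_mem _⟩
      add_mem' := by
        rintro x y ⟨b, hb, hbM⟩ ⟨c, hc, hcM⟩
        refine ⟨b + c - y * σ x, by simp only [map_add, map_sub, map_mul, σσ hF]; linear_combination hb + hc, ?_⟩
        rw [← uu_mul, ← elt_mul D (uu_good hb) (uu_good hc)]
        exact mul_mem hbM hcM
      neg_mem' := by
        rintro x ⟨b, hb, hbM⟩
        refine ⟨σ b, by rw [σσ hF, map_neg]; linear_combination hb, ?_⟩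
        rw [← elt_uu_inv D hb]
        exact inv_mem hbM }
  have hlA : ∀ x ∈ A, lam * x ∈ A := by
    rintro x ⟨b, hb, hbM⟩
    have hb' : b + σ b + lam * x * σ (lam * x) = 0 := by
      rw [map_mul, hσl, hl]; field_simp; linear_combination hb
    refine ⟨b, hb', ?_⟩
    have e : elt hF D P.tm * elt hF D (uu σ x b) = elt hF D (uu σ (lam * x) b) * elt hF D P.tm := by
      rw [elt_mul D htg (uu_good hb), elt_mul D (uu_good hb') htg]
      congr 1
      ext i j
      fin_cases i <;> fin_cases j <;>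
        simp [uu, tm, hl, map_inv₀, map_pow, P.hμ, (show Even 6 by decide).neg_pow, inv_pow, Matrix.mul_apply, Fin.sum_univ_three, -conjHom_apply] <;> field_simp
    rw [show elt hF D (uu σ (lam * x) b) = elt hF D P.tm * elt hF D (uu σ x b) * (elt hF D P.tm)⁻¹ by
      rw [e, mul_inv_cancel_right]]
    exact mul_mem (mul_mem ht hbM) (inv_mem ht)
  let K : Subring F :=
    { carrier := {y | ∀ x ∈ A, y * x ∈ A}
      one_mem' := fun a ha => by rwa [one_mul]
      mul_mem' := fun {x y} hx hy a ha => by rw [mul_assoc]; exact hx _ (hy a ha)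
      zero_mem' := fun a _ => by rw [zero_mul]; exact A.zero_mem
      add_mem' := fun {x y} hx hy a ha => by rw [add_mul]; exact A.add_mem (hx a ha) (hy a ha)
      neg_mem' := fun {x} hx a ha => by rw [neg_mul]; exact A.neg_mem (hx a ha) }
  have hK : ∀ y, y ∈ K := fun y => by
    have : Subring.closure ({lam} : Set F) ≤ K := Subring.closure_le.2 fun z hz => by
      rw [Set.mem_singleton_iff] at hz; subst hz; exact hlA
    rw [hlam] at this
    exact this (Subring.mem_top y)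
  have hAall : ∀ y, y * P.a ∈ A := fun y => hK y P.a ⟨P.b, P.hab, hu⟩
  refine top_of_full D P.hab P.a_ne hu hq ?_ hS (P.sm_moves D)
  intro c hc
  obtain ⟨s, hs⟩ := exists_trace_eq hF (c := (1 : F)) (one_pow q)
  have hs' : s + σ s = 1 := hs
  set N := P.a * σ P.a with hN
  have hNσ : σ N = N := σ_norm hF P.a
  have hN0 : N ≠ 0 := mul_ne_zero P.a_ne (fun e => P.a_ne (by rw [← σσ hF P.a, e, map_zero]))
  set z := -(s * c) / N with hz
  have hσz : σ z = σ s * c / N := by
    rw [hz, map_div₀, map_neg, map_mul, hc, hNσ, mul_neg, neg_neg]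
  obtain ⟨b1, hb1, hM1⟩ := hAall 1
  rw [one_mul] at hb1 hM1
  obtain ⟨b2, hb2, hM2⟩ := hAall z
  have hδ : P.a * σ (z * P.a) - z * P.a * σ P.a = c := by
    rw [map_mul, show P.a * (σ z * σ P.a) - z * P.a * σ P.a = (σ z - z) * N by rw [hN]; ring, hσz, hz,
      show (σ s * c / N - -(s * c) / N) * N = (s + σ s) * c * (N / N) by ring, hs', div_self hN0, one_mul, mul_one]
  have e : elt hF D (uu σ P.a b1) * elt hF D (uu σ (z * P.a) b2) =
      elt hF D (uu σ 0 c) * (elt hF D (uu σ (z * P.a) b2) * elt hF D (uu σ P.a b1)) := by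
    have g0 : Good σ (uu σ 0 c) := uu_good (by rw [hc]; ring)
    rw [elt_mul D (uu_good hb1) (uu_good hb2), elt_mul D (uu_good hb2) (uu_good hb1),
      elt_mul D g0 ((uu_good hb2).mul (uu_good hb1)), uu_mul, uu_mul, uu_mul, zero_add, add_comm (z * P.a) P.a,
      map_zero, mul_zero, sub_zero]
    congr 2
    linear_combination hδ
  rw [T_P D hc]
  have h2 := mul_mem (mul_mem hM1 hM2) (inv_mem (mul_mem hM2 hM1))
  rwa [e, mul_inv_cancel_right] at h2

end Dat

end Cfsg.Agent.RegUnip.SU3
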