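/-
The norm `-1` element of large order and the field generated by its sixth power.
Main results (namespace `Cfsg.Agent.RegUnip.SU3`): `exists_mu`, `closure_inv_six`, `exists_pair_generic`.
-/
import Cfsg.Agent.Lib.RegUnip.SU3Gen

set_option autoImplicit false
set_option linter.unusedSectionVars false

namespace Cfsg.Agent.RegUnip.SU3

open Cfsg.Agent.Unitary Cfsg.Agent.RegUnip.SU
open scoped Matrix

variable {F : Type*} [Field F] [Fintype F] {q : ℕ}

/-- An element of norm `-1` whose order is `2(q+1)` for odd `q` and `q+1` for even `q`. -/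
theorem exists_mu (hF : Fintype.card F = q ^ 2) : ∃ μ : F, μ ≠ 0 ∧ Cfsg.Agent.Unitary.conjHom hF μ = -μ⁻¹ ∧
    (∀ j : ℕ, μ ^ j = 1 → q + 1 ∣ j) ∧ (Odd q → ∀ j : ℕ, μ ^ j = 1 → 2 * (q + 1) ∣ j) := by
  obtain ⟨γ, hγ⟩ := IsCyclic.exists_generator (α := Fˣ)
  have hq := two_le_q hF
  have hord : orderOf γ = q ^ 2 - 1 := by rw [orderOf_eq_card_of_forall_mem_zpowers hγ, card_units hF]
  have hfac : q ^ 2 - 1 = (q - 1) * (q + 1) := by
    rw [mul_comm]; simpa using Nat.sq_sub_sq q 1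
  have dvd_of : ∀ h j : ℕ, ((γ : F) ^ h) ^ j = 1 → (q - 1) * (q + 1) ∣ h * j := fun h j e => by
    rw [← hfac, ← hord]
    refine orderOf_dvd_of_pow_eq_one (Units.ext ?_)
    rw [Units.val_pow_eq_pow_val, pow_mul, e, Units.val_one]
  have top : (γ : F) ^ ((q - 1) * (q + 1)) = 1 := by
    rw [← hfac, ← hord, ← Units.val_pow_eq_pow_val, pow_orderOf_eq_one, Units.val_one]
  have fin : ∀ μ : F, μ ≠ 0 → μ ^ (q + 1) = -1 → Cfsg.Agent.Unitary.conjHom hF μ = -μ⁻¹ := fun μ h0 h => by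
    rw [σ_apply hF]
    rw [pow_succ] at h
    field_simp
    linear_combination h
  rcases Nat.even_or_odd q with he | ho
  · refine ⟨(γ : F) ^ (q - 1), pow_ne_zero _ γ.ne_zero, fin _ (pow_ne_zero _ γ.ne_zero) ?_, fun j hj => ?_,
      fun ho => absurd ho (Nat.not_odd_iff_even.2 he)⟩
    · obtain ⟨p, m, hp, hchar, hqp, hm⟩ := exists_prime_pow hF
      have : p = 2 := by
        rw [hqp] at he
        exact (hp.even_iff).1 (Nat.even_pow.1 he).1
      subst this
      rw [← pow_mul, top]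
      have h2 : (2 : F) = 0 := CharP.cast_eq_zero F 2
      linear_combination h2
    · exact Nat.dvd_of_mul_dvd_mul_left (by omega) (dvd_of _ _ hj)
  · obtain ⟨h, hh⟩ : ∃ h, q = 2 * h + 1 := ho
    have e1 : (q - 1) * (q + 1) = h * (2 * (q + 1)) := by rw [show q - 1 = h * 2 by omega, mul_assoc]
    have main : ∀ j : ℕ, ((γ : F) ^ h) ^ j = 1 → 2 * (q + 1) ∣ j := fun j hj =>
      Nat.dvd_of_mul_dvd_mul_left (show 0 < h by omega) (e1 ▸ dvd_of h j hj)
    refine ⟨(γ : F) ^ h, pow_ne_zero _ γ.ne_zero, fin _ (pow_ne_zero _ γ.ne_zero) ?_,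
      fun j hj => (dvd_mul_left _ _).trans (main j hj), fun _ => main⟩
    set x := ((γ : F) ^ h) ^ (q + 1) with hx
    have hxx : x * x = 1 := by
      rw [hx, ← pow_mul, ← pow_add, show h * (q + 1) + h * (q + 1) = (q - 1) * (q + 1) by rw [e1]; ring, top]
    have hx1 : x ≠ 1 := fun e => by
      have := Nat.le_of_dvd (by omega) (main _ e)
      omega
    rcases mul_self_eq_one_iff.1 hxx with h1 | h1
    · exact absurd h1 hx1
    · exact h1

/-- The ring generated by `μ⁻⁶` is the whole field, unless `q` is 5 or 8. -/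
theorem closure_inv_six (hF : Fintype.card F = q ^ 2) (hq : 3 ≤ q) (h5 : q ≠ 5) (h8 : q ≠ 8) {μ : F} (hμ0 : μ ≠ 0)
    (hμ : Cfsg.Agent.Unitary.conjHom hF μ = -μ⁻¹) (hord : ∀ j : ℕ, μ ^ j = 1 → q + 1 ∣ j)
    (hord2 : Odd q → ∀ j : ℕ, μ ^ j = 1 → 2 * (q + 1) ∣ j) :
    Subring.closure ({(μ ^ 6)⁻¹} : Set F) = ⊤ := by
  classical
  set lam := (μ ^ 6)⁻¹ with hlam
  set K := Subring.closure ({lam} : Set F) with hK
  have hlK : lam ∈ K := Subring.subset_closure rfl
  obtain ⟨p, m, hp, hchar, hqp, hm⟩ := exists_prime_pow hF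
  letI : Field K := (Finite.isField_of_domain K).toField
  haveI : Fintype K := Fintype.ofFinite K
  set r := Module.finrank K F with hr
  have hcard : Fintype.card F = Fintype.card K ^ r := Module.card_eq_pow_finrank
  set l := Fintype.card K with hl
  have hfix : ∀ i : ℕ, lam ^ l ^ i = lam := by
    intro i
    induction i with
    | zero => rw [pow_zero, pow_one]
    | succ i ih =>
      rw [pow_succ, pow_mul, ih]
      have := congrArg (fun z : K => (z : F)) (FiniteField.pow_card (⟨lam, hlK⟩ : K))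
      simpa using this
  have hlam0 : lam ≠ 0 := inv_ne_zero (pow_ne_zero _ hμ0)
  have hσlam : lam ^ q = lam⁻¹ := by
    change Cfsg.Agent.Unitary.conjHom hF lam = _
    rw [hlam, map_inv₀, map_pow, hμ, (show Even 6 by decide).neg_pow, inv_pow]
  have hl2 : 2 ≤ l := Fintype.one_lt_card
  have hr0 : 0 < r := Module.finrank_pos
  rw [hF] at hcard
  by_contra hne
  have hr1 : r ≠ 1 := fun h => hne (by
    have hb : Function.Bijective (Subtype.val : K → F) :=
      (Fintype.bijective_iff_injective_and_card _).2 ⟨Subtype.val_injective, by rw [hF, hcard, h, pow_one]⟩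
    rw [eq_top_iff]
    intro x _
    obtain ⟨y, rfl⟩ := hb.2 x
    exact y.2)
  have hlp : l ∣ p ^ (m * 2) := by
    rw [pow_mul, ← hqp, hcard]
    exact dvd_pow_self l (by omega)
  obtain ⟨j, -, hj⟩ := (Nat.dvd_prime_pow hp).1 hlp
  have hjr : j * r = m * 2 := by
    apply Nat.pow_right_injective hp.two_le
    change p ^ (j * r) = p ^ (m * 2)
    rw [pow_mul, ← hj, ← hcard, hqp, ← pow_mul]
  have key : ∀ n : ℕ, lam ^ n = 1 → q + 1 ∣ 6 * n ∧ (Odd q → 2 * (q + 1) ∣ 6 * n) := by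
    intro n hn
    rw [hlam, inv_pow, inv_eq_one, ← pow_mul] at hn
    exact ⟨hord _ hn, fun ho => hord2 ho _ hn⟩
  rcases Nat.even_or_odd r with ⟨i, hi⟩ | ⟨i, hi⟩
  · -- `λ` is fixed by the involution
    have hqi : q = l ^ i := by
      apply Nat.pow_left_injective (show (2 : ℕ) ≠ 0 by omega)
      change q ^ 2 = (l ^ i) ^ 2
      rw [hcard, hi, ← pow_mul, mul_two]
    have h1 : lam = lam⁻¹ := by rw [← hσlam, hqi, hfix]
    obtain ⟨k1, k2⟩ := key 2 (by rw [sq]; nth_rewrite 2 [h1]; rw [mul_inv_cancel₀ hlam0])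
    rcases Nat.even_or_odd q with ⟨t, ht⟩ | ho
    · have hd : q + 1 ∣ 3 := by
        have hco : Nat.Coprime (q + 1) 4 := by
          have : Nat.Coprime (q + 1) 2 := Nat.coprime_two_right.2 ⟨t, by omega⟩
          simpa using this.pow_right 2
        exact hco.dvd_of_dvd_mul_left (show q + 1 ∣ 4 * 3 by simpa using k1)
      have := Nat.le_of_dvd (by norm_num) hd
      omega
    · have hle := Nat.le_of_dvd (by norm_num) (k2 ho)
      obtain ⟨t, ht⟩ := ho
      have hd := k2 ⟨t, ht⟩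
      rcases (show q = 3 ∨ q = 5 by omega) with rfl | rfl
      · norm_num at hd
      · exact h5 rfl
  · -- the involution acts as a smaller Frobenius
    obtain ⟨u, hu⟩ : 2 ∣ j := by
      have : 2 ∣ j * r := hjr ▸ dvd_mul_left 2 m
      rcases (Nat.prime_two.dvd_mul).1 this with h | h
      · exact h
      · exfalso; omega
    set p0 := p ^ u with hp0
    have hl0 : l = p0 * p0 := by rw [hj, hu, hp0, ← pow_add, two_mul]
    have hq0 : q = p0 ^ r := by
      rw [hqp, hp0, ← pow_mul]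
      congr 1
      apply Nat.eq_of_mul_eq_mul_right (show 0 < 2 by omega)
      rw [← hjr, hu]; ring
    have hqi : q = l ^ i * p0 := by rw [hq0, hl0, hi]; ring
    have h1 : lam ^ p0 = lam⁻¹ := by rw [← hσlam, hqi, pow_mul, hfix]
    obtain ⟨k1, k2⟩ := key (p0 + 1) (by rw [pow_succ, h1, inv_mul_cancel₀ hlam0])
    have hp02 : 2 ≤ p0 := by
      rcases Nat.eq_zero_or_pos u with rfl | hu0
      · exfalso; rw [hl0, hp0, pow_zero] at hl2; omega
      · exact hp.two_le.trans (Nat.le_self_pow (by omega) p)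
    have hq3 : p0 * p0 * p0 ≤ q := by
      rw [hq0, show p0 * p0 * p0 = p0 ^ 3 by ring]
      exact Nat.pow_le_pow_right (by omega) (by omega)
    rcases Nat.even_or_odd q with ⟨t, ht⟩ | ho
    · have hd : q + 1 ∣ 3 * (p0 + 1) := by
        refine (Nat.coprime_two_right.2 ⟨t, by omega⟩ : Nat.Coprime (q + 1) 2).dvd_of_dvd_mul_left ?_
        rwa [show 2 * (3 * (p0 + 1)) = 6 * (p0 + 1) by ring]
      have hle := Nat.le_of_dvd (by omega) hd
      have hp0' : p0 = 2 := by
        by_contra h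
        have h9 : 9 * p0 ≤ p0 * p0 * p0 := Nat.mul_le_mul (Nat.mul_le_mul (by omega) (by omega) : 3 * 3 ≤ p0 * p0) le_rfl
        omega
      rw [hp0'] at hle hq0
      have hr3 : r = 3 := by
        by_contra h
        have : 2 ^ 5 ≤ 2 ^ r := Nat.pow_le_pow_right (by omega) (by omega)
        omega
      rw [hr3] at hq0
      exact h8 (by rw [hq0]; norm_num)
    · have hle := Nat.le_of_dvd (by omega) (k2 ho)
      have hp3 : 3 ≤ p0 := by
        by_contra h
        have : p0 = 2 := by omega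
        rw [hq0, this] at ho
        exact (Nat.not_odd_iff_even.2 ((by decide : Even 2).pow_of_ne_zero (by omega))) ho
      have h9 : 9 * p0 ≤ p0 * p0 * p0 := Nat.mul_le_mul (Nat.mul_le_mul hp3 hp3 : 3 * 3 ≤ p0 * p0) le_rfl
      omega

/-- The data exist for every such `μ`. -/
theorem exists_dat (hF : Fintype.card F = q ^ 2) (hq : 3 ≤ q) {μ : F} (hμ0 : μ ≠ 0)
    (hμ : Cfsg.Agent.Unitary.conjHom hF μ = -μ⁻¹) (hord : ∀ j : ℕ, μ ^ j = 1 → q + 1 ∣ j)
    (hord2 : Odd q → ∀ j : ℕ, μ ^ j = 1 → 2 * (q + 1) ∣ j) : ∃ P : Dat (F := F) hF, P.μ = μ := by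
  obtain ⟨k, hk0, hk⟩ := exists_skew hF
  have hk' : Cfsg.Agent.Unitary.conjHom hF k = -k := hk
  have hm : μ ^ 2 + 1 ≠ 0 := fun h => by
    have h4 : μ ^ 4 = 1 := by linear_combination (μ ^ 2 - 1) * h
    have := Nat.le_of_dvd (by norm_num) (hord 4 h4)
    have hq3 : q = 3 := by omega
    have := Nat.le_of_dvd (by norm_num) (hord2 (hq3 ▸ (by decide : Odd 3)) 4 h4)
    omega
  obtain ⟨a, ha⟩ := exists_norm_eq hF (c := -(μ + μ⁻¹) ^ 3 / k) (by
    change Cfsg.Agent.Unitary.conjHom hF _ = _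
    rw [map_div₀, map_neg, map_pow, map_add, map_inv₀, hμ, hk', inv_neg, inv_inv,
      show -μ⁻¹ + -μ = -(μ + μ⁻¹) by ring, (show Odd 3 by decide).neg_pow, neg_div_neg_eq, neg_div])
  exact ⟨⟨μ, k, a, hμ0, hμ, hm, hk0, hk', by rw [σ_apply hF, ← pow_succ', ha]⟩, rfl⟩

/-- The general case. -/
theorem exists_pair_generic (hF : Fintype.card F = q ^ 2) (hq : 3 ≤ q) (h5 : q ≠ 5) (h8 : q ≠ 8) :
    ∃ u g : ↥(Cfsg.SU 3 F q), (IsNilpotent (((u : Matrix.SpecialLinearGroup (Fin 3) F) : Matrix (Fin 3) (Fin 3) F) - 1) ∧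
      (((u : Matrix.SpecialLinearGroup (Fin 3) F) : Matrix (Fin 3) (Fin 3) F) - 1) ^ (3 - 1) ≠ 0) ∧
      Subgroup.closure ({u, g * u * g⁻¹} : Set ↥(Cfsg.SU 3 F q)) = ⊤ := by
  obtain ⟨μ, hμ0, hμ, hord, hord2⟩ := exists_mu hF
  obtain ⟨P, hP⟩ := exists_dat hF hq hμ0 hμ hord hord2
  obtain ⟨D⟩ := exists_frame (F := F) (n := 3) (l := 0) hF rfl
  refine P.exists_pair D (P.top_of_closure D hq ?_)
  rw [hP]
  exact closure_inv_six hF hq h5 h8 hμ0 hμ hord hord2

end Cfsg.Agent.RegUnip.SU3
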