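/-
SU_3(8) is generated by two conjugate regular unipotent elements.
Main result (namespace `Cfsg.Agent.RegUnip.SU3`): `exists_pair_eight`.
-/
import Cfsg.Agent.Lib.RegUnip.SU3Calc
import Cfsg.Agent.Lib.RegUnip.SU3Field

set_option autoImplicit false
set_option linter.unusedSectionVars false

namespace Cfsg.Agent.RegUnip.SU3

open Cfsg.Agent.Unitary Cfsg.Agent.RegUnip.SU
open scoped Matrix

variable {F : Type*} [Field F] [Fintype F]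

theorem exists_pair_eight (hF : Fintype.card F = 8 ^ 2) :
    ∃ u g : ↥(Cfsg.SU 3 F 8), (IsNilpotent (((u : Matrix.SpecialLinearGroup (Fin 3) F) : Matrix (Fin 3) (Fin 3) F) - 1) ∧
      (((u : Matrix.SpecialLinearGroup (Fin 3) F) : Matrix (Fin 3) (Fin 3) F) - 1) ^ (3 - 1) ≠ 0) ∧
      Subgroup.closure ({u, g * u * g⁻¹} : Set ↥(Cfsg.SU 3 F 8)) = ⊤ := by
  obtain ⟨D⟩ := exists_frame (F := F) (n := 3) (l := 0) hF rfl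
  set σ := Cfsg.Agent.Unitary.conjHom hF with hσ
  have hchar : (2 : F) = 0 := by
    have h : ((Fintype.card F : ℕ) : F) = 0 := FiniteField.cast_card_eq_zero F
    rw [hF] at h
    push_cast at h
    exact eq_zero_of_pow_eq_zero (n := 6) (by linear_combination h)
  obtain ⟨μ, hμ0, hμ, hord, -⟩ := exists_mu hF
  rw [← hσ] at hμ
  have h9 : μ ^ 9 = 1 := by
    have h1 : μ ^ 8 = -μ⁻¹ := by rw [← hμ, hσ, σ_apply hF]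
    rw [pow_succ, h1, neg_mul, inv_mul_cancel₀ hμ0]
    linear_combination -hchar
  have hmod : μ ^ 6 + μ ^ 3 + 1 = 0 := by
    have h3 : μ ^ 3 - 1 ≠ 0 := fun h => by
      have := Nat.le_of_dvd (by norm_num) (hord 3 (by linear_combination h))
      omega
    exact (mul_eq_zero.1 (show (μ ^ 3 - 1) * (μ ^ 6 + μ ^ 3 + 1) = 0 by linear_combination h9)).resolve_left h3
  have hm : μ ^ 2 + 1 ≠ 0 := fun h => by
    have := Nat.le_of_dvd (by norm_num) (hord 4 (by linear_combination (μ ^ 2 - 1) * h))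
    omega
  have hinv : μ⁻¹ = μ ^ 8 := inv_eq_of_mul_eq_one_right (by linear_combination (-1 + μ ^ 3) * hmod)
  have hinv2 : (μ ^ 2)⁻¹ = μ + μ ^ 4 := inv_eq_of_mul_eq_one_right (by linear_combination 1 * hmod + (-1) * hchar)
  have hσμ : σ μ = μ ^ 8 := by rw [hσ, σ_apply hF]
  obtain ⟨A, hA⟩ : ∃ A : F, A = 1 + μ ^ 4 + μ ^ 5 := ⟨_, rfl⟩
  have hsA : σ A = A := by
    rw [hA]
    simp only [map_add, map_mul, map_one, map_pow, map_ofNat, hσμ]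
    linear_combination (-μ ^ 4 - μ ^ 5 + μ ^ 7 + μ ^ 8 - μ ^ 13 - μ ^ 14 + μ ^ 16 + μ ^ 17 - μ ^ 22 - μ ^ 23 + μ ^ 25 + μ ^ 26 - μ ^ 31 + μ ^ 34) * hmod
  have hk : σ (1 : F) = -1 := by rw [map_one]; linear_combination hchar
  have hNA : A * σ A = -(μ + μ⁻¹) ^ 3 / 1 := by
    rw [hsA, div_one, hinv, hA]
    linear_combination (-1 - 4 * μ + 4 * μ ^ 2 + 2 * μ ^ 3 + 4 * μ ^ 4 - μ ^ 6 - 3 * μ ^ 8 + μ ^ 9 + 3 * μ ^ 11 - μ ^ 15 + μ ^ 18) * hmod + (1 + 2 * μ - 2 * μ ^ 2 + μ ^ 4 - μ ^ 5) * hchar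
  set P : Dat (F := F) hF := ⟨μ, 1, A, hμ0, hμ, hm, one_ne_zero, hk, hNA⟩
  have hb : P.b = μ + μ ^ 3 := by
    change (μ ^ 3 + 3 * μ) / 1 = _
    rw [div_one]
    linear_combination μ * hchar
  refine P.exists_pair D fun M hu hS => ?_
  have eu : uu σ P.a P.b = !![1, 1 + μ ^ 4 + μ ^ 5, μ + μ ^ 3; 0, 1, 1 + μ ^ 4 + μ ^ 5; 0, 0, 1] := by
    have ea : P.a = A := rfl
    rw [ea, hb, uu, hsA, hA]
    ext i j
    fin_cases i <;> fin_cases j <;> simp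
    linear_combination (-1 - μ ^ 4 - μ ^ 5) * hchar
  have es : P.sm = !![μ, 0, 0; 0, μ + μ ^ 4, 0; μ, 0, μ] := by
    ext i j
    fin_cases i <;> fin_cases j <;> simp [Dat.sm, P]
    · rw [hinv2]; linear_combination (-μ - μ ^ 4) * hchar
    · linear_combination (-μ) * hchar
  have iu : InM hF D M !![1, 1 + μ ^ 4 + μ ^ 5, μ + μ ^ 3; 0, 1, 1 + μ ^ 4 + μ ^ 5; 0, 0, 1] := eu ▸ ⟨uu_good P.hab, hu⟩
  have is : InM hF D M !![μ, 0, 0; 0, μ + μ ^ 4, 0; μ, 0, μ] := es ▸ ⟨P.sm_good, hS⟩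
  have iU : InM hF D M !![1, 1 + μ ^ 4 + μ ^ 5, 1 + μ ^ 2 + μ ^ 3 + μ ^ 5; 0, 1, 1 + μ ^ 4 + μ ^ 5; 0, 0, 1] := iu.inv ((mm_eq (by ring)
      (by linear_combination (1 + μ ^ 4 + μ ^ 5) * hchar)
      (by linear_combination (-2 - μ + μ ^ 2 + 2 * μ ^ 3 + μ ^ 4) * hmod + (2 + μ + μ ^ 3 + μ ^ 4 + μ ^ 5) * hchar)
      (by ring)
      (by ring)
      (by linear_combination (1 + μ ^ 4 + μ ^ 5) * hchar)
      (by ring)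
      (by ring)
      (by ring)).trans one_eq)
  have iS : InM hF D M !![μ ^ 2 + μ ^ 5, 0, 0; 0, μ ^ 2, 0; μ ^ 2 + μ ^ 5, 0, μ ^ 2 + μ ^ 5] := is.inv ((mm_eq (by linear_combination 1 * hmod + (-1) * hchar)
      (by ring)
      (by ring)
      (by ring)
      (by linear_combination 1 * hmod + (-1) * hchar)
      (by ring)
      (by linear_combination 2 * hmod + (-1) * hchar)
      (by ring)
      (by linear_combination 1 * hmod + (-1) * hchar)).trans one_eq)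
  have iz : InM hF D M !![1, 0, 1 + μ + μ ^ 2 + μ ^ 5; 0, 1, 0; 0, 0, 1] := InM.step iu iu (mm_eq (by ring)
      (by linear_combination (1 + μ ^ 4 + μ ^ 5) * hchar)
      (by linear_combination (-2 - μ + μ ^ 2 + 2 * μ ^ 3 + μ ^ 4) * hmod + (1 + μ - μ ^ 2 + μ ^ 3 + μ ^ 4) * hchar)
      (by ring)
      (by ring)
      (by linear_combination (1 + μ ^ 4 + μ ^ 5) * hchar)
      (by ring)
      (by ring)
      (by ring))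
  have g0 : InM hF D M !![μ, 0, 0; 0, μ + μ ^ 4, 0; μ, 0, μ] := is
  have g1 : InM hF D M !![μ, 1 + μ + μ ^ 3 + μ ^ 5, μ ^ 2 + μ ^ 4; 0, μ + μ ^ 4, μ + μ ^ 2 + μ ^ 3 + μ ^ 4; μ, 1 + μ + μ ^ 3 + μ ^ 5, μ + μ ^ 2 + μ ^ 4] := InM.step g0 iu (mm_eq (by ring)
      (by linear_combination 1 * hmod + (-1 - μ ^ 3) * hchar)
      (by ring)
      (by ring)
      (by ring)
      (by linear_combination (μ ^ 2 + μ ^ 3) * hmod + (-μ ^ 2 - μ ^ 3) * hchar)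
      (by ring)
      (by linear_combination 1 * hmod + (-1 - μ ^ 3) * hchar)
      (by ring))
  have g2 : InM hF D M !![μ ^ 2 + μ ^ 3 + μ ^ 5, μ ^ 2 + μ ^ 3 + μ ^ 4 + μ ^ 5, μ ^ 3 + μ ^ 5; μ ^ 2 + μ ^ 3 + μ ^ 4 + μ ^ 5, μ ^ 5, μ ^ 2 + μ ^ 3 + μ ^ 4 + μ ^ 5; μ ^ 3 + μ ^ 5, μ ^ 2 + μ ^ 3 + μ ^ 4 + μ ^ 5, μ ^ 2 + μ ^ 3 + μ ^ 5] := InM.step g1 is (mm_eq (by ring)
      (by linear_combination (μ + μ ^ 3) * hmod + (-μ ^ 3) * hchar)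
      (by ring)
      (by ring)
      (by linear_combination (μ ^ 2) * hmod)
      (by ring)
      (by linear_combination (μ ^ 2) * hchar)
      (by linear_combination (μ + μ ^ 3) * hmod + (-μ ^ 3) * hchar)
      (by ring))
  have g3 : InM hF D M !![μ ^ 2 + μ ^ 3 + μ ^ 5, μ + μ ^ 2 + μ ^ 3 + μ ^ 4 + μ ^ 5, 1 + μ; μ ^ 2 + μ ^ 3 + μ ^ 4 + μ ^ 5, 1 + μ + μ ^ 2 + μ ^ 4, 1 + μ ^ 4 + μ ^ 5; μ ^ 3 + μ ^ 5, 1 + μ ^ 5, 1 + μ + μ ^ 2 + μ ^ 3 + μ ^ 5] := InM.step g2 iu (mm_eq (by ring)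
      (by linear_combination (μ + μ ^ 2 + μ ^ 3 + μ ^ 4) * hmod + (-μ - μ ^ 4) * hchar)
      (by linear_combination (1 + μ + 3 * μ ^ 2 + 2 * μ ^ 3 + μ ^ 4) * hmod + (-1 - μ - μ ^ 2) * hchar)
      (by ring)
      (by linear_combination (-1 + μ + 2 * μ ^ 2 + 2 * μ ^ 3 + μ ^ 4) * hmod + (-μ - μ ^ 2 - μ ^ 4) * hchar)
      (by linear_combination (1 + μ ^ 2 + μ ^ 3 + μ ^ 4) * hmod + (-1 + μ ^ 5) * hchar)
      (by ring)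
      (by linear_combination (-1 + μ ^ 2 + μ ^ 3 + μ ^ 4) * hmod + (μ ^ 3) * hchar)
      (by linear_combination (1 + μ + 3 * μ ^ 2 + 2 * μ ^ 3 + μ ^ 4) * hmod + (-1 - μ - μ ^ 2 - μ ^ 3 - μ ^ 5) * hchar))
  have g4 : InM hF D M !![μ ^ 2 + μ ^ 3 + μ ^ 5, μ ^ 2 + μ ^ 3 + μ ^ 4 + μ ^ 5, 1 + μ; μ ^ 2 + μ ^ 3 + μ ^ 4 + μ ^ 5, μ ^ 5, 1 + μ + μ ^ 2 + μ ^ 3 + μ ^ 5; μ ^ 3 + μ ^ 5, μ ^ 2 + μ ^ 3 + μ ^ 4 + μ ^ 5, 1 + μ ^ 3] := InM.step g3 iu (mm_eq (by ring)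
      (by linear_combination (μ + μ ^ 2 + μ ^ 3 + μ ^ 4) * hmod + (-μ ^ 4) * hchar)
      (by linear_combination (2 + μ + 3 * μ ^ 2 + 2 * μ ^ 3 + μ ^ 4) * hmod + (-1 - μ ^ 2 - μ ^ 3) * hchar)
      (by ring)
      (by linear_combination (-1 + μ + 2 * μ ^ 2 + 2 * μ ^ 3 + μ ^ 4) * hmod + (1 - μ ^ 5) * hchar)
      (by linear_combination (3 + 2 * μ + 2 * μ ^ 2 + μ ^ 3) * hmod + (-1 - μ - μ ^ 2 - 2 * μ ^ 3 + μ ^ 4 + μ ^ 5) * hchar)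
      (by ring)
      (by linear_combination (-1 + μ ^ 2 + μ ^ 3 + μ ^ 4) * hmod + (1 - μ ^ 2 - μ ^ 4) * hchar)
      (by linear_combination (1 - μ + μ ^ 2 + μ ^ 3 + μ ^ 4) * hmod + (μ - μ ^ 3 + μ ^ 4 + μ ^ 5) * hchar))
  have g5 : InM hF D M !![1 + μ + μ ^ 2 + μ ^ 4, 1 + μ + μ ^ 2 + μ ^ 3, μ + μ ^ 2; μ + μ ^ 2 + μ ^ 5, μ ^ 3, 1 + μ + μ ^ 2 + μ ^ 4; 1 + μ + μ ^ 3, 1 + μ + μ ^ 2 + μ ^ 3, μ + μ ^ 4] := InM.step g4 is (mm_eq (by linear_combination 1 * hmod + (-1) * hchar)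
      (by linear_combination (1 + μ + μ ^ 2 + μ ^ 3) * hmod + (-1 - μ - μ ^ 2 - μ ^ 3) * hchar)
      (by ring)
      (by linear_combination 2 * hmod + (-1 + μ ^ 4) * hchar)
      (by linear_combination (μ ^ 3) * hmod + (-μ ^ 3) * hchar)
      (by linear_combination 1 * hmod + (-1) * hchar)
      (by linear_combination 1 * hmod + (-1 - μ ^ 3 + μ ^ 4) * hchar)
      (by linear_combination (1 + μ + μ ^ 2 + μ ^ 3) * hmod + (-1 - μ - μ ^ 2 - μ ^ 3) * hchar)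
      (by ring))
  have g6 : InM hF D M !![1 + μ + μ ^ 2 + μ ^ 4, 1 + μ + μ ^ 2 + μ ^ 3 + μ ^ 4 + μ ^ 5, 1 + μ ^ 3 + μ ^ 4 + μ ^ 5; μ + μ ^ 2 + μ ^ 5, 1 + μ + μ ^ 2 + μ ^ 3 + μ ^ 4, μ ^ 3 + μ ^ 4 + μ ^ 5; 1 + μ + μ ^ 3, 1 + μ + μ ^ 3 + μ ^ 5, μ + μ ^ 2 + μ ^ 3 + μ ^ 5] := InM.step g5 iu (mm_eq (by ring)
      (by linear_combination (1 + μ + μ ^ 2 + μ ^ 3) * hmod + (-μ ^ 3) * hchar)
      (by linear_combination (2 + 3 * μ + μ ^ 2) * hmod + (-1 + μ ^ 2 - μ ^ 4 + μ ^ 5) * hchar)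
      (by ring)
      (by linear_combination (1 + μ ^ 3 + μ ^ 4) * hmod + (-1 - μ ^ 3 - μ ^ 4 + μ ^ 5) * hchar)
      (by linear_combination (1 + μ + 2 * μ ^ 2) * hmod + (-μ ^ 5) * hchar)
      (by ring)
      (by linear_combination (1 + μ + μ ^ 2) * hmod)
      (by linear_combination (3 + 2 * μ + μ ^ 2) * hmod + (-1 - μ ^ 3 + μ ^ 4) * hchar))
  have g7 : InM hF D M !![1 + μ + μ ^ 2 + μ ^ 4, 1 + μ + μ ^ 2 + μ ^ 5, μ ^ 3 + μ ^ 4 + μ ^ 5; 1 + μ + μ ^ 2 + μ ^ 3, 1 + μ ^ 2 + μ ^ 4 + μ ^ 5, μ ^ 2 + μ ^ 3 + μ ^ 4; μ + μ ^ 2 + μ ^ 4 + μ ^ 5, μ + μ ^ 2 + μ ^ 3 + μ ^ 4 + μ ^ 5, 1 + μ + μ ^ 2 + μ ^ 4] := InM.step g6 iS (mm_eq (by linear_combination (1 + μ + μ ^ 2 + 2 * μ ^ 3 + μ ^ 4) * hmod + (-1 - μ - μ ^ 3 - μ ^ 4 + μ ^ 5) * hchar)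
      (by linear_combination (1 + μ) * hmod + (-1 - μ) * hchar)
      (by linear_combination (μ ^ 2 + μ ^ 3 + μ ^ 4) * hmod + (-μ ^ 3 - μ ^ 4) * hchar)
      (by linear_combination (1 + μ + μ ^ 2 + μ ^ 3 + 2 * μ ^ 4) * hmod + (-1 - μ - μ ^ 2 - μ ^ 3 - μ ^ 4) * hchar)
      (by linear_combination 1 * hmod + (-1) * hchar)
      (by linear_combination (μ ^ 2 + μ ^ 3 + μ ^ 4) * hmod + (-μ ^ 2 - μ ^ 3 - μ ^ 4) * hchar)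
      (by linear_combination (2 + μ + 2 * μ ^ 2 + μ ^ 4) * hmod + (-1 - μ - μ ^ 2 - μ ^ 4) * hchar)
      (by linear_combination μ * hmod + (-μ - μ ^ 4) * hchar)
      (by linear_combination (1 + μ + μ ^ 2 + μ ^ 4) * hmod + (-1 - μ - μ ^ 2 - μ ^ 4) * hchar))
  have g8 : InM hF D M !![1 + μ + μ ^ 2 + μ ^ 4, 1 + μ + μ ^ 2 + μ ^ 4, μ ^ 2 + μ ^ 3; 1 + μ + μ ^ 2 + μ ^ 3, μ + μ ^ 2 + μ ^ 3, 1 + μ ^ 3 + μ ^ 4 + μ ^ 5; μ + μ ^ 2 + μ ^ 4 + μ ^ 5, μ ^ 2 + μ ^ 3 + μ ^ 4, μ ^ 5] := InM.step g7 iU (mm_eq (by ring)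
      (by linear_combination (1 + μ + μ ^ 2 + μ ^ 3) * hmod + (-μ ^ 3 + μ ^ 5) * hchar)
      (by linear_combination (2 + 2 * μ + 2 * μ ^ 3 + μ ^ 4) * hmod + (μ ^ 2 - μ ^ 3 + μ ^ 4 + 3 * μ ^ 5) * hchar)
      (by ring)
      (by linear_combination (2 + 2 * μ + μ ^ 2) * hmod + (-μ - μ ^ 3 + μ ^ 5) * hchar)
      (by linear_combination (1 + μ + 2 * μ ^ 2 + 2 * μ ^ 3 + μ ^ 4) * hmod + (μ ^ 2 + μ ^ 4 + μ ^ 5) * hchar)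
      (by ring)
      (by linear_combination (μ ^ 2 + 2 * μ ^ 3 + μ ^ 4) * hmod + (μ - μ ^ 3 + μ ^ 5) * hchar)
      (by linear_combination (1 + 3 * μ + 3 * μ ^ 2 + 3 * μ ^ 3 + 2 * μ ^ 4) * hmod + (-μ ^ 3) * hchar))
  have g9 : InM hF D M !![1 + μ ^ 3 + μ ^ 5, 1 + μ ^ 2 + μ ^ 4, μ + μ ^ 2; 1 + μ + μ ^ 3 + μ ^ 4, μ ^ 3 + μ ^ 4 + μ ^ 5, μ ^ 3 + μ ^ 4 + μ ^ 5; 1 + μ + μ ^ 3, 1 + μ ^ 3 + μ ^ 4 + μ ^ 5, μ ^ 4] := InM.step g8 iS (mm_eq (by linear_combination (1 + 2 * μ + μ ^ 2 + μ ^ 3) * hmod + (-1 - μ - μ ^ 3) * hchar)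
      (by linear_combination 1 * hmod + (-1) * hchar)
      (by linear_combination (μ + μ ^ 2) * hmod + (-μ - μ ^ 2) * hchar)
      (by linear_combination (1 + μ + 2 * μ ^ 2 + μ ^ 3 + μ ^ 4) * hmod + (-1 - μ - μ ^ 3 - μ ^ 4 + μ ^ 5) * hchar)
      (by ring)
      (by linear_combination (μ ^ 2 + μ ^ 3 + μ ^ 4) * hmod + (-μ ^ 3 - μ ^ 4) * hchar)
      (by linear_combination (1 + μ + μ ^ 3 + 2 * μ ^ 4) * hmod + (-1 - μ - μ ^ 3 - μ ^ 4) * hchar)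
      (by linear_combination 1 * hmod + (-1 - μ ^ 3) * hchar)
      (by linear_combination (μ ^ 4) * hmod + (-μ ^ 4) * hchar))
  have g10 : InM hF D M !![1 + μ ^ 3 + μ ^ 5, 1 + μ ^ 3 + μ ^ 4 + μ ^ 5, 1 + μ + μ ^ 5; 1 + μ + μ ^ 3 + μ ^ 4, 1 + μ ^ 3 + μ ^ 5, 1 + μ ^ 2 + μ ^ 5; 1 + μ + μ ^ 3, 1 + μ ^ 2 + μ ^ 3 + μ ^ 4, μ + μ ^ 2 + μ ^ 3] := InM.step g9 iu (mm_eq (by ring)
      (by linear_combination (-1 + μ ^ 2 + μ ^ 3 + μ ^ 4) * hmod + 1 * hchar)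
      (by linear_combination (2 + μ + 2 * μ ^ 2 + μ ^ 3) * hmod + (-1 - μ ^ 3 + μ ^ 4 - μ ^ 5) * hchar)
      (by ring)
      (by linear_combination (μ + 2 * μ ^ 2 + μ ^ 3) * hmod + (-μ ^ 2 + μ ^ 4) * hchar)
      (by linear_combination (-1 + μ + 2 * μ ^ 2 + 2 * μ ^ 3 + μ ^ 4) * hmod + (-μ ^ 2 + μ ^ 3 + μ ^ 4) * hchar)
      (by ring)
      (by linear_combination (1 + μ + μ ^ 2) * hmod + (-μ ^ 2 + μ ^ 5) * hchar)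
      (by linear_combination (-1 + 2 * μ ^ 2 + 2 * μ ^ 3 + μ ^ 4) * hmod + (1 - μ ^ 2 + 2 * μ ^ 4) * hchar))
  have g11 : InM hF D M !![μ ^ 2 + μ ^ 4, μ ^ 2 + μ ^ 3 + μ ^ 4, 1 + μ + μ ^ 2 + μ ^ 3; 1 + μ ^ 2 + μ ^ 4 + μ ^ 5, μ ^ 3 + μ ^ 4, 1 + μ; μ + μ ^ 3, 1 + μ ^ 2 + μ ^ 4, μ ^ 2 + μ ^ 3 + μ ^ 4] := InM.step g10 is (mm_eq (by linear_combination 2 * hmod + (-1 + μ - μ ^ 3) * hchar)
      (by linear_combination (μ + μ ^ 2 + μ ^ 3) * hmod + (-μ ^ 2 - μ ^ 3) * hchar)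
      (by linear_combination 1 * hmod + (-1 - μ ^ 3) * hchar)
      (by linear_combination 1 * hmod + (-1 + μ) * hchar)
      (by linear_combination (μ + μ ^ 3) * hmod + (-μ ^ 3) * hchar)
      (by linear_combination 1 * hmod + (-1) * hchar)
      (by linear_combination (μ ^ 2 + μ ^ 4) * hchar)
      (by linear_combination (1 + μ + μ ^ 2) * hmod + (-1 - μ ^ 2) * hchar)
      (by ring))
  have g12 : InM hF D M !![μ ^ 2 + μ ^ 4, μ + μ ^ 2 + μ ^ 4 + μ ^ 5, 1; 1 + μ ^ 2 + μ ^ 4 + μ ^ 5, μ ^ 5, 1 + μ ^ 2 + μ ^ 4 + μ ^ 5; μ + μ ^ 3, 0, μ + μ ^ 3] := InM.step g11 iu (mm_eq (by ring)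
      (by linear_combination (μ + μ ^ 2 + μ ^ 3) * hmod + (-μ - μ ^ 5) * hchar)
      (by linear_combination (3 * μ + 2 * μ ^ 2 + μ ^ 3) * hmod + (-μ + μ ^ 3 - μ ^ 4) * hchar)
      (by ring)
      (by linear_combination (-1 + μ ^ 2 + 2 * μ ^ 3 + μ ^ 4) * hmod + (1 + μ ^ 4) * hchar)
      (by linear_combination (2 * μ + 3 * μ ^ 2 + μ ^ 3) * hmod + (-2 * μ ^ 2 + μ ^ 3 - μ ^ 4 - μ ^ 5) * hchar)
      (by ring)
      (by linear_combination (1 + μ + μ ^ 2) * hmod)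
      (by linear_combination (1 + μ + μ ^ 2 + μ ^ 3) * hmod + (-μ + μ ^ 2 - μ ^ 3 + 2 * μ ^ 4) * hchar))
  have g13 : InM hF D M !![μ + μ ^ 3 + μ ^ 5, 1 + μ ^ 3 + μ ^ 5, μ; 0, μ ^ 3, 1 + μ + μ ^ 5; 0, 0, μ ^ 2 + μ ^ 4] := InM.step g12 is (mm_eq (by ring)
      (by linear_combination (1 + μ ^ 2 + μ ^ 3) * hmod + (-1 - μ ^ 3) * hchar)
      (by ring)
      (by linear_combination 2 * hmod + (-1 + μ + μ ^ 5) * hchar)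
      (by linear_combination (μ ^ 3) * hmod + (-μ ^ 3) * hchar)
      (by linear_combination 1 * hmod + (-1) * hchar)
      (by linear_combination (μ ^ 2 + μ ^ 4) * hchar)
      (by ring)
      (by ring))
  set c0 : F := 1 + μ + μ ^ 2 + μ ^ 5 with hc0def
  have hc : c0 = A * A := by rw [hc0def, hA]; linear_combination (2 + μ - μ ^ 2 - 2 * μ ^ 3 - μ ^ 4) * hmod + (-1 + μ ^ 2 - μ ^ 4) * hchar
  have hc0 : σ c0 = -c0 := by rw [hc, map_mul, hsA]; linear_combination (A * A) * hchar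
  have hc00 : c0 ≠ 0 := by
    rw [hc]; exact mul_ne_zero P.a_ne P.a_ne
  set α : F := μ + μ ^ 3 + μ ^ 5 with hα
  have hσα : σ α = 1 + μ ^ 2 + μ ^ 3 + μ ^ 4 + μ ^ 5 := by
    rw [hα]
    simp only [map_add, map_mul, map_one, map_pow, map_ofNat, hσμ]
    linear_combination (1 + μ ^ 2 - μ ^ 4 - μ ^ 6 + μ ^ 7 + μ ^ 9 - μ ^ 13 - μ ^ 15 + μ ^ 16 + μ ^ 18 - μ ^ 22 + μ ^ 25 - μ ^ 31 + μ ^ 34) * hmod + (-1 - μ ^ 2 - μ ^ 3 - μ ^ 5) * hchar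
  have hρ : α * σ α = 1 + μ ^ 4 + μ ^ 5 := by rw [hσα, hα]; linear_combination (1 + μ + 2 * μ ^ 2 + μ ^ 3 + μ ^ 4) * hmod + (-1 - μ ^ 2 - μ ^ 4) * hchar
  have hρ1 : α * σ α ≠ 1 := fun h => by
    rw [hρ] at h
    have h' : ((1 + μ ^ 4 + μ ^ 5) - 1) * (1 + μ + μ ^ 2 + μ ^ 5) = 1 := by linear_combination (1 + μ ^ 3 + μ ^ 4) * hmod + (-1 - μ ^ 3 + μ ^ 5) * hchar
    rw [h, sub_self, zero_mul] at h'
    exact zero_ne_one h'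
  have hα0 : α ≠ 0 := fun h => one_ne_zero (α := F) (show (1 : F) = 0 by have h0 : (μ + μ ^ 3 + μ ^ 5 : F) * (μ + μ ^ 4 + μ ^ 5) = 1 := (by linear_combination (1 + μ ^ 2 + μ ^ 3 + μ ^ 4) * hmod + (-1 - μ ^ 3) * hchar); rw [← hα, h, zero_mul] at h0; exact h0.symm)
  refine top_of_loop D P.hab P.a_ne hu (by norm_num) hc0 hc00 ?_ g13.2 hα0 ?_ ?_ hS (P.sm_moves D)
  · refine (?_ : elt hF D _ = elt hF D _) ▸ iz.2
    congr 1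
    ext i j
    fin_cases i <;> fin_cases j <;> simp [uu, hc0def, -conjHom_apply]
  · rw [← vec_P D, elt_apply D g13.1, vecOf_smul]
    congr 1
    funext i
    fin_cases i <;> simp [Matrix.mulVec, dotProduct, Fin.sum_univ_three, hα]
  · have hρ0 : α * σ α ≠ 0 := mul_ne_zero hα0 fun e => hα0 (by rw [← σσ hF α, e, map_zero])
    have pow7 : ∀ x : F, σ x = x → x ≠ 0 → x ^ 7 = 1 := fun x hx hx0 => by
      rw [hσ, σ_apply hF] at hx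
      exact mul_left_cancel₀ hx0 (by linear_combination hx)
    haveI : Fact (Nat.Prime 7) := ⟨by norm_num⟩
    have hprim : IsPrimitiveRoot (α * σ α) 7 :=
      IsPrimitiveRoot.iff_orderOf.2 (orderOf_eq_prime (pow7 _ (σ_norm hF α) hρ0) hρ1)
    intro x hx hx0
    obtain ⟨k, -, hk⟩ := hprim.eq_pow_of_pow_eq_one (pow7 x hx hx0)
    exact ⟨k, hk.symm⟩

end Cfsg.Agent.RegUnip.SU3
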