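/-
SU_3(5) is generated by two conjugate regular unipotent elements.
Main result (namespace `Cfsg.Agent.RegUnip.SU3`): `exists_pair_five`.
-/
import Cfsg.Agent.Lib.RegUnip.SU3Calc

set_option autoImplicit false
set_option linter.unusedSectionVars false

namespace Cfsg.Agent.RegUnip.SU3

open Cfsg.Agent.Unitary Cfsg.Agent.RegUnip.SU
open scoped Matrix

variable {F : Type*} [Field F] [Fintype F]

theorem exists_pair_five (hF : Fintype.card F = 5 ^ 2) :
    ∃ u g : ↥(Cfsg.SU 3 F 5), (IsNilpotent (((u : Matrix.SpecialLinearGroup (Fin 3) F) : Matrix (Fin 3) (Fin 3) F) - 1) ∧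
      (((u : Matrix.SpecialLinearGroup (Fin 3) F) : Matrix (Fin 3) (Fin 3) F) - 1) ^ (3 - 1) ≠ 0) ∧
      Subgroup.closure ({u, g * u * g⁻¹} : Set ↥(Cfsg.SU 3 F 5)) = ⊤ := by
  obtain ⟨D⟩ := exists_frame (F := F) (n := 3) (l := 0) hF rfl
  set σ := Cfsg.Agent.Unitary.conjHom hF with hσ
  have hchar : (5 : F) = 0 := by
    have h : ((Fintype.card F : ℕ) : F) = 0 := FiniteField.cast_card_eq_zero F
    rw [hF] at h
    push_cast at h
    exact mul_self_eq_zero.1 (by linear_combination h)
  obtain ⟨t, ht, hmod⟩ : ∃ t : F, σ t = -t ∧ t ^ 2 - 2 = 0 := by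
    obtain ⟨d, hd0, hd⟩ := exists_skew hF
    have hd' : σ d = -d := hd
    rw [hσ, σ_apply hF] at hd'
    have h4 : d ^ 4 = -1 := mul_left_cancel₀ hd0 (by linear_combination hd')
    have : (d ^ 2 - 2) * (d ^ 2 - 3) = 0 := by linear_combination h4 + (1 - d ^ 2) * hchar
    rcases mul_eq_zero.1 this with h | h
    · exact ⟨d, hd, h⟩
    · exact ⟨2 * d, by rw [map_mul, map_ofNat]; rw [show σ d = -d from hd]; ring, by linear_combination 4 * h + 2 * hchar⟩
  set a : F := 1
  set b : F := 2 + t with hb
  have hab : b + σ b + a * σ a = 0 := by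
    rw [hb, map_add, map_ofNat, ht, map_one]; linear_combination hchar
  have hu : uu σ a b = !![1, 4, 2 + t; 0, 1, 1; 0, 0, 1] := by
    ext i j
    fin_cases i <;> fin_cases j <;> simp [uu, a, hb, -conjHom_apply]
    linear_combination -hchar
  have hJg : Good σ !![0, 0, 2 * t; 0, 1, 0; t, 0, 0] := by
    apply good_of_cols <;> simp [Matrix.det_fin_three, ht, map_ofNat, -conjHom_apply] <;>
      first
        | linear_combination (-2 : F) * hmod - hchar
        | linear_combination (2 : F) * hmod + hchar
  have hJ2g : Good σ !![0, 0, 3 * t; 0, 1, 0; 4 * t, 0, 0] := hJg.of_mul_eq_one ((mm_eq (by linear_combination 8 * hmod + 3 * hchar)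
        (by ring)
        (by ring)
        (by ring)
        (by ring)
        (by ring)
        (by ring)
        (by ring)
        (by linear_combination 3 * hmod + 1 * hchar)).trans one_eq)
  set u := elt hF D (uu σ a b) with hud
  set G := elt hF D !![0, 0, 2 * t; 0, 1, 0; t, 0, 0] with hG
  refine ⟨u, G, uu_regular D hab one_ne_zero, ?_⟩
  set M := Subgroup.closure ({u, G * u * G⁻¹} : Set ↥(Cfsg.SU 3 F 5))
  have iu : InM hF D M !![1, 4, 2 + t; 0, 1, 1; 0, 0, 1] := hu ▸ ⟨uu_good hab, Subgroup.subset_closure (Or.inl rfl)⟩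
  have hGi : elt hF D !![0, 0, 3 * t; 0, 1, 0; 4 * t, 0, 0] = G⁻¹ := by
    refine (inv_eq_of_mul_eq_one_right ?_).symm
    rw [hG, elt_mul D hJg hJ2g, (mm_eq (by linear_combination 8 * hmod + 3 * hchar)
        (by ring)
        (by ring)
        (by ring)
        (by ring)
        (by ring)
        (by ring)
        (by ring)
        (by linear_combination 3 * hmod + 1 * hchar)).trans one_eq, elt_one]
  have eJu : !![0, 0, 2 * t; 0, 1, 0; t, 0, 0] * !![1, 4, 2 + t; 0, 1, 1; 0, 0, 1] = !![0, 0, 2 * t; 0, 1, 1; t, 4 * t, 2 + 2 * t] := mm_eq (by ring)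
        (by ring)
        (by ring)
        (by ring)
        (by ring)
        (by ring)
        (by ring)
        (by ring)
        (by linear_combination 1 * hmod)
  have eJuJ : !![0, 0, 2 * t; 0, 1, 1; t, 4 * t, 2 + 2 * t] * !![0, 0, 3 * t; 0, 1, 0; 4 * t, 0, 0] = !![1, 0, 0; 4 * t, 1, 0; 1 + 3 * t, 4 * t, 1] := mm_eq (by linear_combination 8 * hmod + 3 * hchar)
        (by ring)
        (by ring)
        (by ring)
        (by ring)
        (by ring)
        (by linear_combination 8 * hmod + (3 + t) * hchar)
        (by ring)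
        (by linear_combination 3 * hmod + 1 * hchar)
  have iv : InM hF D M !![1, 0, 0; 4 * t, 1, 0; 1 + 3 * t, 4 * t, 1] := by
    have g1 : Good σ !![0, 0, 2 * t; 0, 1, 1; t, 4 * t, 2 + 2 * t] := eJu ▸ hJg.mul (hu ▸ uu_good hab)
    refine ⟨eJuJ ▸ g1.mul hJ2g, ?_⟩
    rw [← eJuJ, ← elt_mul D g1 hJ2g, hGi, ← eJu, ← elt_mul D hJg (hu ▸ uu_good hab), ← hu]
    exact Subgroup.subset_closure (Or.inr rfl)
  have iU : InM hF D M !![1, 1, 2 + 4 * t; 0, 1, 4; 0, 0, 1] := iu.inv ((mm_eq (by ring)
        (by linear_combination 1 * hchar)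
        (by linear_combination (4 + t) * hchar)
        (by ring)
        (by ring)
        (by linear_combination 1 * hchar)
        (by ring)
        (by ring)
        (by ring)).trans one_eq)
  have iV : InM hF D M !![1, 0, 0; t, 1, 0; 1 + 2 * t, t, 1] := iv.inv ((mm_eq (by ring)
        (by ring)
        (by ring)
        (by linear_combination t * hchar)
        (by ring)
        (by ring)
        (by linear_combination 4 * hmod + (2 + t) * hchar)
        (by linear_combination t * hchar)
        (by ring)).trans one_eq)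
  have gT0 : InM hF D M !![1, 0, 0; 4 * t, 1, 0; 1 + 3 * t, 4 * t, 1] := iv
  have gT1 : InM hF D M !![1, 4, 2 + t; 4 * t, 1 + t, 4 + 3 * t; 1 + 3 * t, 4 + t, 4 + t] := InM.step gT0 iu (mm_eq (by ring)
      (by ring)
      (by ring)
      (by ring)
      (by linear_combination (3 * t) * hchar)
      (by linear_combination 4 * hmod + (1 + t) * hchar)
      (by ring)
      (by linear_combination (3 * t) * hchar)
      (by linear_combination 3 * hmod + (1 + 2 * t) * hchar))
  have gT2 : InM hF D M !![1, 3, 3 + 2 * t; 4 * t, 1 + 2 * t, 3 + 2 * t; 1 + 3 * t, 3 + 3 * t, 1 + 4 * t] := InM.step gT1 iu (mm_eq (by ring)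
      (by linear_combination 1 * hchar)
      (by linear_combination 1 * hchar)
      (by ring)
      (by linear_combination (3 * t) * hchar)
      (by linear_combination 4 * hmod + (2 + 2 * t) * hchar)
      (by ring)
      (by linear_combination (1 + 2 * t) * hchar)
      (by linear_combination 3 * hmod + (3 + t) * hchar))
  have gT3 : InM hF D M !![2 + t, 2 + 3 * t, 3 + 2 * t; 3 * t, 0, 3 + 2 * t; 4 + 2 * t, 1 + 4 * t, 1 + 4 * t] := InM.step gT2 iV (mm_eq (by linear_combination 4 * hmod + (2 + 2 * t) * hchar)
      (by linear_combination 2 * hmod + 1 * hchar)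
      (by ring)
      (by linear_combination 6 * hmod + (3 + 2 * t) * hchar)
      (by linear_combination 2 * hmod + (1 + t) * hchar)
      (by ring)
      (by linear_combination 11 * hmod + (4 + 2 * t) * hchar)
      (by linear_combination 4 * hmod + 2 * hchar)
      (by ring))
  have gT4 : InM hF D M !![2 + t, 2 * t, 1 + 4 * t; 3 * t, 2 * t, 4 + 3 * t; 4 + 2 * t, 2 + 2 * t, 4 + t] := InM.step gT3 iu (mm_eq (by ring)
      (by linear_combination (2 + t) * hchar)
      (by linear_combination 1 * hmod + (2 + t) * hchar)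
      (by ring)
      (by linear_combination (2 * t) * hchar)
      (by linear_combination 3 * hmod + (1 + t) * hchar)
      (by ring)
      (by linear_combination (3 + 2 * t) * hchar)
      (by linear_combination 2 * hmod + (2 + 3 * t) * hchar))
  have gT5 : InM hF D M !![3 + 2 * t, 3 + 3 * t, 1 + 4 * t; 4 * t, 1 + t, 4 + 3 * t; 1 + 3 * t, 4 + t, 4 + t] := InM.step gT4 iV (mm_eq (by linear_combination 10 * hmod + (4 + t) * hchar)
      (by linear_combination 4 * hmod + 1 * hchar)
      (by ring)
      (by linear_combination 8 * hmod + (4 + 2 * t) * hchar)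
      (by linear_combination 3 * hmod + (1 + t) * hchar)
      (by ring)
      (by linear_combination 4 * hmod + (3 + 2 * t) * hchar)
      (by linear_combination 1 * hmod + t * hchar)
      (by ring))
  have gT6 : InM hF D M !![3 + 2 * t, 1, 2 * t; 4 * t, 1, 0; 1 + 3 * t, 4 * t, 1] := InM.step gT5 iU (mm_eq (by ring)
      (by linear_combination (1 + t) * hchar)
      (by linear_combination 8 * hmod + (7 + 6 * t) * hchar)
      (by ring)
      (by linear_combination t * hchar)
      (by linear_combination 16 * hmod + (8 + 3 * t) * hchar)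
      (by ring)
      (by linear_combination 1 * hchar)
      (by linear_combination 12 * hmod + (9 + 3 * t) * hchar))
  have gT7 : InM hF D M !![1, 0, 2 * t; 0, 1, 0; 0, 0, 1] := InM.step gT6 iV (mm_eq (by linear_combination 4 * hmod + (2 + t) * hchar)
      (by linear_combination 2 * hmod + 1 * hchar)
      (by ring)
      (by linear_combination t * hchar)
      (by ring)
      (by ring)
      (by linear_combination 4 * hmod + (2 + t) * hchar)
      (by linear_combination t * hchar)
      (by ring))
  have gL0 : InM hF D M !![1, 0, 0; t, 1, 0; 1 + 2 * t, t, 1] := iV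
  have gL1 : InM hF D M !![1, 4, 2 + t; t, 1 + 4 * t, 3 + 2 * t; 1 + 2 * t, 4 + 4 * t, 2 + t] := InM.step gL0 iu (mm_eq (by ring)
      (by ring)
      (by ring)
      (by ring)
      (by ring)
      (by linear_combination 1 * hmod)
      (by ring)
      (by linear_combination t * hchar)
      (by linear_combination 2 * hmod + (1 + t) * hchar))
  have gL2 : InM hF D M !![4 + 3 * t, 2 + 3 * t, 2 + t; 2 + t, 2 + t, 3 + 2 * t; 1, 2 + 2 * t, 2 + t] := InM.step gL1 iv (mm_eq (by linear_combination 3 * hmod + (1 + 4 * t) * hchar)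
      (by linear_combination 4 * hmod + (2 + t) * hchar)
      (by ring)
      (by linear_combination 22 * hmod + (9 + 3 * t) * hchar)
      (by linear_combination 8 * hmod + (3 + 3 * t) * hchar)
      (by ring)
      (by linear_combination 19 * hmod + (8 + 5 * t) * hchar)
      (by linear_combination 4 * hmod + (2 + 2 * t) * hchar)
      (by ring))
  have gL3 : InM hF D M !![1 + 3 * t, t, 2 + t; 0, 3 + 3 * t, 3 + 2 * t; 0, 0, 2 + t] := InM.step gL2 iv (mm_eq (by linear_combination 15 * hmod + (7 + 3 * t) * hchar)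
      (by linear_combination 4 * hmod + (2 + 2 * t) * hchar)
      (by ring)
      (by linear_combination 10 * hmod + (5 + 4 * t) * hchar)
      (by linear_combination 8 * hmod + (3 + 2 * t) * hchar)
      (by ring)
      (by linear_combination 11 * hmod + (5 + 3 * t) * hchar)
      (by linear_combination 4 * hmod + (2 + 2 * t) * hchar)
      (by ring))
  have hc0 : σ (2 * t) = -(2 * t) := by rw [map_mul, map_ofNat, ht]; ring
  have h2t : 2 * t ≠ 0 := by
    intro h
    have h1 : (4 : F) = 0 := by linear_combination t * h - (2 : F) * hmod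
    exact one_ne_zero (α := F) (by linear_combination hchar - h1)
  have hN : (1 + 3 * t) * σ (1 + 3 * t) = 3 := by
    rw [map_add, map_one, map_mul, map_ofNat, ht]
    linear_combination (-9 : F) * hmod - 4 * hchar
  refine top_of_loop D hab one_ne_zero (Subgroup.subset_closure (Or.inl rfl)) (by norm_num) hc0 h2t ?_ gL3.2
    (α := 1 + 3 * t) ?_ ?_ ?_ iv.2 ?_
  · refine (?_ : elt hF D _ = elt hF D _) ▸ gT7.2
    congr 1
    ext i j
    fin_cases i <;> fin_cases j <;> simp [uu, -conjHom_apply]
  · intro h
    rw [h, zero_mul] at hN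
    exact one_ne_zero (α := F) (by linear_combination 3 * hN + 2 * hchar)
  · rw [← vec_P D, elt_apply D gL3.1, vecOf_smul]
    congr 1
    funext i
    fin_cases i <;> simp [Matrix.mulVec, dotProduct, Fin.sum_univ_three]
  · intro x hx hx0
    rw [σ_apply hF] at hx
    rw [hN]
    have h4 : x ^ 4 = 1 := mul_left_cancel₀ hx0 (by linear_combination hx)
    have : (x - 1) * (x + 1) * ((x - 2) * (x + 2)) = 0 := by linear_combination h4 + (1 - x ^ 2) * hchar
    rcases mul_eq_zero.1 this with h | h <;> rcases mul_eq_zero.1 h with h' | h'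
    · exact ⟨0, by linear_combination h'⟩
    · exact ⟨2, by linear_combination h' - 2 * hchar⟩
    · exact ⟨3, by linear_combination h' - 5 * hchar⟩
    · exact ⟨1, by linear_combination h' - hchar⟩
  · rw [← vec_P D, elt_apply D iv.1, h_vecOf (hF := hF)]
    simp [g3, Matrix.mulVec, dotProduct, Fin.sum_univ_three, -conjHom_apply]
    intro h
    have hσ' : σ (1 + 3 * t) = 1 - 3 * t := by rw [map_add, map_one, map_mul, map_ofNat, ht]; ring
    rw [h, zero_mul] at hN
    exact one_ne_zero (α := F) (by linear_combination 3 * hN + 2 * hchar)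

end Cfsg.Agent.RegUnip.SU3
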